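import Cfsg.Agent.Lib.SelfCentEight.Basic
import Cfsg.Agent.Lib.HaradaDB.Section

/-!
Cheap criteria for sectional 2-rank at most four.
-/

set_option autoImplicit false
set_option linter.style.haveILetI false
set_option linter.unusedSectionVars false

namespace CfsgLib.FixityFour

open CfsgLib.MacWilliams (sqSub mul_self_mem_sqSub sqSub_le sqSub_mono sqSub_le_iff)

universe u

variable {P : Type u} [Group P] [Finite P]

/-- A cyclic subgroup of index at most eight bounds the sectional rank by four. -/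
theorem sectional_of_cyclic (C : Subgroup P) [IsCyclic C] (hC : C.index ≤ 8) :
    Cfsg.SectionalPRankLE 2 4 P := by
  refine SelfCentEight.sectional_of_bound fun B => ?_
  have h1 : Nat.card B ≤ 8 * Nat.card ↥(C ⊓ B) := by
    have hpos : 0 < Nat.card ↥(C ⊓ B) := Nat.card_pos
    have h2 : (C ⊓ B).relIndex B ≤ C.index := by
      rw [Subgroup.inf_relIndex_right, ← Subgroup.relIndex_top_right]
      exact Subgroup.relIndex_le_of_le_right le_top (by
        rw [Subgroup.relIndex_top_right]; exact Subgroup.index_ne_zero_of_finite)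
    rw [← Subgroup.relIndex_bot_left B, ← Subgroup.relIndex_mul_relIndex ⊥ (C ⊓ B) B bot_le inf_le_right,
      Subgroup.relIndex_bot_left, mul_comm]
    exact Nat.mul_le_mul_right _ (h2.trans hC)
  have h3 : Nat.card ↥(C ⊓ B) ≤ 2 * Nat.card (sqSub B) := by
    have hcyc : IsCyclic ↥(C ⊓ B) :=
      isCyclic_of_injective (Subgroup.inclusion (inf_le_left : C ⊓ B ≤ C))
        (Subgroup.inclusion_injective _)
    obtain ⟨g, hg⟩ := IsCyclic.exists_generator (α := ↥(C ⊓ B))
    have hz : C ⊓ B = Subgroup.zpowers (g : P) := le_antisymm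
      (fun x hx => by
        obtain ⟨k, hk⟩ := Subgroup.mem_zpowers_iff.1 (hg ⟨x, hx⟩)
        exact ⟨k, congrArg Subtype.val hk⟩)
      (Subgroup.zpowers_le.2 g.2)
    have hsq : Nat.card (Subgroup.zpowers ((g : P) ^ 2)) ≤ Nat.card (sqSub B) :=
      Subgroup.card_le_of_le (Subgroup.zpowers_le.2 (by
        rw [pow_two]
        exact mul_self_mem_sqSub (show (g : P) ∈ B from g.2.2)))
    rw [hz, Nat.card_zpowers]
    rw [Nat.card_zpowers, orderOf_pow] at hsq
    have hd : (orderOf (g : P)).gcd 2 ≤ 2 := Nat.le_of_dvd two_pos (Nat.gcd_dvd_right _ _)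
    have hh := Nat.div_mul_cancel (Nat.gcd_dvd_left (orderOf (g : P)) 2)
    calc orderOf (g : P) = orderOf (g : P) / (orderOf (g : P)).gcd 2 * (orderOf (g : P)).gcd 2 :=
          hh.symm
      _ ≤ Nat.card (sqSub B) * 2 := Nat.mul_le_mul hsq hd
      _ = _ := mul_comm _ _
  calc Nat.card B ≤ 8 * Nat.card ↥(C ⊓ B) := h1
    _ ≤ 8 * (2 * Nat.card (sqSub B)) := Nat.mul_le_mul_left 8 h3
    _ = _ := by ring

/-- Groups of order at most sixteen. -/
theorem sectional_of_card_le (h : Nat.card P ≤ 16) : Cfsg.SectionalPRankLE 2 4 P :=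
  SelfCentEight.sectional_of_bound fun B => by
    have hpos : 0 < Nat.card (sqSub B) := Nat.card_pos
    have := B.card_le_card_group
    calc Nat.card B ≤ 16 := this.trans h
      _ ≤ _ := Nat.le_mul_of_pos_right 16 hpos

/-- Groups of order at most thirty-two which are not elementary abelian. -/
theorem sectional_of_card_le_thirty_two (hP : IsPGroup 2 P) (h : Nat.card P ≤ 32) {x : P}
    (hx : x * x ≠ 1) : Cfsg.SectionalPRankLE 2 4 P :=
  SelfCentEight.sectional_of_bound fun B => by
    have hle := B.card_le_card_group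
    by_cases h16 : Nat.card B ≤ 16
    · exact h16.trans (Nat.le_mul_of_pos_right 16 Nat.card_pos)
    have hB : B = ⊤ := by
      refine Subgroup.eq_top_of_le_card _ ?_
      haveI := Fact.mk Nat.prime_two
      obtain ⟨i, hi⟩ := (hP.to_subgroup B).exists_card_eq
      obtain ⟨j, hj⟩ := hP.exists_card_eq
      have hi' : 5 ≤ i := by
        by_contra hc
        have := Nat.pow_le_pow_right (show 2 > 0 by norm_num) (show i ≤ 4 by omega)
        omega
      have := Nat.pow_le_pow_right (show 2 > 0 by norm_num) hi'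
      omega
    have h2 : 2 ≤ Nat.card (sqSub B) :=
      SelfCentEight.two_le_card (mul_self_mem_sqSub (hB ▸ Subgroup.mem_top x)) hx
    omega

/-- From a Sylow 2-subgroup to the whole group. -/
theorem sectional_of_sylow {G : Type u} [Group G] [Finite G] (S : Sylow 2 G)
    (h : Cfsg.SectionalPRankLE 2 4 ↥(S : Subgroup G)) : Cfsg.SectionalPRankLE 2 4 G := by
  refine HaradaDB.sectional_of_secLE S fun K M hK hM hsq => ?_
  set H := K.subgroupOf (S : Subgroup G)
  set N := (M.subgroupOf (S : Subgroup G)).subgroupOf H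
  have hsqN : ∀ x : H, x * x ∈ N := fun x => hsq _ x.2
  haveI : N.Normal := by
    refine ⟨fun m hm g => ?_⟩
    have : g * m * g⁻¹ = (g * m) * (g * m) * ((m⁻¹ * g⁻¹ * m) * (m⁻¹ * g⁻¹ * m)) * (m⁻¹ * m⁻¹) * m *
      (g⁻¹ * g * 1) := by group
    rw [this]
    refine mul_mem (mul_mem (mul_mem (mul_mem (hsqN _) (hsqN _)) (hsqN _)) hm) ?_
    simp
  have hc : IsMulCommutative (H ⧸ N) := ⟨⟨fun a b => by
    have hone : ∀ q : H ⧸ N, q * q = 1 := fun q => QuotientGroup.induction_on q fun x => by
      rw [← QuotientGroup.mk_mul, QuotientGroup.eq_one_iff]; exact hsqN x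
    have hinv : ∀ q : H ⧸ N, q⁻¹ = q := fun q => inv_eq_of_mul_eq_one_right (hone q)
    calc a * b = (a * b)⁻¹ := (hinv _).symm
      _ = b * a := by rw [mul_inv_rev, hinv, hinv]⟩⟩
  have := h H N ⊤ ⟨⟨fun a b => Subtype.ext (hc.is_comm.comm _ _)⟩⟩ fun q _ =>
    QuotientGroup.induction_on q fun x => by
      rw [pow_two, ← QuotientGroup.mk_mul, QuotientGroup.eq_one_iff]; exact hsqN x
  rw [Subgroup.card_top, ← Subgroup.index_eq_card] at this
  calc M.relIndex K = (M.subgroupOf (S : Subgroup G)).relIndex H :=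
        (Subgroup.relIndex_subgroupOf hK).symm
    _ ≤ 2 ^ 4 := this

end CfsgLib.FixityFour
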