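import Cfsg.Agent.Lib.FixityFour.Setup
import Cfsg.Agent.Lib.FixityFour.Rank

/-!
Data for the four-point involutions of a 2-group lying outside a distinguished quadruple.
-/

set_option autoImplicit false
set_option linter.style.haveILetI false
set_option linter.unusedSectionVars false

open MulAction
open scoped Pointwise

namespace CfsgLib.FixityFour

variable {G Ω : Type*} [Group G] [MulAction G Ω]

/-- The elements of `S` fixing every point fixed by `u`. -/
def quadKernel (S : Subgroup G) (Ω : Type*) [MulAction G Ω] (u : G) : Subgroup G :=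
  S ⊓ fixingSubgroup G (fixedBy Ω u)

/-- `u` is an involution of `S` fixing a point outside `Q₀`. -/
def IsFixer (S : Subgroup G) (Q₀ : Set Ω) (u : G) : Prop :=
  u ∈ S ∧ orderOf u = 2 ∧ ∃ b ∉ Q₀, u • b = b

/-- What the rank argument for involutions with four fixed points outside `Q₀` needs. -/
structure FixerData (S : Subgroup G) (Q₀ : Set Ω) : Prop where
  isP : IsPGroup 2 S
  bound : ∀ g : G, g ≠ 1 → (fixedBy Ω g).ncard ≤ 4
  four : ∀ u, IsFixer S Q₀ u → (fixedBy Ω u).ncard = 4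
  apart : ∀ u, IsFixer S Q₀ u → ∀ b ∈ Q₀, u • b ≠ b
  small : ∀ u, IsFixer S Q₀ u → Nat.card (quadKernel S Ω u) ≤ 4
  exp : ∀ u, IsFixer S Q₀ u → ∀ x ∈ quadKernel S Ω u, x * x = 1
  inv : ∀ s ∈ S, s • Q₀ = Q₀
  lift : ∀ u, IsFixer S Q₀ u → Nat.card (quadKernel S Ω u) = 4 → ∀ d ∈ S,
    d • fixedBy Ω u = fixedBy Ω u → (∃ b ∈ fixedBy Ω u, d • b = b) →
    d ∈ quadKernel S Ω u ∨ ∃ x ∈ S, x * x = 1 ∧ d⁻¹ * x ∈ quadKernel S Ω u

/-- The action on a set of four points. -/
theorem exists_quadPerm [Finite Ω] {Q : Set Ω} (hQ : Q.ncard = 4) :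
    ∃ (ρ : MulAction.stabilizer G Q →* Equiv.Perm (Fin 4)) (e : Q ≃ Fin 4),
      (∀ (g : MulAction.stabilizer G Q) (x y : Q), ρ g (e x) = e y ↔ (g : G) • (x : Ω) = y) ∧
      ∀ g : MulAction.stabilizer G Q, ρ g = 1 ↔ (g : G) ∈ fixingSubgroup G Q := by
  obtain e : Q ≃ Fin 4 := Finite.equivFinOfCardEq (by rw [Nat.card_coe_set_eq, hQ])
  have hmem : ∀ (g : MulAction.stabilizer G Q) (x : Ω), (g : G) • x ∈ Q ↔ x ∈ Q := fun g x => by
    have h := Set.smul_mem_smul_set_iff (a := (g : G)) (s := Q) (x := x)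
    rwa [MulAction.mem_stabilizer_iff.1 g.2] at h
  let ρ₀ : MulAction.stabilizer G Q →* Equiv.Perm Q :=
    { toFun := fun g => (MulAction.toPerm (g : G)).subtypePerm (p := (· ∈ Q)) (hmem g)
      map_one' := by ext x; exact one_smul G (x : Ω)
      map_mul' := fun a b => by ext x; exact mul_smul (a : G) (b : G) (x : Ω) }
  refine ⟨(e.permCongrHom.toMonoidHom).comp ρ₀, e, fun g x y => ?_, fun g => ?_⟩
  · show e.permCongr (ρ₀ g) (e x) = e y ↔ _
    rw [Equiv.permCongr_apply, Equiv.symm_apply_apply, e.apply_eq_iff_eq]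
    exact Subtype.ext_iff
  · rw [mem_fixingSubgroup_iff]
    refine ⟨fun h x hx => ?_, fun h => ?_⟩
    · have h1 : e.permCongr (ρ₀ g) (e ⟨x, hx⟩) = e ⟨x, hx⟩ :=
        congrArg (fun σ : Equiv.Perm (Fin 4) => σ (e ⟨x, hx⟩)) h
      rw [Equiv.permCongr_apply, Equiv.symm_apply_apply, e.apply_eq_iff_eq] at h1
      exact congrArg Subtype.val h1
    · show e.permCongrHom (ρ₀ g) = 1
      rw [show ρ₀ g = 1 from by ext x; exact h x x.2, map_one]

set_option synthInstance.maxSize 1024 in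
set_option synthInstance.maxHeartbeats 200000 in
/-- Three pairwise commuting involutions of four letters. -/
theorem perm_four_commuting : ∀ a b c : Equiv.Perm (Fin 4), a * a = 1 → b * b = 1 → a ≠ 1 → b ≠ 1 →
    a ≠ b → a * b = b * a → a * c = c * a → b * c = c * b → c = 1 ∨ c = a ∨ c = b ∨ c = a * b := by
  decide +kernel

end CfsgLib.FixityFour
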