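import Cfsg.Agent.Lib.FixityFour.Setup
import Cfsg.Agent.Lib.FixityFour.Rank
import Cfsg.Agent.Lib.FixityFour.FixerData

/-!
A Sylow 2-subgroup inducing a cyclic group of order four on a distinguished quadruple, when the
number of points is four modulo eight, has sectional rank at most four.
-/

set_option autoImplicit false
set_option linter.style.haveILetI false
set_option linter.unusedSectionVars false

open MulAction
open scoped Pointwise

namespace CfsgLib.FixityFour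

set_option synthInstance.maxSize 1024 in
set_option synthInstance.maxHeartbeats 200000 in
/-- An even involution of four letters commutes with every fixed-point-free one. -/
theorem perm_four_even_free : ∀ σ τ : Equiv.Perm (Fin 4), σ * σ = 1 → τ * τ = 1 →
    (σ = 1 ∨ ∀ i, σ i ≠ i) → (∀ i, τ i ≠ i) → σ * τ = τ * σ := by
  decide +kernel

universe u

variable {G : Type u} [Group G] {Ω : Type*} [MulAction G Ω]

/-- A 2-group `S` permuting a quadruple `Q` whose elements fixing `a` fix exactly `Q`. -/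
structure CycData (S : Subgroup G) (a : Ω) (Q : Set Ω) : Prop where
  isP : IsPGroup 2 S
  four : Q.ncard = 4
  mem : a ∈ Q
  inv : ∀ s ∈ S, s • Q = Q
  exact : ∀ x ∈ S, x ≠ 1 → x • a = a → fixedBy Ω x = Q

namespace CycData

variable [Finite Ω] {S : Subgroup G} {a : Ω} {Q : Set Ω} (hd : CycData S a Q)
include hd

theorem smul_mem_iff {s : G} (hs : s ∈ S) (x : Ω) : s • x ∈ Q ↔ x ∈ Q := by
  have h := Set.smul_mem_smul_set_iff (a := s) (s := Q) (x := x)
  rwa [hd.inv s hs] at h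

theorem fix_quad {x : G} (hx : x ∈ S) (hxa : x • a = a) {q : Ω} (hq : q ∈ Q) : x • q = q := by
  rcases eq_or_ne x 1 with rfl | h
  · exact one_smul G q
  · rw [← hd.exact x hx h hxa] at hq
    exact hq

theorem free {x : G} (hx : x ∈ S) (hx1 : x ≠ 1) (hxa : x • a = a) {b : Ω} (hb : b ∉ Q) :
    x • b ≠ b := fun h => hb (hd.exact x hx hx1 hxa ▸ h)

/-- The part fixing `a` is normal in `S`. -/
theorem conj_fix {s x : G} (hs : s ∈ S) (hx : x ∈ S) (hxa : x • a = a) :
    (s * x * s⁻¹) • a = a := by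
  rw [mul_smul, mul_smul, hd.fix_quad hx hxa ((hd.smul_mem_iff (inv_mem hs) a).2 hd.mem),
    smul_inv_smul]

variable {y : G}

/-- An element whose square moves `a` has period four on `a`. -/
theorem pow_fix_iff (hy : y ∈ S) (hy2 : (y * y) • a ≠ a) (j : ℕ) :
    y ^ j • a = a ↔ 4 ∣ j := by
  rw [pow_smul_eq_iff_period_dvd]
  suffices h : MulAction.period y a = 4 by rw [h]
  have hmemQ : ∀ i : ℕ, y ^ i • a ∈ Q := fun i => (hd.smul_mem_iff (pow_mem hy i) a).2 hd.mem
  obtain ⟨i, k, hik, hd4, heq⟩ : ∃ i k : ℕ, i < k ∧ k ≤ 4 ∧ y ^ i • a = y ^ k • a := by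
    by_contra hcon
    push Not at hcon
    have hinj : Function.Injective fun i : Fin 5 => (⟨y ^ (i : ℕ) • a, hmemQ i⟩ : Q) := by
      intro i k h
      have h' : y ^ (i : ℕ) • a = y ^ (k : ℕ) • a := congrArg Subtype.val h
      apply Fin.ext
      rcases Nat.lt_trichotomy (i : ℕ) k with hlt | he | hgt
      · exact absurd h' (hcon i k hlt (by omega))
      · exact he
      · exact absurd h'.symm (hcon k i hgt (by omega))
    have := Nat.card_le_card_of_injective _ hinj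
    rw [Nat.card_fin, Nat.card_coe_set_eq, hd.four] at this
    omega
  have hdiv : MulAction.period y a ∣ k - i := by
    rw [← pow_smul_eq_iff_period_dvd]
    apply smul_left_cancel (y ^ i)
    rw [← mul_smul, ← pow_add, show i + (k - i) = k by omega]
    exact heq.symm
  have hle := Nat.le_of_dvd (by omega) hdiv
  obtain ⟨r, hr⟩ := (hd.isP ⟨y, hy⟩)
  have hpow : MulAction.period y a ∣ 2 ^ r := by
    rw [← pow_smul_eq_iff_period_dvd]
    have : y ^ 2 ^ r = 1 := congrArg Subtype.val hr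
    rw [this, one_smul]
  obtain ⟨s, -, hs⟩ := (Nat.dvd_prime_pow Nat.prime_two).1 hpow
  have hne : ¬ MulAction.period y a ∣ 2 := by
    rw [← pow_smul_eq_iff_period_dvd, pow_two]
    exact hy2
  rcases Nat.lt_or_ge s 2 with h | h
  · exact absurd (hs ▸ pow_dvd_pow 2 (show s ≤ 1 by omega)) hne
  · have := Nat.pow_le_pow_right (show 2 > 0 by norm_num) h
    omega

theorem exists_shift (hy : y ∈ S) (hy2 : (y * y) • a ≠ a) {q : Ω} (hq : q ∈ Q) :
    ∃ i < 4, y ^ i • a = q := by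
  have hinj : Function.Injective fun i : Fin 4 => y ^ (i : ℕ) • a := by
    intro i k h
    dsimp only at h
    apply Fin.ext
    rcases Nat.le_total (i : ℕ) k with hle | hle
    · have : 4 ∣ (k : ℕ) - i := by
        rw [← hd.pow_fix_iff hy hy2]
        apply smul_left_cancel (y ^ (i : ℕ))
        rw [← mul_smul, ← pow_add, show (i : ℕ) + (k - i) = k by omega]
        exact h.symm
      omega
    · have : 4 ∣ (i : ℕ) - k := by
        rw [← hd.pow_fix_iff hy hy2]
        apply smul_left_cancel (y ^ (k : ℕ))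
        rw [← mul_smul, ← pow_add, show (k : ℕ) + (i - k) = i by omega]
        exact h
      omega
  have hsub : Set.range (fun i : Fin 4 => y ^ (i : ℕ) • a) = Q := by
    refine Set.eq_of_subset_of_ncard_le ?_ ?_ (Set.toFinite _)
    · rintro _ ⟨i, rfl⟩
      exact (hd.smul_mem_iff (pow_mem hy _) a).2 hd.mem
    · rw [Set.ncard_range_of_injective hinj, Nat.card_fin, hd.four]
  rw [← hsub] at hq
  obtain ⟨i, hi⟩ := hq
  exact ⟨i, i.2, hi⟩

/-- Every element of `S` shifts the quadruple. -/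
theorem exists_index (hy : y ∈ S) (hy2 : (y * y) • a ≠ a) {s : G} (hs : s ∈ S) :
    ∃ i < 4, y ^ i • a = s • a :=
  hd.exists_shift hy hy2 ((hd.smul_mem_iff hs a).2 hd.mem)

theorem smul_shift (hy : y ∈ S) {s : G} (hs : s ∈ S) {i : ℕ} (hi : y ^ i • a = s • a) (k : ℕ) :
    s • y ^ k • a = y ^ (i + k) • a := by
  have hx : (y ^ i)⁻¹ * s ∈ S := mul_mem (inv_mem (pow_mem hy i)) hs
  have hxa : ((y ^ i)⁻¹ * s) • a = a := by rw [mul_smul, ← hi, inv_smul_smul]
  have h := hd.fix_quad hx hxa ((hd.smul_mem_iff (pow_mem hy k) a).2 hd.mem)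
  rw [mul_smul, inv_smul_eq_iff] at h
  rw [h, ← mul_smul, ← pow_add]

theorem pow_fix_quad (hy : y ∈ S) (hy2 : (y * y) • a ≠ a) {q : Ω} (hq : q ∈ Q) (j : ℕ) :
    y ^ j • q = q ↔ 4 ∣ j := by
  obtain ⟨i, -, rfl⟩ := hd.exists_shift hy hy2 hq
  rw [← hd.pow_fix_iff hy hy2, ← mul_smul, ← pow_add, add_comm, pow_add, mul_smul,
    smul_left_cancel_iff]

theorem inter_fix_eq_empty (hy : y ∈ S) (hy2 : (y * y) • a ≠ a) : Q ∩ fixedBy Ω y = ∅ := by
  rw [Set.eq_empty_iff_forall_notMem]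
  rintro x ⟨hx, hxy⟩
  have h := (hd.pow_fix_quad hy hy2 hx 1).1 (by rwa [pow_one])
  omega

variable [Finite G]

theorem card_le_four_mul (hy : y ∈ S) (hy2 : (y * y) • a ≠ a) :
    Nat.card S ≤ 4 * Nat.card ↥(S ⊓ stabilizer G a) := by
  let f : Fin 4 × ↥(S ⊓ stabilizer G a) → S := fun p =>
    ⟨y ^ (p.1 : ℕ) * p.2.1, mul_mem (pow_mem hy _) p.2.2.1⟩
  have hf : Function.Surjective f := by
    rintro ⟨s, hs⟩
    obtain ⟨i, hi, hia⟩ := hd.exists_index hy hy2 hs
    refine ⟨(⟨i, hi⟩, ⟨(y ^ i)⁻¹ * s, S.mul_mem (S.inv_mem (pow_mem hy i)) hs, ?_⟩), ?_⟩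
    · show ((y ^ i)⁻¹ * s) • a = a
      rw [mul_smul, ← hia, inv_smul_smul]
    · exact Subtype.ext (mul_inv_cancel_left (y ^ i) s)
  have := Nat.card_le_card_of_surjective f hf
  rwa [Nat.card_prod, Nat.card_fin] at this

variable [IsSimpleGroup G]

/-- A long generator gives a cyclic subgroup of index at most four. -/
theorem sectional_of_long (h : Hyp G Ω) (hn : Nat.card Ω % 8 = 4) (hy : y ∈ S)
    (hy2 : (y * y) • a ≠ a) (hlong : y ^ 4 ≠ 1) : Cfsg.SectionalPRankLE 2 4 ↥S := by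
  obtain ⟨r, hr⟩ := hd.isP ⟨y, hy⟩
  have hr' : y ^ 2 ^ r = 1 := congrArg Subtype.val hr
  obtain ⟨s, -, hs⟩ := (Nat.dvd_prime_pow Nat.prime_two).1 (orderOf_dvd_of_pow_eq_one hr')
  have hs3 : 3 ≤ s := by
    by_contra hc
    refine hlong (orderOf_dvd_iff_pow_eq_one.1 ?_)
    rw [hs]
    exact pow_dvd_pow 2 (show s ≤ 2 by omega)
  obtain ⟨e, rfl⟩ : ∃ e, s = e + 1 := ⟨s - 1, by omega⟩
  have ht1 : y ^ 2 ^ e ≠ 1 :=
    pow_ne_one_of_lt_orderOf (by positivity) (by
      rw [hs, pow_succ]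
      have : 0 < 2 ^ e := by positivity
      omega)
  have hta : y ^ 2 ^ e • a = a :=
    (hd.pow_fix_iff hy hy2 _).2 ⟨2 ^ (e - 2), by
      rw [show (4 : ℕ) = 2 ^ 2 by norm_num, ← pow_add, show 2 + (e - 2) = e by omega]⟩
  have hsp := sign_split h.hna y Q (hd.inv y hy) (2 ^ (e + 1)) 4
    ((even_two.pow_of_ne_zero (by omega))) (by positivity) ⟨2, rfl⟩ (by norm_num)
    (period_of_involution_free hs fun x hx => hd.free (pow_mem hy _) ht1 hta hx)
    (fun x hx _ j => hd.pow_fix_quad hy hy2 hx j)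
  rw [hd.four, hd.inter_fix_eq_empty hy hy2, Set.ncard_empty] at hsp
  obtain ⟨⟨c, hc⟩, hev⟩ := hsp
  rw [hc, Nat.mul_div_cancel_left _ (by positivity)] at hev
  have hodd : ¬ 2 ∣ c := by
    rintro ⟨d, rfl⟩
    rw [Nat.sub_zero, Nat.div_self (by norm_num), Nat.even_add_one] at hev
    exact hev ⟨d, by ring⟩
  have hA : Nat.card ↥(S ⊓ stabilizer G a) ∣ 2 ^ (e + 1) * c := by
    rw [← hc, ← hd.four]
    exact card_dvd_of_semiregular _ Q (fun k hk => hd.smul_mem_iff hk.1)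
      (fun k hk hk1 x hx => hd.free hk.1 hk1 hk.2 hx)
  have hAle : Nat.card ↥(S ⊓ stabilizer G a) ≤ 2 ^ (e + 1) := by
    haveI : Fact (Nat.Prime 2) := ⟨Nat.prime_two⟩
    obtain ⟨i, hi⟩ := (hd.isP.to_le (inf_le_left : S ⊓ stabilizer G a ≤ S)).exists_card_eq
    rw [hi] at hA ⊢
    exact Nat.le_of_dvd (by positivity)
      (Nat.Coprime.dvd_of_dvd_mul_right
        (Nat.Coprime.pow_left i (Nat.prime_two.coprime_iff_not_dvd.2 hodd)) hA)
  refine sectional_of_cyclic (Subgroup.zpowers (⟨y, hy⟩ : S)) ?_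
  have hmul := (Subgroup.zpowers (⟨y, hy⟩ : S)).card_mul_index
  rw [Nat.card_zpowers, Subgroup.orderOf_mk, hs] at hmul
  have hS := (hd.card_le_four_mul hy hy2).trans (Nat.mul_le_mul_left 4 hAle)
  rw [← hmul, mul_comm 4] at hS
  have := Nat.le_of_mul_le_mul_left hS (by positivity)
  omega

/-- The square of a generator of order four fixes four points, none in `Q`. -/
theorem fix_sq (h : Hyp G Ω) (hn : Nat.card Ω % 8 = 4) (hy : y ∈ S)
    (hy2 : (y * y) • a ≠ a) (hy4 : y ^ 4 = 1) :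
    orderOf y = 2 ^ (1 + 1) ∧ (fixedBy Ω (y * y)).ncard = 4 ∧
      ∀ b ∈ fixedBy Ω (y * y), b ∉ Q := by
  haveI : Fact (Nat.Prime 2) := ⟨Nat.prime_two⟩
  have hne : y * y ≠ 1 := fun hh => hy2 (by rw [hh, one_smul])
  have hord : orderOf y = 2 ^ (1 + 1) :=
    orderOf_eq_prime_pow (by rw [pow_one, pow_two]; exact hne) hy4
  have hord2 : orderOf (y * y) = 2 :=
    orderOf_eq_prime (by rw [← pow_two y, ← pow_mul]; exact hy4) hne
  have hoff : ∀ b ∈ fixedBy Ω (y * y), b ∉ Q := fun b hb hbQ => by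
    have h' := (hd.pow_fix_quad hy hy2 hbQ 2).1 (by rw [pow_two]; exact hb)
    omega
  refine ⟨hord, ?_, hoff⟩
  have hpar := involution_parity (Ω := Ω) h.hna hord2
  have hle := h.ncard_le hne
  rcases Nat.eq_zero_or_pos (fixedBy Ω (y * y)).ncard with h0 | hpos
  · exfalso
    rw [Set.ncard_eq_zero] at h0
    have hsp := sign_split h.hna y (∅ : Set Ω) Set.smul_set_empty 4 2 ⟨2, rfl⟩ (by norm_num)
      even_two two_pos
      (period_of_involution_free (e := 1) hord fun x _ hx => by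
        rw [pow_one, pow_two] at hx
        exact Set.eq_empty_iff_forall_notMem.1 h0 x hx)
      (fun x hx => absurd hx (Set.notMem_empty x))
    rw [Set.ncard_empty, Nat.zero_sub, Nat.zero_div, add_zero, Nat.sub_zero] at hsp
    obtain ⟨⟨c, hc⟩, d, hd'⟩ := hsp
    rw [hc, Nat.mul_div_cancel_left _ (by norm_num)] at hd'
    omega
  · omega

/-- The part fixing `a` and commuting with the square of a generator has at most four elements. -/
theorem card_cent_le (h : Hyp G Ω) (hn : Nat.card Ω % 8 = 4) (hy : y ∈ S)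
    (hy2 : (y * y) • a ≠ a) (hy4 : y ^ 4 = 1) :
    Nat.card ↥(S ⊓ stabilizer G a ⊓ Subgroup.centralizer {y * y}) ≤ 4 := by
  obtain ⟨-, h4, hoff⟩ := hd.fix_sq h hn hy hy2 hy4
  obtain ⟨b, hb⟩ : (fixedBy Ω (y * y)).Nonempty := (Set.ncard_pos).1 (by omega)
  have hmem : ∀ c : ↥(S ⊓ stabilizer G a ⊓ Subgroup.centralizer {y * y}),
      (c : G) • b ∈ fixedBy Ω (y * y) := fun c => by
    have hc : y * y * (c : G) = (c : G) * (y * y) :=
      Subgroup.mem_centralizer_iff.1 c.2.2 _ rfl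
    have := smul_eq_self_of_commute (Ω := Ω) hc.symm
    rw [← this]
    exact Set.smul_mem_smul_set hb
  have hinj : Function.Injective
      fun c : ↥(S ⊓ stabilizer G a ⊓ Subgroup.centralizer {y * y}) =>
        (⟨(c : G) • b, hmem c⟩ : fixedBy Ω (y * y)) := by
    intro c d hcd
    have h' : (c : G) • b = (d : G) • b := congrArg Subtype.val hcd
    have hk : (c : G)⁻¹ * d ∈ S ⊓ stabilizer G a := mul_mem (inv_mem c.2.1) d.2.1
    by_contra hne
    refine hd.free hk.1 (fun h1 => hne (Subtype.ext (inv_mul_eq_one.1 h1))) hk.2 (hoff b hb) ?_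
    rw [mul_smul, ← h', inv_smul_smul]
  have := Nat.card_le_card_of_injective _ hinj
  rwa [Nat.card_coe_set_eq, h4] at this

/-- A generator commutes with the involutions fixing `a` that commute with its square. -/
theorem commute_of_commute_sq (h : Hyp G Ω) (hn : Nat.card Ω % 8 = 4) (hy : y ∈ S)
    (hy2 : (y * y) • a ≠ a) (hy4 : y ^ 4 = 1) {c : G} (hc : c ∈ S) (hca : c • a = a)
    (hcc : c * c = 1) (hcu : y * y * c = c * (y * y)) : y * c = c * y := by
  rcases eq_or_ne c 1 with rfl | hc1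
  · rw [mul_one, one_mul]
  obtain ⟨hord, h4, hoff⟩ := hd.fix_sq h hn hy hy2 hy4
  set Q' := fixedBy Ω (y * y) with hQ'
  have hyQ : y • Q' = Q' := smul_eq_self_of_commute (by rw [mul_assoc])
  have hcQ : c • Q' = Q' := smul_eq_self_of_commute hcu.symm
  obtain ⟨ρ, e, hρ, hρ1⟩ := exists_quadPerm (G := G) h4
  set gy : stabilizer G Q' := ⟨y, hyQ⟩
  set gc : stabilizer G Q' := ⟨c, hcQ⟩
  have hσ : ρ gy * ρ gy = 1 := by
    rw [← map_mul, hρ1, mem_fixingSubgroup_iff]
    exact fun x hx => hx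
  have hτ : ρ gc * ρ gc = 1 := by
    rw [← map_mul, show gc * gc = 1 from Subtype.ext hcc, map_one]
  have hτfree : ∀ i, ρ gc i ≠ i := fun i hi => by
    obtain ⟨x, rfl⟩ := e.surjective i
    exact hd.free hc hc1 hca (hoff x x.2) ((hρ gc x x).1 hi)
  have hdich : ρ gy = 1 ∨ ∀ i, ρ gy i ≠ i := by
    by_cases hfix : ∃ x ∈ Q', y • x = x
    swap
    · right
      intro i hi
      obtain ⟨x, rfl⟩ := e.surjective i
      exact hfix ⟨x, x.2, (hρ gy x x).1 hi⟩
    left
    rw [hρ1, mem_fixingSubgroup_iff]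
    intro x hx
    by_contra hxm
    obtain ⟨b, hb, hyb⟩ := hfix
    have hyx : y • x ∈ Q' := by rw [← hyQ]; exact Set.smul_mem_smul_set hx
    have hsp := sign_split h.hna y Q' hyQ 4 2 ⟨2, rfl⟩ (by norm_num) even_two two_pos
      (period_of_involution_free (e := 1) hord fun z hz hz' => hz (by
        rw [pow_one, pow_two] at hz'; exact hz'))
      (fun z hz hzm j => by
        rcases Nat.mod_two_eq_zero_or_one j with hj | hj
        · refine iff_of_true ?_ (Nat.dvd_of_mod_eq_zero hj)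
          obtain ⟨k, rfl⟩ := Nat.dvd_of_mod_eq_zero hj
          rw [pow_mul, pow_two]
          exact fixedBy_pow_subset k hz
        · refine iff_of_false (fun hjz => hzm ?_) (by omega)
          obtain ⟨k, rfl⟩ : ∃ k, j = 2 * k + 1 := ⟨j / 2, by omega⟩
          rw [pow_succ, mul_smul] at hjz
          have hzk : (y ^ (2 * k)) • (y • z) = y • z := by
            rw [pow_mul, pow_two]
            refine fixedBy_pow_subset k ?_
            show y • z ∈ Q'
            rw [← hyQ]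
            exact Set.smul_mem_smul_set hz
          rwa [hzk] at hjz)
    have hlow : 1 ≤ (Q' ∩ fixedBy Ω y).ncard := by
      rw [Nat.one_le_iff_ne_zero, Ne, Set.ncard_eq_zero, ← Ne, ← Set.nonempty_iff_ne_empty]
      exact ⟨b, hb, hyb⟩
    have hup : (Q' ∩ fixedBy Ω y).ncard ≤ 2 := by
      have hyx2 : y • y • x ≠ y • x := fun hh => hxm (smul_left_cancel y hh)
      have hsub : (Q' ∩ fixedBy Ω y) ⊆ Q' \ {x, y • x} := by
        rintro z ⟨hz, hzy⟩
        refine ⟨hz, ?_⟩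
        rintro (rfl | rfl)
        · exact hxm hzy
        · exact hyx2 hzy
      have h2 : (Q' \ {x, y • x}).ncard = 2 := by
        rw [Set.ncard_sdiff (Set.insert_subset hx (Set.singleton_subset_iff.2 hyx)), h4,
          Set.ncard_pair (Ne.symm hxm)]
      exact h2 ▸ Set.ncard_le_ncard hsub (Set.toFinite _)
    rw [h4] at hsp
    obtain ⟨⟨k, hk⟩, d, hd'⟩ := hsp
    rw [hk, Nat.mul_div_cancel_left _ (by norm_num)] at hd'
    omega
  have hcomm := perm_four_even_free _ _ hσ hτ hdich hτfree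
  have hone : ρ (gy * gc * gy⁻¹ * gc⁻¹) = 1 := by
    rw [map_mul, map_mul, map_mul, map_inv, map_inv, hcomm, mul_inv_cancel_right, mul_inv_cancel]
  rw [hρ1, mem_fixingSubgroup_iff] at hone
  have hk : y * c * y⁻¹ * c⁻¹ ∈ S := mul_mem (mul_mem (mul_mem hy hc) (inv_mem hy)) (inv_mem hc)
  have hka : (y * c * y⁻¹ * c⁻¹) • a = a := by
    rw [mul_smul, inv_smul_eq_iff.2 hca.symm]
    exact hd.conj_fix hy hc hca
  obtain ⟨b, hb⟩ : Q'.Nonempty := (Set.ncard_pos).1 (by omega)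
  by_contra hne
  refine hd.free hk (fun h1 => hne ?_) hka (hoff b hb) (hone b hb)
  calc y * c = (y * c * y⁻¹ * c⁻¹) * (c * y) := by group
    _ = c * y := by rw [h1, one_mul]

/-- A generator centralises an elementary abelian normal part fixing `a`. -/
theorem commute_normal (h : Hyp G Ω) (hn : Nat.card Ω % 8 = 4) (hy : y ∈ S)
    (hy2 : (y * y) • a ≠ a) (hy4 : y ^ 4 = 1) {B : Subgroup G} (hBS : B ≤ S)
    (hBa : ∀ b ∈ B, b • a = a) (hBconj : ∀ b ∈ B, ∀ s ∈ S, s * b * s⁻¹ ∈ B)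
    (hBc : ∀ b ∈ B, ∀ c ∈ B, b * c = c * b) (hBq : ∀ b ∈ B, b * b = 1) {b : G} (hb : b ∈ B) :
    y * b = b * y ∧ y * y * b = b * (y * y) := by
  have key : ∀ c ∈ B, y * y * c = c * (y * y) → y * c = c * y := fun c hc hcu =>
    hd.commute_of_commute_sq h hn hy hy2 hy4 (hBS hc) (hBa c hc) (hBq c hc) hcu
  have huS : y * y ∈ S := mul_mem hy hy
  have hconj : ∀ p q x : G, p * x * p⁻¹ = q → (p * x = q * p) := fun p q x hh => by
    rw [← hh]; group
  set b₁ := y * b * y⁻¹ with hb₁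
  set b₂ := (y * y) * b * (y * y)⁻¹ with hb₂
  have hb1 : b₁ ∈ B := hBconj b hb y hy
  have hb2 : b₂ ∈ B := hBconj b hb _ huS
  have hyb1 : y * b₁ * y⁻¹ = b₂ := by rw [hb₁, hb₂]; group
  have hub2 : (y * y) * b₂ * (y * y)⁻¹ = b := by
    have hu2 : (y * y) * (y * y) = 1 := by
      rw [← pow_two y, ← pow_add]
      exact hy4
    calc (y * y) * b₂ * (y * y)⁻¹ = ((y * y) * (y * y)) * b * ((y * y) * (y * y))⁻¹ := by
          rw [hb₂]; group
      _ = b := by rw [hu2]; group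
  -- `c₀ = b₂ b` commutes with the square, hence with the generator
  have hc0u : (y * y) * (b₂ * b) = (b₂ * b) * (y * y) := by
    refine hconj _ _ _ ?_
    calc (y * y) * (b₂ * b) * (y * y)⁻¹
        = ((y * y) * b₂ * (y * y)⁻¹) * ((y * y) * b * (y * y)⁻¹) := by group
      _ = b₂ * b := by rw [hub2, ← hb₂, hBc b hb b₂ hb2]
  have hc0y := key _ (mul_mem hb2 hb) hc0u
  set d := b₁ * b with hd
  have hyd : y * d * y⁻¹ = b₂ * b₁ := by
    calc y * d * y⁻¹ = (y * b₁ * y⁻¹) * (y * b * y⁻¹) := by rw [hd]; group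
      _ = _ := by rw [hyb1]
  have hyd2 : b₂ * b₁ = (b₂ * b) * d := by
    rw [hd, hBc b₁ hb1 b hb, mul_assoc b₂ b (b * b₁), ← mul_assoc b b b₁, hBq b hb, one_mul]
  have hdu : (y * y) * d = d * (y * y) := by
    refine hconj _ _ _ ?_
    calc (y * y) * d * (y * y)⁻¹ = y * (y * d * y⁻¹) * y⁻¹ := by group
      _ = y * ((b₂ * b) * d) * y⁻¹ := by rw [hyd, hyd2]
      _ = (y * (b₂ * b) * y⁻¹) * (y * d * y⁻¹) := by group
      _ = (b₂ * b) * ((b₂ * b) * d) := by rw [hyd, hyd2, hc0y, mul_inv_cancel_right]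
      _ = d := by rw [← mul_assoc, hBq _ (mul_mem hb2 hb), one_mul]
  have hdy := key d (mul_mem hb1 hb) hdu
  have hbu : (y * y) * b = b * (y * y) := by
    refine hconj _ _ _ ?_
    have h0 : b₂ * b₁ = d := by rw [← hyd, hdy, mul_inv_cancel_right]
    rw [hd, hBc b₁ hb1 b hb] at h0
    exact mul_right_cancel h0
  exact ⟨key b hb hbu, hbu⟩

end CycData

variable [Finite G] [IsSimpleGroup G] [Finite Ω]

/-- No generator is long: small order or small normal elementary abelian subgroups. -/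
theorem CycData.sectional_of_short {S : Subgroup G} {a : Ω} {Q : Set Ω} (hd : CycData S a Q)
    (h : Hyp G Ω) (hn : Nat.card Ω % 8 = 4) {y : G} (hy : y ∈ S) (hy2 : (y * y) • a ≠ a)
    (hall : ∀ g ∈ S, (g * g) • a ≠ a → g ^ 4 = 1) : Cfsg.SectionalPRankLE 2 4 ↥S := by
  by_cases h16 : Nat.card S ≤ 16
  · exact sectional_of_card_le h16
  refine SelfCentEight.sectional_of_bound fun K =>
    MacWilliams.card_le_sixteen_mul_sqSub hd.isP (fun E₀ hE₀n hE₀c hE₀q => ?_) K
  by_contra hbig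
  apply h16
  set E := E₀.map S.subtype with hEdef
  have hES : E ≤ S := Subgroup.map_subtype_le _
  have hEconj : ∀ x ∈ E, ∀ s ∈ S, s * x * s⁻¹ ∈ E := by
    rintro _ ⟨x, hx, rfl⟩ s hs
    exact ⟨(⟨s, hs⟩ : S) * x * (⟨s, hs⟩ : S)⁻¹, hE₀n.conj_mem x hx _, rfl⟩
  have hEc : ∀ x ∈ E, ∀ z ∈ E, x * z = z * x := by
    rintro _ ⟨x, hx, rfl⟩ _ ⟨z, hz, rfl⟩
    rw [← map_mul, ← map_mul]
    exact congrArg S.subtype (congrArg Subtype.val (hE₀c.is_comm.comm ⟨x, hx⟩ ⟨z, hz⟩))
  have hEq : ∀ x ∈ E, x * x = 1 := by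
    rintro _ ⟨x, hx, rfl⟩
    rw [← map_mul, ← pow_two, hE₀q x hx, map_one]
  have hEcard : 5 ≤ Nat.card E := by
    rw [hEdef, Subgroup.card_map_of_injective S.subtype_injective]
    omega
  set B := E ⊓ stabilizer G a with hBdef
  have hBS : B ≤ S := inf_le_left.trans hES
  have hBa : ∀ b ∈ B, b • a = a := fun b hb => hb.2
  have hBconj : ∀ b ∈ B, ∀ s ∈ S, s * b * s⁻¹ ∈ B := fun b hb s hs =>
    ⟨hEconj b hb.1 s hs, hd.conj_fix hs (hES hb.1) hb.2⟩
  have hBc : ∀ b ∈ B, ∀ c ∈ B, b * c = c * b := fun b hb c hc => hEc b hb.1 c hc.1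
  have hBq : ∀ b ∈ B, b * b = 1 := fun b hb => hEq b hb.1
  have hy4 := hall y hy hy2
  have hgen : ∀ g ∈ S, (g * g) • a ≠ a → ∀ b ∈ B, g * b = b * g := fun g hg hg2 b hb =>
    (hd.commute_normal h hn hg hg2 (hall g hg hg2) hBS hBa hBconj hBc hBq hb).1
  -- `B` is central in `S`
  have hcen : ∀ s ∈ S, ∀ b ∈ B, s * b = b * s := by
    intro s hs b hb
    by_cases hs2 : (s * s) • a = a
    swap
    · exact hgen s hs hs2 b hb
    obtain ⟨i, hi4, hi⟩ := hd.exists_index hy hy2 hs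
    have hss : y ^ (i + i) • a = a := by
      rw [← hd.smul_shift hy hs hi, hi, ← mul_smul, hs2]
    have hii := (hd.pow_fix_iff hy hy2 _).1 hss
    have hsy : (s * y) • a = y ^ (i + 1) • a := by
      have := hd.smul_shift hy hs hi 1
      rwa [pow_one, ← mul_smul] at this
    have hsy2 : ((s * y) * (s * y)) • a ≠ a := by
      rw [mul_smul, hsy, hd.smul_shift hy (mul_mem hs hy) hsy.symm, Ne, hd.pow_fix_iff hy hy2]
      omega
    have h1 := hgen _ (mul_mem hs hy) hsy2 b hb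
    rw [mul_assoc, hgen y hy hy2 b hb, ← mul_assoc, ← mul_assoc] at h1
    exact mul_right_cancel h1
  -- elements of `E` moving `a` move it to the opposite point
  have hopp : ∀ x ∈ E, x • a ≠ a → x • a = (y * y) • a := by
    intro x hx hxa
    obtain ⟨i, hi4, hi⟩ := hd.exists_index hy hy2 (hES hx)
    have hxx : y ^ (i + i) • a = a := by
      rw [← hd.smul_shift hy (hES hx) hi, hi, ← mul_smul, hEq x hx, one_smul]
    have hii := (hd.pow_fix_iff hy hy2 _).1 hxx
    have hi0 : i ≠ 0 := fun h0 => hxa (by rw [← hi, h0, pow_zero, one_smul])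
    rw [← hi, show i = 2 by omega, pow_two]
  have hdiff : ∀ x ∈ E, ∀ z ∈ E, x • a ≠ a → z • a ≠ a → x⁻¹ * z ∈ B := fun x hx z hz hxa hza =>
    ⟨E.mul_mem (E.inv_mem hx) hz, by
      show (x⁻¹ * z) • a = a
      rw [mul_smul, hopp z hz hza, ← hopp x hx hxa, inv_smul_smul]⟩
  obtain ⟨e, he, hea⟩ : ∃ e ∈ E, e • a ≠ a := by
    by_contra hcon
    push Not at hcon
    have hle : E ≤ S ⊓ stabilizer G a ⊓ Subgroup.centralizer {y * y} := fun x hx => by
      refine ⟨⟨hES hx, hcon x hx⟩, Subgroup.mem_centralizer_iff.2 ?_⟩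
      rintro _ rfl
      exact hcen _ (mul_mem hy hy) x ⟨hx, hcon x hx⟩
    have := (Subgroup.card_le_of_le hle).trans (hd.card_cent_le h hn hy hy2 hy4)
    omega
  have hEB : Nat.card E ≤ 2 * Nat.card B := by
    let f : Bool × B → E := fun p =>
      ⟨(if p.1 then e else 1) * p.2.1, mul_mem (by split_ifs; exacts [he, one_mem E]) p.2.2.1⟩
    have hf : Function.Surjective f := by
      rintro ⟨x, hx⟩
      by_cases hxa : x • a = a
      · exact ⟨(false, ⟨x, hx, hxa⟩), Subtype.ext (one_mul x)⟩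
      · exact ⟨(true, ⟨e⁻¹ * x, hdiff e he x hx hea hxa⟩), Subtype.ext (mul_inv_cancel_left e x)⟩
    have := Nat.card_le_card_of_surjective f hf
    rwa [Nat.card_prod, Nat.card_eq_fintype_card (α := Bool), Fintype.card_bool] at this
  -- `B` is all of the part fixing `a` commuting with `y * y`
  set C := S ⊓ stabilizer G a ⊓ Subgroup.centralizer {y * y} with hCdef
  have hBC : B ≤ C := fun b hb => ⟨⟨hBS hb, hb.2⟩, Subgroup.mem_centralizer_iff.2 (by
    rintro _ rfl; exact hcen _ (mul_mem hy hy) b hb)⟩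
  have hC4 := hd.card_cent_le h hn hy hy2 hy4
  have hBeq : B = C := by
    haveI : Fact (Nat.Prime 2) := ⟨Nat.prime_two⟩
    refine Subgroup.eq_of_le_of_card_ge hBC ?_
    obtain ⟨i, hi⟩ := (hd.isP.to_le hBS).exists_card_eq
    rw [hi] at hEB ⊢
    rcases Nat.lt_or_ge i 2 with hlt | hge
    · have := Nat.pow_le_pow_right (show 2 > 0 by norm_num) (show i ≤ 1 by omega)
      omega
    · exact hC4.trans (Nat.pow_le_pow_right (show 2 > 0 by norm_num) hge)
  -- `y * y` lies in `E`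
  set u := y * y with hu
  have heS := hES he
  have hye : (y * e * y⁻¹) • a ≠ a := fun hh => by
    have := hd.conj_fix (inv_mem hy) (mul_mem (mul_mem hy heS) (inv_mem hy)) hh
    exact hea (by rwa [show y⁻¹ * (y * e * y⁻¹) * y⁻¹⁻¹ = e by group] at this)
  have hb0 := hdiff e he _ (hEconj e he y hy) hea hye
  have hue : u * e = e * u := by
    set b := e⁻¹ * (y * e * y⁻¹) with hb
    have h1 : y * e * y⁻¹ = e * b := (mul_inv_cancel_left e _).symm
    have h2 : u * e * u⁻¹ = e := by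
      calc u * e * u⁻¹ = y * (y * e * y⁻¹) * y⁻¹ := by rw [hu]; group
        _ = y * (e * b) * y⁻¹ := by rw [h1]
        _ = (y * e * y⁻¹) * (y * b * y⁻¹) := by group
        _ = e * (b * b) := by rw [h1, hcen y hy b hb0, mul_inv_cancel_right, mul_assoc]
        _ = e := by rw [hBq b hb0, mul_one]
    calc u * e = (u * e * u⁻¹) * u := by group
      _ = e * u := by rw [h2]
  have ha0 : u⁻¹ * e ∈ B := by
    rw [hBeq]
    refine ⟨⟨S.mul_mem (S.inv_mem (S.mul_mem hy hy)) heS, ?_⟩, Subgroup.mem_centralizer_iff.2 ?_⟩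
    · show (u⁻¹ * e) • a = a
      rw [mul_smul, hopp e he hea, inv_smul_smul]
    · rintro _ rfl
      rw [mul_inv_cancel_left, mul_assoc, ← hue, inv_mul_cancel_left]
  have huE : u ∈ E := by
    have := mul_mem he (inv_mem ha0.1)
    rwa [mul_inv_rev, inv_inv, mul_inv_cancel_left] at this
  -- so the part fixing `a` is `B`
  have hAB : S ⊓ stabilizer G a ≤ B := by
    rintro x ⟨hxS, hxa⟩
    rw [hBeq]
    refine ⟨⟨hxS, hxa⟩, Subgroup.mem_centralizer_iff.2 ?_⟩
    rintro _ rfl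
    have hw : x * u * x⁻¹ * u⁻¹ ∈ B := ⟨E.mul_mem (hEconj u huE x hxS) (E.inv_mem huE), by
      have h1 := hd.conj_fix (mul_mem hy hy) (inv_mem hxS) (inv_smul_eq_iff.2 (Eq.symm hxa))
      show (x * u * x⁻¹ * u⁻¹) • a = a
      rw [show x * u * x⁻¹ * u⁻¹ = x * (u * x⁻¹ * u⁻¹) by group, mul_smul, h1]
      exact hxa⟩
    set w := x * u * x⁻¹ * u⁻¹ with hwdef
    set x' := y * x * y⁻¹ with hx'
    have hx'u : x' * u * x'⁻¹ = x * u * x⁻¹ := by
      calc x' * u * x'⁻¹ = y * (x * u * x⁻¹) * y⁻¹ := by rw [hx', hu]; group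
        _ = y * w * (u * y⁻¹) := by rw [hwdef]; group
        _ = w * (y * (u * y⁻¹)) := by rw [hcen y hy w hw, mul_assoc]
        _ = w * u := by rw [hu]; group
        _ = x * u * x⁻¹ := by rw [hwdef]; group
    have hb : x⁻¹ * x' ∈ B := by
      rw [hBeq]
      refine ⟨(S ⊓ stabilizer G a).mul_mem ((S ⊓ stabilizer G a).inv_mem ⟨hxS, hxa⟩)
        ⟨S.mul_mem (S.mul_mem hy hxS) (S.inv_mem hy), hd.conj_fix hy hxS hxa⟩,
        Subgroup.mem_centralizer_iff.2 ?_⟩
      rintro _ rfl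
      calc u * (x⁻¹ * x') = x⁻¹ * (x * u * x⁻¹) * x' := by group
        _ = x⁻¹ * x' * u := by rw [← hx'u]; group
    set b := x⁻¹ * x' with hbdef
    have h1 : y * x * y⁻¹ = x * b := by rw [hbdef, hx']; group
    have h2 : u * x * u⁻¹ = x := by
      calc u * x * u⁻¹ = y * (y * x * y⁻¹) * y⁻¹ := by rw [hu]; group
        _ = y * (x * b) * y⁻¹ := by rw [h1]
        _ = (y * x * y⁻¹) * (y * b * y⁻¹) := by group
        _ = x * (b * b) := by rw [h1, hcen y hy b hb, mul_inv_cancel_right, mul_assoc]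
        _ = x := by rw [hBq b hb, mul_one]
    calc u * x = (u * x * u⁻¹) * u := by group
      _ = x * u := by rw [h2]
  have hA4 : Nat.card ↥(S ⊓ stabilizer G a) ≤ 4 :=
    (Subgroup.card_le_of_le (hAB.trans hBC)).trans hC4
  have := hd.card_le_four_mul hy hy2
  omega

/-- The Sylow 2-subgroup induces a cyclic group of order four on `Q` and `n ≡ 4 (mod 8)`. -/
theorem four_cyclic (h : Hyp G Ω) (hn : Nat.card Ω % 8 = 4) (S : Sylow 2 G) (a : Ω) (Q : Set Ω)
    (hQ : Q.ncard = 4) (haQ : a ∈ Q) (hSQ : ∀ s ∈ (S : Subgroup G), s • Q = Q)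
    (hA : ∀ x ∈ (S : Subgroup G), x ≠ 1 → x • a = a → MulAction.fixedBy Ω x = Q)
    (y : G) (hy : y ∈ (S : Subgroup G)) (hy2 : (y * y) • a ≠ a) :
    Cfsg.SectionalPRankLE 2 4 ↥(S : Subgroup G) := by
  have hd : CycData (S : Subgroup G) a Q := ⟨S.isPGroup', hQ, haQ, hSQ, hA⟩
  by_cases hall : ∀ g ∈ (S : Subgroup G), (g * g) • a ≠ a → g ^ 4 = 1
  · exact hd.sectional_of_short h hn hy hy2 hall
  · push Not at hall
    obtain ⟨g, hg, hg2, hg4⟩ := hall
    exact hd.sectional_of_long h hn hg hg2 hg4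

end CfsgLib.FixityFour
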