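import Cfsg.Agent.Lib.FixityFour.FixerData

/-!
Elementary abelian subgroups of 2-groups: adjoining a commuting involution, centralisers of involutions,
and elementary abelian groups of permutations of four letters.
-/

set_option autoImplicit false
set_option linter.style.haveILetI false
set_option linter.unusedSectionVars false

namespace CfsgLib.FixityFour.Elementary

universe u

variable {P : Type u} [Group P]

theorem comm_of_sq {V : Subgroup P} (hV : ∀ x ∈ V, x * x = 1) {a b : P} (ha : a ∈ V) (hb : b ∈ V) :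
    a * b = b * a := by
  calc a * b = (a * b)⁻¹ := (inv_eq_of_mul_eq_one_right (hV _ (mul_mem ha hb))).symm
    _ = b⁻¹ * a⁻¹ := mul_inv_rev a b
    _ = b * a := by rw [inv_eq_of_mul_eq_one_right (hV a ha), inv_eq_of_mul_eq_one_right (hV b hb)]

theorem card_le_ncard {Q : Type*} [Group Q] [Finite Q] (U : Subgroup Q) {s : Set Q} (h : (U : Set Q) ⊆ s) :
    Nat.card U ≤ s.ncard := by
  have := Set.ncard_le_ncard h (Set.toFinite _)
  rw [← Nat.card_coe_set_eq] at this
  exact this

/-- An elementary abelian group of permutations of four letters has order at most four. -/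
theorem card_perm_le_four (H : Subgroup (Equiv.Perm (Fin 4))) (hH : ∀ x ∈ H, x * x = 1) :
    Nat.card H ≤ 4 := by
  classical
  by_cases h2 : ∃ a ∈ H, ∃ b ∈ H, a ≠ 1 ∧ b ≠ 1 ∧ a ≠ b
  · obtain ⟨a, ha, b, hb, ha1, hb1, hab⟩ := h2
    have hsub : (H : Set (Equiv.Perm (Fin 4))) ⊆
        (({1, a, b, a * b} : Finset (Equiv.Perm (Fin 4))) : Set (Equiv.Perm (Fin 4))) := by
      intro c hc
      rcases perm_four_commuting a b c (hH a ha) (hH b hb) ha1 hb1 hab (comm_of_sq hH ha hb)
        (comm_of_sq hH ha hc) (comm_of_sq hH hb hc) with rfl | rfl | rfl | rfl <;> simp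
    have := Set.ncard_le_ncard hsub (Finset.finite_toSet _)
    rw [Set.ncard_coe_finset, ← Nat.card_coe_set_eq] at this
    exact this.trans Finset.card_le_four
  · push Not at h2
    by_cases h1 : ∃ a ∈ H, a ≠ 1
    · obtain ⟨a, ha, ha1⟩ := h1
      have hsub : (H : Set (Equiv.Perm (Fin 4))) ⊆
          (({1, a} : Finset (Equiv.Perm (Fin 4))) : Set (Equiv.Perm (Fin 4))) := by
        intro c hc
        by_cases hc1 : c = 1
        · simp [hc1]
        · simp [h2 a ha c hc ha1 hc1]
      have := Set.ncard_le_ncard hsub (Finset.finite_toSet _)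
      rw [Set.ncard_coe_finset, ← Nat.card_coe_set_eq] at this
      exact this.trans (Finset.card_le_two.trans (by norm_num))
    · push Not at h1
      rw [(Subgroup.eq_bot_iff_forall H).2 h1, Subgroup.card_bot]
      norm_num

/-- A commuting involution doubles an elementary abelian subgroup. -/
theorem exists_adjoin (V : Subgroup P) (hV : ∀ x ∈ V, x * x = 1) {x : P} (hx : x * x = 1)
    (hxV : x ∉ V) (hc : ∀ w ∈ V, x * w = w * x) :
    ∃ U : Subgroup P, Nat.card U = 2 * Nat.card V ∧ V ≤ U ∧ x ∈ U ∧ (∀ y ∈ U, y * y = 1) ∧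
      ∀ y ∈ U, y ∈ V ∨ x * y ∈ V := by
  have hxinv : x⁻¹ = x := inv_eq_of_mul_eq_one_right hx
  have hxl : ∀ y, x * (x * y) = y := fun y => by rw [← mul_assoc, hx, one_mul]
  let U : Subgroup P :=
    { carrier := {y | y ∈ V ∨ x * y ∈ V}
      one_mem' := Or.inl V.one_mem
      mul_mem' := by
        rintro a b (ha | ha) (hb | hb)
        · exact Or.inl (mul_mem ha hb)
        · refine Or.inr ?_
          have : x * (a * b) = a * (x * b) := by rw [← mul_assoc, hc a ha, mul_assoc]
          rw [this]
          exact mul_mem ha hb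
        · exact Or.inr (by rw [← mul_assoc]; exact mul_mem ha hb)
        · refine Or.inl ?_
          have : a * b = (x * a) * (x * b) := by
            conv_lhs => rw [← hxl a, hc _ ha, mul_assoc]
          rw [this]
          exact mul_mem ha hb
      inv_mem' := by
        rintro a (ha | ha)
        · exact Or.inl (inv_mem ha)
        · refine Or.inr ?_
          have h1 := inv_mem ha
          rw [mul_inv_rev, hxinv] at h1
          have h2 : x * a⁻¹ = a⁻¹ * x := by
            have := hc _ h1
            rw [mul_assoc, hx, mul_one] at this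
            have h3 := congrArg (fun y => x * y) this
            simp only [hxl] at h3
            exact h3.symm
          rw [h2]
          exact h1 }
  have hmem : ∀ y ∈ U, y * y = 1 := by
    rintro y (hy | hy)
    · exact hV y hy
    · have e := hxl y
      rw [← e, mul_assoc x (x * y), ← mul_assoc (x * y) x, ← hc _ hy, mul_assoc x (x * y) (x * y),
        hxl, hV _ hy]
  refine ⟨U, ?_, fun v hv => Or.inl hv, Or.inr (by rw [hx]; exact V.one_mem), hmem, fun y hy => hy⟩
  classical
  let f : ↥V × Bool → ↥U := fun p =>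
    if p.2 then ⟨x * (p.1 : P), Or.inr (by rw [hxl]; exact p.1.2)⟩ else ⟨p.1, Or.inl p.1.2⟩
  have hf : Function.Bijective f := by
    constructor
    · rintro ⟨a, i⟩ ⟨b, j⟩ h
      cases i <;> cases j <;> simp only [f, Bool.false_eq_true, if_false, if_true, Subtype.mk.injEq] at h
      · rw [Subtype.ext h]
      · exact absurd (by
          have : x = (a : P) * (b : P)⁻¹ := by rw [h, mul_inv_cancel_right]
          rw [this]; exact mul_mem a.2 (inv_mem b.2)) hxV
      · exact absurd (by
          have : x = (b : P) * (a : P)⁻¹ := by rw [← h, mul_inv_cancel_right]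
          rw [this]; exact mul_mem b.2 (inv_mem a.2)) hxV
      · rw [Subtype.ext (mul_left_cancel h)]
    · rintro ⟨y, hy | hy⟩
      · exact ⟨(⟨y, hy⟩, false), rfl⟩
      · exact ⟨(⟨x * y, hy⟩, true), Subtype.ext (hxl y)⟩
  rw [← Nat.card_congr (Equiv.ofBijective f hf), Nat.card_prod, Nat.card_eq_fintype_card (α := Bool),
    Fintype.card_bool, mul_comm]

variable [Finite P]

/-- An involution normalising an elementary abelian group centralises at least its square root. -/
theorem card_le_cent_sq (F : Subgroup P) (hF : ∀ y ∈ F, y * y = 1) {x : P} (hx : x * x = 1)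
    (hn : ∀ y ∈ F, x * y * x⁻¹ ∈ F) :
    Nat.card F ≤ Nat.card ↥(F ⊓ Subgroup.centralizer ({x} : Set P)) *
      Nat.card ↥(F ⊓ Subgroup.centralizer ({x} : Set P)) := by
  set C := F ⊓ Subgroup.centralizer ({x} : Set P) with hC
  let δ : ↥F →* ↥F :=
    { toFun := fun y => ⟨(y : P) * (x * (y : P) * x⁻¹), mul_mem y.2 (hn y y.2)⟩
      map_one' := Subtype.ext (by simp)
      map_mul' := fun a b => Subtype.ext (by
        simp only [Subgroup.coe_mul]
        rw [show (a : P) * b * (x * ((a : P) * b) * x⁻¹) =
            (a : P) * (b * (x * a * x⁻¹)) * (x * b * x⁻¹) by group,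
          comm_of_sq hF b.2 (hn a a.2)]
        group) }
  have hker : δ.ker = C.subgroupOf F := by
    ext ⟨y, hy⟩
    rw [MonoidHom.mem_ker, Subgroup.mem_subgroupOf, hC, Subgroup.mem_inf,
      Subgroup.mem_centralizer_singleton_iff, Subtype.ext_iff]
    show y * (x * y * x⁻¹) = 1 ↔ _
    constructor
    · intro h
      refine ⟨hy, ?_⟩
      have h1 : x * y * x⁻¹ = y := by
        rw [← inv_eq_of_mul_eq_one_right h, inv_eq_of_mul_eq_one_right (hF y hy)]
      exact (mul_inv_eq_iff_eq_mul.1 h1).symm
    · rintro ⟨-, h⟩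
      rw [← h, mul_inv_cancel_right]
      exact hF y hy
  have hrange : δ.range ≤ C.subgroupOf F := by
    rintro _ ⟨⟨y, hy⟩, rfl⟩
    refine ⟨mul_mem hy (hn y hy), ?_⟩
    refine Subgroup.mem_centralizer_singleton_iff.2 ?_
    show y * (x * y * x⁻¹) * x = x * (y * (x * y * x⁻¹))
    rw [inv_eq_of_mul_eq_one_right hx]
    have hxl : ∀ z, x * (x * z) = z := fun z => by rw [← mul_assoc, hx, one_mul]
    have hcc : y * (x * y * x) = (x * y * x) * y := by
      have := hn y hy
      rw [inv_eq_of_mul_eq_one_right hx] at this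
      exact comm_of_sq hF hy this
    calc y * (x * y * x) * x = (x * y * x) * y * x := by rw [hcc]
      _ = x * (y * (x * y * x)) := by simp only [mul_assoc]
  have hcard := δ.ker.card_eq_card_quotient_mul_card_subgroup
  rw [Nat.card_congr (QuotientGroup.quotientKerEquivRange δ).toEquiv, hker] at hcard
  have heq : Nat.card (C.subgroupOf F) = Nat.card C :=
    Nat.card_congr (Subgroup.subgroupOfEquivOfLe inf_le_left).toEquiv
  rw [heq] at hcard
  rw [hcard]
  exact Nat.mul_le_mul_right _ ((Subgroup.card_le_of_le hrange).trans heq.le)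

/-- Cardinalities of 2-subgroups. -/
theorem card_two_pow (hP : IsPGroup 2 P) (K : Subgroup P) :
    Nat.card K = 1 ∨ Nat.card K = 2 ∨ Nat.card K = 4 ∨ Nat.card K = 8 ∨ Nat.card K = 16 ∨
      32 ≤ Nat.card K := by
  haveI : Fact (Nat.Prime 2) := ⟨Nat.prime_two⟩
  obtain ⟨n, hn⟩ := (hP.to_subgroup K).exists_card_eq
  rcases (show n = 0 ∨ n = 1 ∨ n = 2 ∨ n = 3 ∨ n = 4 ∨ 5 ≤ n by omega) with
    h | h | h | h | h | h
  iterate 5 (rw [hn, h]; norm_num)
  have := Nat.pow_le_pow_right (show 0 < 2 by norm_num) h
  rw [← hn] at this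
  norm_num at this
  omega

end CfsgLib.FixityFour.Elementary
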