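import Cfsg.Agent.Lib.FixityFour.Rank

/-!
A 2-group with an elementary abelian subgroup of order sixteen which is self-centralizing on a
partial partition by four-groups has sectional 2-rank at most four.
-/

set_option autoImplicit false
set_option linter.style.haveILetI false
set_option linter.unusedSectionVars false

namespace CfsgLib.FixityFour

open CfsgLib.MacWilliams (sqSub mul_self_mem_sqSub)

namespace Partition

variable {P : Type*} [Group P] [Finite P]

theorem exists_ne_one {A : Subgroup P} (h : 1 < Nat.card A) : ∃ x ∈ A, x ≠ 1 := by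
  by_contra hc
  push Not at hc
  have : A = ⊥ := (Subgroup.eq_bot_iff_forall A).2 hc
  rw [this, Subgroup.card_bot] at h
  exact lt_irrefl 1 h

theorem card_mul_le {A B H : Subgroup P} (hA : A ≤ H) (hB : B ≤ H) :
    Nat.card A * Nat.card B ≤ Nat.card H * Nat.card ↥(A ⊓ B) := by
  have e1 : Nat.card H = Nat.card A * A.relIndex H := by
    rw [← Subgroup.relIndex_bot_left A, Subgroup.relIndex_mul_relIndex ⊥ A H bot_le hA,
      Subgroup.relIndex_bot_left]
  have e2 : Nat.card B = Nat.card ↥(A ⊓ B) * A.relIndex B := by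
    rw [← Subgroup.relIndex_bot_left (A ⊓ B), ← Subgroup.inf_relIndex_right A B,
      Subgroup.relIndex_mul_relIndex ⊥ (A ⊓ B) B bot_le inf_le_right, Subgroup.relIndex_bot_left]
  have h : A.relIndex B ≤ A.relIndex H :=
    Subgroup.relIndex_le_of_le_right hB Subgroup.index_ne_zero_of_finite
  calc Nat.card A * Nat.card B = Nat.card A * A.relIndex B * Nat.card ↥(A ⊓ B) := by rw [e2]; ring
    _ ≤ Nat.card A * A.relIndex H * Nat.card ↥(A ⊓ B) :=
      Nat.mul_le_mul_right _ (Nat.mul_le_mul_left _ h)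
    _ = _ := by rw [← e1]

theorem two_mul_le (hP : IsPGroup 2 P) {B : Subgroup P} (k : ℕ) (h : 2 ^ k < Nat.card B) :
    2 ^ (k + 1) ≤ Nat.card B := by
  haveI := Fact.mk Nat.prime_two
  obtain ⟨i, hi⟩ := (hP.to_subgroup B).exists_card_eq
  rw [hi] at h ⊢
  exact Nat.pow_le_pow_right (by norm_num) ((Nat.pow_lt_pow_iff_right (by norm_num)).1 h)

theorem norm_of_maps {H : Subgroup P} {g : P} (h : ∀ x ∈ H, g * x * g⁻¹ ∈ H) :
    g ∈ Subgroup.normalizer (H : Set P) := by
  have hle : H.map (MulAut.conj g).toMonoidHom ≤ H := by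
    rintro _ ⟨x, hx, rfl⟩
    exact h x hx
  have he : H.map (MulAut.conj g).toMonoidHom = H :=
    Subgroup.eq_of_le_of_card_ge hle
      (Subgroup.card_map_of_injective (MulAut.conj g).injective).ge
  refine Subgroup.mem_normalizer_iff.2 fun x => ⟨h x, fun hx => ?_⟩
  rw [← he] at hx
  obtain ⟨y, hy, hyx⟩ := hx
  exact (MulAut.conj g).injective hyx ▸ hy

theorem le_or_le {E F F' : Subgroup P} (h : ∀ x ∈ E, x ∈ F ∨ x ∈ F') : E ≤ F ∨ E ≤ F' := by
  by_contra hc
  push Not at hc
  obtain ⟨a, haE, ha⟩ := SetLike.not_le_iff_exists.1 hc.1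
  obtain ⟨b, hbE, hb⟩ := SetLike.not_le_iff_exists.1 hc.2
  have ha' := (h a haE).resolve_left ha
  have hb' := (h b hbE).resolve_right hb
  rcases h _ (mul_mem haE hbE) with h1 | h1
  · exact ha ((F.mul_mem_cancel_right hb').1 h1)
  · exact hb ((F'.mul_mem_cancel_left ha').1 h1)

/-- The conjugate subgroup `s H s⁻¹`. -/
def conjSub (s : P) (H : Subgroup P) : Subgroup P := H.map (MulAut.conj s).toMonoidHom

theorem mem_conjSub {s x : P} {H : Subgroup P} : x ∈ conjSub s H ↔ s⁻¹ * x * s ∈ H := by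
  constructor
  · rintro ⟨y, hy, rfl⟩
    show s⁻¹ * (s * y * s⁻¹) * s ∈ H
    simpa [mul_assoc] using hy
  · intro h
    refine ⟨_, h, ?_⟩
    show s * (s⁻¹ * x * s) * s⁻¹ = x
    group

theorem conj_mem_conjSub {s y : P} {H : Subgroup P} (hy : y ∈ H) :
    s * y * s⁻¹ ∈ conjSub s H := ⟨y, hy, rfl⟩

theorem card_conjSub (s : P) (H : Subgroup P) : Nat.card (conjSub s H) = Nat.card H :=
  Subgroup.card_map_of_injective (MulAut.conj s).injective

theorem mem_norm_of_conjSub_le {s : P} {H : Subgroup P} (h : conjSub s H ≤ H) :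
    s ∈ Subgroup.normalizer (H : Set P) := norm_of_maps fun _ hx => h (conj_mem_conjSub hx)

/-- The hypotheses of the partition lemma. -/
structure Data (F : Subgroup P) (𝒦 : Set (Subgroup P)) : Prop where
  hP : IsPGroup 2 P
  card16 : Nat.card F = 16
  sq : ∀ x ∈ F, x * x = 1
  ne : 𝒦.Nonempty
  le : ∀ K ∈ 𝒦, K ≤ F ∧ Nat.card K = 4
  disj : ∀ K ∈ 𝒦, ∀ L ∈ 𝒦, K ≠ L → K ⊓ L = ⊥
  inv : ∀ g ∈ Subgroup.normalizer (F : Set P), ∀ K ∈ 𝒦, K.map (MulAut.conj g).toMonoidHom ∈ 𝒦
  normK : ∀ K ∈ 𝒦, Subgroup.normalizer (K : Set P) ≤ F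
  cent : ∀ K ∈ 𝒦, ∀ w ∈ K, w ≠ 1 → Subgroup.centralizer ({w} : Set P) ≤ F

variable {F : Subgroup P} {𝒦 : Set (Subgroup P)}

/-- The covered non-identity elements. -/
def good (𝒦 : Set (Subgroup P)) : Set P := {x | x ≠ 1 ∧ ∃ K ∈ 𝒦, x ∈ K}

namespace Data

variable (d : Data F 𝒦)
include d

theorem comm {a b : P} (ha : a ∈ F) (hb : b ∈ F) : a * b = b * a := by
  have h : ∀ {z : P}, z ∈ F → z⁻¹ = z := fun hz => inv_eq_of_mul_eq_one_right (d.sq _ hz)
  calc a * b = (a * b)⁻¹ := (h (mul_mem ha hb)).symm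
    _ = b * a := by rw [mul_inv_rev, h ha, h hb]

theorem good_subset {x : P} (hx : x ∈ good 𝒦) : x ∈ F := by
  obtain ⟨-, K, hK, hxK⟩ := hx
  exact (d.le K hK).1 hxK

theorem mem_of_comm {x g : P} (hx : x ∈ good 𝒦) (h : g * x = x * g) : g ∈ F := by
  obtain ⟨h1, K, hK, hxK⟩ := hx
  exact d.cent K hK x hxK h1 (SelfCentEight.mem_cent.2 h)

/-- An abelian subgroup containing a covered element lies in `F`. -/
theorem le_of_good {E : Subgroup P} (hE : ∀ a ∈ E, ∀ b ∈ E, a * b = b * a) {x : P}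
    (hx : x ∈ good 𝒦) (hxE : x ∈ E) : E ≤ F :=
  fun a ha => d.mem_of_comm hx (hE a ha x hxE)

theorem le_normalizer : F ≤ Subgroup.normalizer (F : Set P) := Subgroup.le_normalizer

theorem good_conj {g x : P} (hg : g ∈ Subgroup.normalizer (F : Set P)) (hx : x ∈ good 𝒦) :
    g * x * g⁻¹ ∈ good 𝒦 := by
  obtain ⟨h1, K, hK, hxK⟩ := hx
  exact ⟨fun e => h1 (conj_eq_one_iff.1 e), _, d.inv g hg K hK, x, hxK, rfl⟩

theorem ncard_good_le : (good 𝒦).ncard + 1 ≤ 16 := by
  have hsub : good 𝒦 ⊆ (F : Set P) \ {1} := fun x hx =>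
    ⟨d.good_subset hx, fun e => hx.1 e⟩
  have h1 := Set.ncard_le_ncard hsub (Set.toFinite _)
  have h2 := Set.ncard_sdiff_singleton_add_one (show (1 : P) ∈ (F : Set P) from one_mem F)
    (Set.toFinite _)
  have h3 : (F : Set P).ncard = 16 := by
    rw [← Nat.card_coe_set_eq]; exact d.card16
  omega

theorem three_mul_le :
    3 * F.relIndex (Subgroup.normalizer (F : Set P)) ≤ (good 𝒦).ncard := by
  obtain ⟨K, hK⟩ := d.ne
  set N := Subgroup.normalizer (F : Set P)
  have hK3 : Nat.card ↥((K : Set P) \ {1}) = 3 := by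
    have h2 := Set.ncard_sdiff_singleton_add_one (show (1 : P) ∈ (K : Set P) from one_mem K)
      (Set.toFinite _)
    have h3 : (K : Set P).ncard = 4 := by rw [← Nat.card_coe_set_eq]; exact (d.le K hK).2
    rw [Nat.card_coe_set_eq]
    omega
  let ψ : (↥N ⧸ F.subgroupOf N) × ↥((K : Set P) \ {1}) → ↥(good 𝒦) := fun p =>
    ⟨(p.1.out : P) * p.2.1 * (p.1.out : P)⁻¹,
      d.good_conj p.1.out.2 ⟨fun e => p.2.2.2 e, K, hK, p.2.2.1⟩⟩
  have hψ : Function.Injective ψ := by
    rintro ⟨q, k⟩ ⟨r, l⟩ h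
    have he : (q.out : P) * k.1 * (q.out : P)⁻¹ = (r.out : P) * l.1 * (r.out : P)⁻¹ :=
      congrArg Subtype.val h
    set a := (q.out : P) with ha
    set b := (r.out : P) with hb
    have hKK : K.map (MulAut.conj a).toMonoidHom = K.map (MulAut.conj b).toMonoidHom := by
      by_contra hne
      have hbot := d.disj _ (d.inv a q.out.2 K hK) _ (d.inv b r.out.2 K hK) hne
      have hmem : a * k.1 * a⁻¹ ∈ K.map (MulAut.conj a).toMonoidHom ⊓
          K.map (MulAut.conj b).toMonoidHom := ⟨⟨k.1, k.2.1, rfl⟩, ⟨l.1, l.2.1, he.symm⟩⟩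
      rw [hbot, Subgroup.mem_bot, conj_eq_one_iff] at hmem
      exact k.2.2 hmem
    have hba : b⁻¹ * a ∈ F := by
      refine d.normK K hK (norm_of_maps fun x hx => ?_)
      obtain ⟨y, hy, hy'⟩ : a * x * a⁻¹ ∈ K.map (MulAut.conj b).toMonoidHom :=
        hKK ▸ ⟨x, hx, rfl⟩
      have hy'' : b * y * b⁻¹ = a * x * a⁻¹ := hy'
      have : b⁻¹ * a * x * (b⁻¹ * a)⁻¹ = y := by
        rw [show b⁻¹ * a * x * (b⁻¹ * a)⁻¹ = b⁻¹ * (a * x * a⁻¹) * b by group, ← hy'']
        group
      rwa [this]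
    have hqr : q = r := by
      rw [← QuotientGroup.out_eq' q, ← QuotientGroup.out_eq' r]
      exact (QuotientGroup.eq.2 (show (r.out)⁻¹ * q.out ∈ F.subgroupOf N from hba)).symm
    subst hqr
    exact Prod.ext rfl (Subtype.ext (mul_left_cancel (mul_right_cancel he)))
  have h := Nat.card_le_card_of_injective ψ hψ
  rw [Nat.card_prod, hK3, Nat.card_coe_set_eq, mul_comm] at h
  exact h

theorem card_normalizer :
    Nat.card (Subgroup.normalizer (F : Set P)) = 16 * F.relIndex (Subgroup.normalizer (F : Set P)) := by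
  rw [← d.card16, ← Subgroup.relIndex_bot_left F,
    Subgroup.relIndex_mul_relIndex ⊥ F _ bot_le d.le_normalizer, Subgroup.relIndex_bot_left]

theorem card_normalizer_cases :
    Nat.card (Subgroup.normalizer (F : Set P)) = 16 ∨
      Nat.card (Subgroup.normalizer (F : Set P)) = 32 ∨
      Nat.card (Subgroup.normalizer (F : Set P)) = 64 := by
  haveI := Fact.mk Nat.prime_two
  obtain ⟨i, hi⟩ := (d.hP.to_subgroup (Subgroup.normalizer (F : Set P))).exists_card_eq
  have h1 := d.three_mul_le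
  have h2 := d.ncard_good_le
  have h3 := d.card_normalizer
  have h16 : 16 ≤ Nat.card (Subgroup.normalizer (F : Set P)) :=
    d.card16 ▸ Subgroup.card_le_of_le d.le_normalizer
  have hlt : i < 7 := by
    by_contra hc
    have := Nat.pow_le_pow_right (show 2 > 0 by norm_num) (not_lt.1 hc)
    omega
  rw [hi] at h16 h3 ⊢
  interval_cases i <;> omega

theorem eq_top_sixteen (h : Nat.card (Subgroup.normalizer (F : Set P)) = 16) :
    Nat.card P = 16 := by
  haveI := Fact.mk Nat.prime_two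
  haveI := d.hP.isNilpotent
  by_contra hc
  have hne : F ≠ ⊤ := fun e => hc (by rw [← Subgroup.card_top, ← e, d.card16])
  have hlt := Group.normalizerCondition_of_isNilpotent F (lt_top_iff_ne_top.2 hne)
  exact hlt.ne (Subgroup.eq_of_le_of_card_ge hlt.le (h.trans d.card16.symm).le)

theorem conj_comm {s : P} : ∀ a ∈ conjSub s F, ∀ b ∈ conjSub s F, a * b = b * a := by
  rintro _ ⟨a, ha, rfl⟩ _ ⟨b, hb, rfl⟩
  rw [← map_mul, ← map_mul, d.comm ha hb]

theorem conj_sq {s : P} : ∀ a ∈ conjSub s F, a * a = 1 := by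
  rintro _ ⟨a, ha, rfl⟩
  rw [← map_mul, d.sq a ha, map_one]

/-- A conjugate of `F` other than `F` meets `F` outside the covered elements. -/
theorem inf_avoid {s x : P} (hs : s ∉ Subgroup.normalizer (F : Set P))
    (hx : x ∈ F ⊓ conjSub s F) : x ∉ good 𝒦 :=
  fun hxg => hs (mem_norm_of_conjSub_le (d.le_of_good d.conj_comm hxg hx.2))

/-- Above the normalizer there is an element moving `F` into the normalizer. -/
theorem exists_mover (h : Subgroup.normalizer (F : Set P) ≠ ⊤) :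
    ∃ s : P, s ∉ Subgroup.normalizer (F : Set P) ∧
      s ∈ Subgroup.normalizer ((Subgroup.normalizer (F : Set P) : Subgroup P) : Set P) ∧
      conjSub s F ≤ Subgroup.normalizer (F : Set P) := by
  haveI := Fact.mk Nat.prime_two
  haveI := d.hP.isNilpotent
  obtain ⟨s, hs, hsN⟩ := SetLike.exists_of_lt
    (Group.normalizerCondition_of_isNilpotent _ (lt_top_iff_ne_top.2 h))
  refine ⟨s, hsN, hs, fun x hx => ?_⟩
  obtain ⟨y, hy, rfl⟩ := hx
  exact (Subgroup.mem_normalizer_iff.1 hs y).1 (d.le_normalizer hy)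

theorem top_thirty_two (h : Nat.card (Subgroup.normalizer (F : Set P)) = 32) :
    Nat.card P = 32 := by
  by_contra hc
  obtain ⟨s, hsN, -, hle⟩ := d.exists_mover fun e => hc (by
    rw [← Subgroup.card_top, ← e, h])
  obtain ⟨K, hK⟩ := d.ne
  have h1 := card_mul_le d.le_normalizer hle
  rw [card_conjSub, d.card16, h] at h1
  have h2 := card_mul_le (H := F) (d.le K hK).1 (inf_le_left : F ⊓ conjSub s F ≤ F)
  rw [(d.le K hK).2, d.card16] at h2
  obtain ⟨w, hw, hw1⟩ := exists_ne_one (A := K ⊓ (F ⊓ conjSub s F)) (by omega)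
  exact d.inf_avoid hsN hw.2 ⟨hw1, K, hK, hw.1⟩

theorem exists_sq_ne (h : 16 < Nat.card P) : ∃ x : P, x * x ≠ 1 := by
  by_contra hc
  push Not at hc
  obtain ⟨K, hK⟩ := d.ne
  obtain ⟨w, hw, hw1⟩ := exists_ne_one (A := K) (by rw [(d.le K hK).2]; norm_num)
  have hinv : ∀ z : P, z⁻¹ = z := fun z => inv_eq_of_mul_eq_one_right (hc z)
  have htop : ∀ g : P, g ∈ F := fun g => d.mem_of_comm ⟨hw1, K, hK, hw⟩ (by
    calc g * w = (g * w)⁻¹ := (hinv _).symm
      _ = w * g := by rw [mul_inv_rev, hinv, hinv])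
  have : Nat.card P ≤ 16 := by
    rw [← d.card16]
    exact Nat.card_le_card_of_injective (fun g => (⟨g, htop g⟩ : F))
      fun a b e => congrArg Subtype.val e
  omega

section SixtyFour

variable (h64 : Nat.card (Subgroup.normalizer (F : Set P)) = 64)
include h64

theorem ncard_le_four {T : Set P} (hT : T ⊆ F) (hTg : ∀ x ∈ T, x ∉ good 𝒦) : T.ncard ≤ 4 := by
  have h1 := d.three_mul_le
  have h2 := d.card_normalizer
  have hd : Disjoint T (good 𝒦) := Set.disjoint_left.2 hTg
  have h3 := Set.ncard_union_eq hd (Set.toFinite _) (Set.toFinite _)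
  have h4 : (T ∪ good 𝒦).ncard ≤ (F : Set P).ncard :=
    Set.ncard_le_ncard (Set.union_subset hT fun x hx => d.good_subset hx) (Set.toFinite _)
  have h5 : (F : Set P).ncard = 16 := by rw [← Nat.card_coe_set_eq]; exact d.card16
  omega

theorem card_le_four {D : Subgroup P} (hD : D ≤ F) (hDg : ∀ x ∈ D, x ∉ good 𝒦) :
    Nat.card D ≤ 4 := by
  rw [show Nat.card D = (D : Set P).ncard from Nat.card_coe_set_eq _]
  exact d.ncard_le_four h64 hD hDg

theorem exists_good {D : Subgroup P} (hD : D ≤ F) (h : 4 < Nat.card D) :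
    ∃ x ∈ D, x ∈ good 𝒦 := by
  by_contra hc
  push Not at hc
  exact absurd (d.card_le_four h64 hD hc) (not_le.2 h)

/-- An element of `N ∖ F` fixes at most four elements of `F`. -/
theorem card_fix {g : P} (hg : g ∉ F) :
    Nat.card ↥(F ⊓ Subgroup.centralizer ({g} : Set P)) ≤ 4 :=
  d.card_le_four h64 inf_le_left fun _ hx hxg =>
    hg (d.mem_of_comm hxg (SelfCentEight.mem_cent.1 hx.2).symm)

theorem card_inf_conj {s : P} (hs : s ∉ Subgroup.normalizer (F : Set P))
    (hle : conjSub s F ≤ Subgroup.normalizer (F : Set P)) :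
    Nat.card ↥(F ⊓ conjSub s F) = 4 := by
  have h1 := card_mul_le d.le_normalizer hle
  rw [card_conjSub, d.card16, h64] at h1
  have h2 := d.card_le_four h64 inf_le_left fun x hx => d.inf_avoid hs hx
  omega

/-- The involutions of the normalizer lie in the two conjugates. -/
theorem mem_or_mem {s : P} (hs : s ∉ Subgroup.normalizer (F : Set P))
    (hle : conjSub s F ≤ Subgroup.normalizer (F : Set P)) {x : P}
    (hxN : x ∈ Subgroup.normalizer (F : Set P)) (hx : x * x = 1) : x ∈ F ∨ x ∈ conjSub s F := by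
  have hsup : conjSub s F ⊔ F = Subgroup.normalizer (F : Set P) := by
    refine Subgroup.eq_of_le_of_card_ge (sup_le hle d.le_normalizer) ?_
    have h1 := card_mul_le (H := conjSub s F ⊔ F) (le_sup_right : F ≤ _)
      (le_sup_left : conjSub s F ≤ _)
    rw [card_conjSub, d.card16, d.card_inf_conj h64 hs hle] at h1
    omega
  have hmem : x ∈ ((conjSub s F ⊔ F : Subgroup P) : Set P) := by
    rw [hsup]; exact hxN
  rw [Subgroup.coe_mul_of_left_le_normalizer_right _ _ hle] at hmem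
  obtain ⟨a, ha, b, hb, rfl⟩ := Set.mem_mul.1 hmem
  by_cases haF : a ∈ F
  · exact Or.inl (mul_mem haF hb)
  refine Or.inr (mul_mem ha ?_)
  have hab : b * a = a * b := by
    have hi : (a * b)⁻¹ = a * b := inv_eq_of_mul_eq_one_right hx
    rw [mul_inv_rev, inv_eq_of_mul_eq_one_right (d.conj_sq a ha),
      inv_eq_of_mul_eq_one_right (d.sq b hb)] at hi
    exact hi
  by_contra hbD
  set D : Set P := ((F ⊓ conjSub s F : Subgroup P) : Set P) with hD
  have hnot : b ∉ D := fun h => hbD h.2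
  have h4 := d.ncard_le_four h64 (T := insert b D)
    (Set.insert_subset hb fun y hy => hy.1) (by
      intro y hy hyg
      rcases Set.mem_insert_iff.1 hy with rfl | hy
      · exact haF (d.mem_of_comm hyg hab.symm)
      · exact d.inf_avoid hs hy hyg)
  rw [Set.ncard_insert_of_notMem hnot (Set.toFinite _), hD, ← Nat.card_coe_set_eq] at h4
  have h5 := d.card_inf_conj h64 hs hle
  change Nat.card ↥(F ⊓ conjSub s F) + 1 ≤ 4 at h4
  omega

theorem elem_le {s : P} (hs : s ∉ Subgroup.normalizer (F : Set P))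
    (hle : conjSub s F ≤ Subgroup.normalizer (F : Set P)) {E : Subgroup P}
    (hE : E ≤ Subgroup.normalizer (F : Set P)) (he : ∀ x ∈ E, x * x = 1) :
    E ≤ F ∨ E ≤ conjSub s F :=
  le_or_le fun x hx => d.mem_or_mem h64 hs hle (hE hx) (he x hx)

/-- An abelian subgroup with a large part in `F` or in its conjugate. -/
theorem le_conj_of_big {s : P} {E D : Subgroup P} (hE : ∀ a ∈ E, ∀ b ∈ E, a * b = b * a)
    (hDE : D ≤ E) (hD : D ≤ conjSub s F) (hc : 4 < Nat.card D) : E ≤ conjSub s F := by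
  have hD' : conjSub s⁻¹ D ≤ F := by
    rintro _ ⟨x, hx, rfl⟩
    show s⁻¹ * x * s⁻¹⁻¹ ∈ F
    rw [inv_inv]
    exact mem_conjSub.1 (hD hx)
  obtain ⟨x, hx, hxg⟩ := d.exists_good h64 hD' (by rw [card_conjSub]; exact hc)
  obtain ⟨y, hy, rfl⟩ := hx
  intro a ha
  refine mem_conjSub.2 (d.mem_of_comm hxg ?_)
  show s⁻¹ * a * s * (s⁻¹ * y * s⁻¹⁻¹) = s⁻¹ * y * s⁻¹⁻¹ * (s⁻¹ * a * s)
  have h := hE a ha y (hDE hy)
  calc _ = s⁻¹ * (a * y) * s := by group
    _ = s⁻¹ * (y * a) * s := by rw [h]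
    _ = _ := by group

theorem norm_trichotomy {s y : P}
    (hy : conjSub y F ≤ F ∨ conjSub y F ≤ conjSub s F) :
    y ∈ Subgroup.normalizer (F : Set P) ∨ s⁻¹ * y ∈ Subgroup.normalizer (F : Set P) := by
  rcases hy with hy | hy
  · exact Or.inl (mem_norm_of_conjSub_le hy)
  · refine Or.inr (norm_of_maps fun x hx => ?_)
    have := mem_conjSub.1 (hy (conj_mem_conjSub hx))
    convert this using 1
    group

/-- If the normalizer is proper, it has index two. -/
theorem card_eq_of_mover {s : P} (hs : s ∉ Subgroup.normalizer (F : Set P))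
    (hsNN : s ∈ Subgroup.normalizer ((Subgroup.normalizer (F : Set P) : Subgroup P) : Set P))
    (hle : conjSub s F ≤ Subgroup.normalizer (F : Set P)) : Nat.card P = 128 := by
  haveI := Fact.mk Nat.prime_two
  haveI := d.hP.isNilpotent
  set N := Subgroup.normalizer (F : Set P) with hN
  set T := Subgroup.normalizer (N : Set P) with hT
  have hNT : N ≤ T := Subgroup.le_normalizer
  have hcase : ∀ y ∈ T, y ∈ N ∨ s⁻¹ * y ∈ N := fun y hy => by
    refine d.norm_trichotomy h64 (d.elem_le h64 hs hle ?_ d.conj_sq)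
    rintro _ ⟨x, hx, rfl⟩
    exact (Subgroup.mem_normalizer_iff.1 hy x).1 (d.le_normalizer hx)
  have h2 : N.relIndex T = 2 := Subgroup.relIndex_eq_two_iff_exists_notMem_and'.2
    ⟨s⁻¹, inv_mem hsNN, fun h => hs (inv_mem_iff.1 h), fun b hb => (hcase b hb).symm⟩
  have hT128 : Nat.card T = 128 := by
    rw [← Subgroup.relIndex_bot_left, ← Subgroup.relIndex_mul_relIndex ⊥ N T bot_le hNT,
      Subgroup.relIndex_bot_left, h64, h2]
  have htop : T = ⊤ := by
    by_contra hne
    obtain ⟨y, hy, hyT⟩ := SetLike.exists_of_lt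
      (Group.normalizerCondition_of_isNilpotent T (lt_top_iff_ne_top.2 hne))
    have hET : conjSub y F ≤ T := by
      rintro _ ⟨x, hx, rfl⟩
      exact (Subgroup.mem_normalizer_iff.1 hy x).1 (hNT (d.le_normalizer hx))
    have h1 := card_mul_le hET hNT
    rw [card_conjSub, d.card16, h64, hT128] at h1
    have hor : conjSub y F ≤ F ∨ conjSub y F ≤ conjSub s F := by
      rcases d.elem_le h64 hs hle (inf_le_right : conjSub y F ⊓ N ≤ N)
        (fun x hx => d.conj_sq x hx.1) with h | h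
      · obtain ⟨x, hx, hxg⟩ := d.exists_good h64 h (by omega)
        exact Or.inl (d.le_of_good d.conj_comm hxg hx.1)
      · exact Or.inr (d.le_conj_of_big h64 d.conj_comm inf_le_left h (by omega))
    rcases d.norm_trichotomy h64 hor with h | h
    · exact hyT (hNT h)
    · exact hyT (by simpa using mul_mem hsNN (hNT h))
  rw [← hT128, htop, Subgroup.card_top]

theorem card_le_oneTwentyEight : Nat.card P ≤ 128 := by
  by_cases h : Subgroup.normalizer (F : Set P) = ⊤
  · rw [← Subgroup.card_top, ← h, h64]; norm_num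
  · obtain ⟨s, h1, h2, h3⟩ := d.exists_mover h
    exact (d.card_eq_of_mover h64 h1 h2 h3).le

theorem card_mul_normalizer (B : Subgroup P) :
    Nat.card B ≤ 2 * Nat.card ↥(B ⊓ Subgroup.normalizer (F : Set P)) := by
  have h1 := card_mul_le (le_top : B ≤ ⊤) (le_top : Subgroup.normalizer (F : Set P) ≤ ⊤)
  rw [h64, Subgroup.card_top] at h1
  have h2 : Nat.card P * Nat.card ↥(B ⊓ Subgroup.normalizer (F : Set P)) ≤
      128 * Nat.card ↥(B ⊓ Subgroup.normalizer (F : Set P)) :=
    Nat.mul_le_mul_right _ (d.card_le_oneTwentyEight h64)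
  omega

/-- There is no elementary abelian subgroup of order 32. -/
theorem elem_card_le {B : Subgroup P} (he : ∀ x ∈ B, x * x = 1) : Nat.card B ≤ 16 := by
  by_contra hc
  have h32 := two_mul_le d.hP 4 (not_le.1 hc : 2 ^ 4 < Nat.card B)
  have hab : ∀ a ∈ B, ∀ b ∈ B, a * b = b * a := fun a ha b hb => by
    have h : ∀ {z : P}, z ∈ B → z⁻¹ = z := fun hz => inv_eq_of_mul_eq_one_right (he _ hz)
    calc a * b = (a * b)⁻¹ := (h (mul_mem ha hb)).symm
      _ = b * a := by rw [mul_inv_rev, h ha, h hb]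
  by_cases hN : Subgroup.normalizer (F : Set P) = ⊤
  · have h1 := card_mul_le (H := Subgroup.normalizer (F : Set P)) (hN ▸ le_top : B ≤ _)
      d.le_normalizer
    rw [d.card16, h64] at h1
    obtain ⟨x, hx, hxg⟩ := d.exists_good h64 (inf_le_right : B ⊓ F ≤ F) (by omega)
    have := Subgroup.card_le_of_le (d.le_of_good hab hxg hx.1)
    rw [d.card16] at this
    omega
  · obtain ⟨s, h1, -, h3⟩ := d.exists_mover hN
    have hM := d.card_mul_normalizer h64 B
    rcases d.elem_le h64 h1 h3 (inf_le_right : B ⊓ _ ≤ _) (fun x hx => he x hx.1) with h | h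
    · obtain ⟨x, hx, hxg⟩ := d.exists_good h64 h (by omega)
      have := Subgroup.card_le_of_le (d.le_of_good hab hxg hx.1)
      rw [d.card16] at this
      omega
    · have := Subgroup.card_le_of_le (d.le_conj_of_big h64 hab inf_le_left h (by omega))
      rw [card_conjSub, d.card16] at this
      omega

/-- An element of `N ∖ F` has at least `|D| / 4` commutators with `D ≤ F`. -/
theorem card_comm {B D : Subgroup P} {g : P} (hgB : g ∈ B) (hgN : g ∈ Subgroup.normalizer (F : Set P))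
    (hgF : g ∉ F) (hDB : D ≤ B) (hDF : D ≤ F) :
    Nat.card D ≤ 4 * Nat.card ↥(sqSub B ⊓ F) := by
  have hgm : ∀ x ∈ F, g * x * g⁻¹ ∈ F := fun x hx => (Subgroup.mem_normalizer_iff.1 hgN x).1 hx
  let φ : ↥D →* P :=
    { toFun := fun x => g * x * g⁻¹ * (x : P)⁻¹
      map_one' := by simp
      map_mul' := fun a b => by
        have hA : g * (a : P) * g⁻¹ ∈ F := hgm _ (hDF a.2)
        have hB : g * (b : P) * g⁻¹ * (b : P)⁻¹ ∈ F :=
          mul_mem (hgm _ (hDF b.2)) (inv_mem (hDF b.2))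
        have hc := d.comm hB (inv_mem (hDF a.2))
        rw [Subgroup.coe_mul]
        calc g * ((a : P) * b) * g⁻¹ * ((a : P) * b)⁻¹
            = (g * a * g⁻¹) * ((g * b * g⁻¹ * (b : P)⁻¹) * (a : P)⁻¹) := by group
          _ = (g * a * g⁻¹) * ((a : P)⁻¹ * (g * b * g⁻¹ * (b : P)⁻¹)) := by rw [hc]
          _ = _ := by group }
  have hk : Nat.card φ.ker ≤ 4 := by
    refine le_trans ?_ (d.card_fix h64 hgF)
    exact Nat.card_le_card_of_injective
      (fun x => (⟨((x : ↥D) : P), hDF x.1.2, SelfCentEight.mem_cent.2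
        (mul_inv_eq_iff_eq_mul.1 (mul_inv_eq_one.1 (MonoidHom.mem_ker.1 x.2))).symm⟩ :
        ↥(F ⊓ Subgroup.centralizer ({g} : Set P))))
      fun x y e => Subtype.ext (Subtype.ext (congrArg Subtype.val e :))
  have hr : Nat.card φ.range ≤ Nat.card ↥(sqSub B ⊓ F) := by
    refine Subgroup.card_le_of_le ?_
    rintro _ ⟨x, rfl⟩
    exact Subgroup.mem_inf.2 ⟨SelfCentEight.comm_mem_sqSub hgB (hDB x.2),
      mul_mem (hgm _ (hDF x.2)) (inv_mem (hDF x.2))⟩
  rw [Subgroup.card_eq_card_quotient_mul_card_subgroup φ.ker,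
    Nat.card_congr (QuotientGroup.quotientKerEquivRange φ).toEquiv, mul_comm]
  exact Nat.mul_le_mul hk hr

theorem four_le_sq {B : Subgroup P} (hB : 32 < Nat.card B) :
    4 ≤ Nat.card ↥(sqSub B ⊓ F) := by
  have h64B := two_mul_le d.hP 5 (hB : 2 ^ 5 < Nat.card B)
  have hMc := d.card_mul_normalizer h64 B
  have h1 := card_mul_le (inf_le_right : B ⊓ Subgroup.normalizer (F : Set P) ≤ _) d.le_normalizer
  rw [d.card16, h64] at h1
  set N := Subgroup.normalizer (F : Set P) with hNdef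
  set M := B ⊓ N with hM
  by_cases h8 : 8 < Nat.card ↥(M ⊓ F)
  · have h16 := two_mul_le d.hP 3 (h8 : 2 ^ 3 < Nat.card ↥(M ⊓ F))
    obtain ⟨g, hg, hgF⟩ : ∃ g ∈ M, g ∉ F := by
      by_contra hc
      push Not at hc
      have := Subgroup.card_le_of_le (show M ≤ F from hc)
      rw [d.card16] at this
      omega
    have := d.card_comm h64 hg.1 hg.2 hgF (le_trans inf_le_left inf_le_left : M ⊓ F ≤ B)
      inf_le_right
    omega
  · obtain ⟨f, hf, hfg⟩ := d.exists_good h64 (inf_le_right : M ⊓ F ≤ F) (by omega)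
    let v : ↥M ⧸ F.subgroupOf M → ↥(sqSub B ⊓ F) := fun q =>
      ⟨(q.out : P) * f * (q.out : P)⁻¹ * f⁻¹, Subgroup.mem_inf.2
        ⟨SelfCentEight.comm_mem_sqSub q.out.2.1 hf.1.1,
          mul_mem ((Subgroup.mem_normalizer_iff.1 q.out.2.2 f).1 hf.2) (inv_mem hf.2)⟩⟩
    have hv : Function.Injective v := by
      intro q r h
      have he : (q.out : P) * f * (q.out : P)⁻¹ = (r.out : P) * f * (r.out : P)⁻¹ :=
        mul_right_cancel (congrArg Subtype.val h)
      rw [← QuotientGroup.out_eq' q, ← QuotientGroup.out_eq' r]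
      refine QuotientGroup.eq.2 (d.mem_of_comm hfg ?_)
      show (q.out : P)⁻¹ * (r.out : P) * f = f * ((q.out : P)⁻¹ * (r.out : P))
      calc (q.out : P)⁻¹ * (r.out : P) * f
          = (q.out : P)⁻¹ * ((r.out : P) * f * (r.out : P)⁻¹) * (r.out : P) := by group
        _ = (q.out : P)⁻¹ * ((q.out : P) * f * (q.out : P)⁻¹) * (r.out : P) := by rw [he]
        _ = _ := by group
    have h2 : F.relIndex M ≤ Nat.card ↥(sqSub B ⊓ F) := Nat.card_le_card_of_injective v hv
    have h3 : Nat.card M = Nat.card ↥(F ⊓ M) * F.relIndex M := by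
      rw [← Subgroup.relIndex_bot_left (F ⊓ M), ← Subgroup.inf_relIndex_right F M,
        Subgroup.relIndex_mul_relIndex ⊥ (F ⊓ M) M bot_le inf_le_right, Subgroup.relIndex_bot_left]
    have h4 : Nat.card ↥(F ⊓ M) * F.relIndex M ≤ 8 * F.relIndex M :=
      Nat.mul_le_mul_right _ (by rw [inf_comm]; omega)
    omega

theorem eight_le_sq {B : Subgroup P} (hB : 64 < Nat.card B) : 8 ≤ Nat.card (sqSub B) := by
  have h128 := two_mul_le d.hP 6 (hB : 2 ^ 6 < Nat.card B)
  have hP128 := d.card_le_oneTwentyEight h64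
  have hBtop : B = ⊤ := Subgroup.eq_top_of_le_card B (by omega)
  have hNtop : Subgroup.normalizer (F : Set P) ≠ ⊤ := fun e => by
    rw [e, Subgroup.card_top] at h64
    have := B.card_le_card_group
    omega
  obtain ⟨s, hs, -, -⟩ := d.exists_mover hNtop
  obtain ⟨K, hK⟩ := d.ne
  obtain ⟨w, hw, hw1⟩ := exists_ne_one (A := K) (by rw [(d.le K hK).2]; norm_num)
  have hwg : w ∈ good 𝒦 := ⟨hw1, K, hK, hw⟩
  have hc : s * w * s⁻¹ * w⁻¹ ∈ sqSub B :=
    SelfCentEight.comm_mem_sqSub (hBtop ▸ Subgroup.mem_top s) (hBtop ▸ Subgroup.mem_top w)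
  have hcF : s * w * s⁻¹ * w⁻¹ ∉ F := by
    intro h
    have hswF : s * w * s⁻¹ ∈ F :=
      (F.mul_mem_cancel_right (inv_mem (d.good_subset hwg))).1 h
    refine hs (norm_of_maps fun x hx => ?_)
    have : F ≤ conjSub s F := fun a ha => mem_conjSub.2 (d.mem_of_comm hwg (by
      calc s⁻¹ * a * s * w = s⁻¹ * (a * (s * w * s⁻¹)) * s := by group
        _ = s⁻¹ * ((s * w * s⁻¹) * a) * s := by rw [d.comm ha hswF]
        _ = _ := by group))
    rw [Subgroup.eq_of_le_of_card_ge this (card_conjSub s F).le]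
    exact conj_mem_conjSub hx
  have h4 := d.four_le_sq h64 (show 32 < Nat.card B by omega)
  have hlt : sqSub B ⊓ F < sqSub B :=
    lt_of_le_not_ge inf_le_left fun h => hcF (h hc).2
  have hne : Nat.card ↥(sqSub B ⊓ F) < Nat.card (sqSub B) := by
    rcases (Subgroup.card_le_of_le hlt.le).lt_or_eq with h | h
    · exact h
    · exact absurd (Subgroup.eq_of_le_of_card_ge hlt.le h.ge) hlt.ne
  exact two_mul_le d.hP 2 (show 2 ^ 2 < Nat.card (sqSub B) by omega)

theorem bound (B : Subgroup P) : Nat.card B ≤ 16 * Nat.card (sqSub B) := by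
  have hpos : 0 < Nat.card (sqSub B) := Nat.card_pos
  rcases le_or_gt (Nat.card B) 16 with h | h
  · omega
  rcases le_or_gt (Nat.card B) 32 with h' | h'
  · obtain ⟨x, hx, hx2⟩ : ∃ x ∈ B, x * x ≠ 1 := by
      by_contra hc
      push Not at hc
      exact absurd (d.elem_card_le h64 hc) (not_le.2 h)
    have := SelfCentEight.two_le_card (mul_self_mem_sqSub hx) hx2
    omega
  rcases le_or_gt (Nat.card B) 64 with h'' | h''
  · have h4 := d.four_le_sq h64 h'
    have := Subgroup.card_le_of_le (inf_le_left : sqSub B ⊓ F ≤ sqSub B)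
    omega
  · have := d.eight_le_sq h64 h''
    have := B.card_le_card_group.trans (d.card_le_oneTwentyEight h64)
    omega

end SixtyFour

end Data

end Partition

open CfsgLib.FixityFour.Partition in
/-- The partition criterion. -/
theorem sectional_of_partition {P : Type*} [Group P] [Finite P] (hP : IsPGroup 2 P)
    (F : Subgroup P) (hF16 : Nat.card F = 16) (hFe : ∀ x ∈ F, x * x = 1)
    (𝒦 : Set (Subgroup P)) (hne : 𝒦.Nonempty) (hle : ∀ K ∈ 𝒦, K ≤ F ∧ Nat.card K = 4)
    (hdisj : ∀ K ∈ 𝒦, ∀ L ∈ 𝒦, K ≠ L → K ⊓ L = ⊥)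
    (hinv : ∀ g ∈ Subgroup.normalizer (F : Set P), ∀ K ∈ 𝒦,
      K.map (MulAut.conj g).toMonoidHom ∈ 𝒦)
    (hnorm : ∀ K ∈ 𝒦, Subgroup.normalizer (K : Set P) ≤ F)
    (hcent : ∀ K ∈ 𝒦, ∀ w ∈ K, w ≠ 1 → Subgroup.centralizer ({w} : Set P) ≤ F) :
    Cfsg.SectionalPRankLE 2 4 P := by
  have d : Data F 𝒦 := ⟨hP, hF16, hFe, hne, hle, hdisj, hinv, hnorm, hcent⟩
  rcases d.card_normalizer_cases with h | h | h
  · exact sectional_of_card_le (d.eq_top_sixteen h).le
  · have hc := d.top_thirty_two h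
    obtain ⟨x, hx⟩ := d.exists_sq_ne (by omega)
    exact sectional_of_card_le_thirty_two hP hc.le hx
  · exact SelfCentEight.sectional_of_bound (d.bound h)

end CfsgLib.FixityFour
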