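import Cfsg.Agent.Lib.FixityFour.FixerData
import Cfsg.Agent.Lib.FixityFour.Elementary
import Cfsg.Agent.Lib.FixityFour.Partition
import Cfsg.Agent.Lib.SelfCentEight.Eight

/-!
An involution with four fixed points outside the distinguished quadruple bounds the sectional 2-rank
of the 2-group by four.
-/

set_option autoImplicit false
set_option linter.style.haveILetI false
set_option linter.unusedSectionVars false

open MulAction
open scoped Pointwise

namespace CfsgLib.FixityFour.Fixer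

universe u

variable {P : Type u} {Ω : Type*} [Group P] [MulAction P Ω]

/-- `v` is an involution fixing a point outside `Q₀`. -/
def Is (Q₀ : Set Ω) (v : P) : Prop := orderOf v = 2 ∧ ∃ b ∉ Q₀, v • b = b

/-- The pointwise stabiliser of the fixed points of `v`. -/
abbrev ker (Ω : Type*) [MulAction P Ω] (v : P) : Subgroup P := fixingSubgroup P (fixedBy Ω v)

/-- The data of `FixerData` read inside the 2-group. -/
structure Data (P : Type*) [Group P] {Ω : Type*} [MulAction P Ω] (Q₀ : Set Ω) : Prop where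
  isP : IsPGroup 2 P
  bound : ∀ g : P, g ≠ 1 → (fixedBy Ω g).ncard ≤ 4
  four : ∀ v : P, Is Q₀ v → (fixedBy Ω v).ncard = 4
  apart : ∀ v : P, Is Q₀ v → ∀ b ∈ Q₀, v • b ≠ b
  small : ∀ v : P, Is Q₀ v → Nat.card (ker Ω v) ≤ 4
  exp : ∀ v : P, Is Q₀ v → ∀ x ∈ ker Ω v, x * x = 1
  inv : ∀ s : P, s • Q₀ = Q₀
  lift : ∀ v : P, Is Q₀ v → Nat.card (ker Ω v) = 4 → ∀ d : P, d • fixedBy Ω v = fixedBy Ω v →
    (∃ b ∈ fixedBy Ω v, d • b = b) → d ∈ ker Ω v ∨ ∃ x : P, x * x = 1 ∧ d⁻¹ * x ∈ ker Ω v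

open Elementary

variable [Finite P] {Q₀ : Set Ω} [Finite Ω] (D : Data P Q₀)
include D

namespace Data

theorem sq {v : P} (hv : Is Q₀ v) : v * v = 1 := by
  rw [← pow_two]; exact orderOf_dvd_iff_pow_eq_one.1 hv.1.dvd

theorem ne_one {v : P} (hv : Is Q₀ v) : v ≠ 1 := fun h => by
  have := hv.1
  rw [h, orderOf_one] at this
  omega

theorem not_mem {v : P} (hv : Is Q₀ v) {b : Ω} (hb : b ∈ fixedBy Ω v) : b ∉ Q₀ :=
  fun h => D.apart v hv b h hb

theorem self_mem (v : P) : v ∈ ker Ω v :=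
  (mem_fixingSubgroup_iff P).2 fun _ hy => hy

theorem nonempty {v : P} (hv : Is Q₀ v) : ∃ b, b ∈ fixedBy Ω v := let ⟨b, _, h⟩ := hv.2; ⟨b, h⟩

theorem smul_eq_of_mem {v d : P} (hd : d ∈ ker Ω v) {b : Ω} (hb : b ∈ fixedBy Ω v) : d • b = b :=
  (mem_fixingSubgroup_iff P).1 hd b hb

theorem fixedBy_eq {v x : P} (hv : Is Q₀ v) (hx : x ∈ ker Ω v) (hx1 : x ≠ 1) :
    fixedBy Ω x = fixedBy Ω v :=
  (Set.eq_of_subset_of_ncard_le (fun _ hy => D.smul_eq_of_mem hx hy)
    (by rw [D.four v hv]; exact D.bound x hx1) (Set.toFinite _)).symm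

theorem of_mem {v x : P} (hv : Is Q₀ v) (hx : x ∈ ker Ω v) (hx1 : x ≠ 1) :
    Is Q₀ x ∧ ker Ω x = ker Ω v := by
  obtain ⟨b, hb, hvb⟩ := hv.2
  refine ⟨⟨orderOf_eq_prime (by rw [pow_two]; exact D.exp v hv x hx) hx1, b, hb,
    D.smul_eq_of_mem hx hvb⟩, ?_⟩
  rw [ker, ker, D.fixedBy_eq hv hx hx1]

theorem ker_eq_of_mem_both {v w x : P} (hv : Is Q₀ v) (hw : Is Q₀ w) (h1 : x ∈ ker Ω v)
    (h2 : x ∈ ker Ω w) (hx : x ≠ 1) : ker Ω v = ker Ω w :=
  (D.of_mem hv h1 hx).2.symm.trans (D.of_mem hw h2 hx).2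

theorem ker_comm {v a b : P} (hv : Is Q₀ v) (ha : a ∈ ker Ω v) (hb : b ∈ ker Ω v) : a * b = b * a :=
  comm_of_sq (D.exp v hv) ha hb

theorem is_conj {v : P} (hv : Is Q₀ v) (g : P) : Is Q₀ (g * v * g⁻¹) := by
  obtain ⟨b, hb, hvb⟩ := hv.2
  refine ⟨hv.1 ▸ (MulAut.conj g).orderOf_eq v, g • b, fun h => hb ?_, ?_⟩
  · rw [← D.inv g] at h
    exact Set.smul_mem_smul_set_iff.1 h
  · rw [mul_smul, mul_smul, inv_smul_smul, hvb]

theorem smul_fix {v g : P} (hg : g * v = v * g) : g • fixedBy Ω v = fixedBy Ω v :=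
  smul_eq_self_of_commute hg

theorem ker_conj (v g : P) :
    ker Ω (g * v * g⁻¹) = (ker Ω v).map (MulAut.conj g).toMonoidHom := by
  ext y
  rw [Subgroup.mem_map_equiv, mem_fixingSubgroup_iff, mem_fixingSubgroup_iff, ← smul_fixedBy,
    MulAut.conj_symm_apply]
  constructor
  · intro h b hb
    rw [mul_smul, mul_smul, h (g • b) (Set.smul_mem_smul_set hb), inv_smul_smul]
  · intro h b hb
    obtain ⟨c, hc, rfl⟩ := hb
    have := h c hc
    rwa [mul_smul, mul_smul, inv_smul_eq_iff] at this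

theorem card_ker {v : P} (hv : Is Q₀ v) : Nat.card (ker Ω v) = 2 ∨ Nat.card (ker Ω v) = 4 := by
  have h := D.small v hv
  have h2 := SelfCentEight.two_le_card (D.self_mem v) (D.ne_one hv)
  rcases card_two_pow D.isP (ker Ω v) with e | e | e | e | e | e <;> omega

theorem card_four_of {v w : P} (hv : Is Q₀ v) (hw : w ∈ ker Ω v) (h1 : w ≠ 1) (h2 : w ≠ v) :
    Nat.card (ker Ω v) = 4 := by
  have := SelfCentEight.four_le_card D.isP (D.self_mem v) hw (D.ne_one hv) h1 (Ne.symm h2)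
  have := D.small v hv
  omega

/-- Two fixers with two common fixed points. -/
theorem card_cent_le_two {v e : P} (hv : Is Q₀ v) (he : Is Q₀ e) (hne : fixedBy Ω e ≠ fixedBy Ω v)
    {p q : Ω} (hpq : p ≠ q) (hp : p ∈ fixedBy Ω e ∩ fixedBy Ω v)
    (hq : q ∈ fixedBy Ω e ∩ fixedBy Ω v) :
    Nat.card ↥(ker Ω v ⊓ Subgroup.centralizer ({e} : Set P)) ≤ 2 := by
  set T := fixedBy Ω e \ fixedBy Ω v with hT
  have h2 : 2 ≤ (fixedBy Ω e ∩ fixedBy Ω v).ncard := by
    have := Set.ncard_le_ncard (show ({p, q} : Set Ω) ⊆ fixedBy Ω e ∩ fixedBy Ω v from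
      Set.insert_subset hp (Set.singleton_subset_iff.2 hq))
    rwa [Set.ncard_pair hpq] at this
  have hTc : T.ncard ≤ 2 := by
    have := Set.ncard_inter_add_ncard_sdiff_eq_ncard (fixedBy Ω e) (fixedBy Ω v) (Set.toFinite _)
    rw [D.four e he, ← hT] at this
    omega
  obtain ⟨x, hx⟩ : T.Nonempty := by
    by_contra h
    rw [Set.not_nonempty_iff_eq_empty, hT, Set.sdiff_eq_empty] at h
    exact hne (Set.eq_of_subset_of_ncard_le h (by rw [D.four e he, D.four v hv]) (Set.toFinite _))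
  set C := ker Ω v ⊓ Subgroup.centralizer ({e} : Set P)
  have hmem : ∀ k : ↥C, (k : P) • x ∈ T := by
    intro k
    have hke : (k : P) * e = e * (k : P) := Subgroup.mem_centralizer_singleton_iff.1 k.2.2
    constructor
    · rw [← D.smul_fix hke]
      exact Set.smul_mem_smul_set hx.1
    · intro h
      have := D.smul_eq_of_mem (inv_mem k.2.1) h
      rw [inv_smul_smul] at this
      exact hx.2 (this ▸ h)
  have hinj : Function.Injective (fun k : ↥C => (⟨(k : P) • x, hmem k⟩ : T)) := by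
    intro a b h
    rw [Subtype.mk.injEq] at h
    by_contra hab
    have hd : ((b : P)⁻¹ * (a : P)) ≠ 1 := fun h1 => hab (Subtype.ext (inv_mul_eq_one.1 h1).symm)
    have hsub : insert x (fixedBy Ω v) ⊆ fixedBy Ω ((b : P)⁻¹ * (a : P)) := by
      rintro y (rfl | hy)
      · show ((b : P)⁻¹ * (a : P)) • y = y
        rw [mul_smul, h, inv_smul_smul]
      · exact D.smul_eq_of_mem (mul_mem (inv_mem b.2.1) a.2.1) hy
    have := (Set.ncard_le_ncard hsub (Set.toFinite _)).trans (D.bound _ hd)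
    rw [Set.ncard_insert_of_notMem hx.2 (Set.toFinite _), D.four v hv] at this
    omega
  have := Nat.card_le_card_of_injective _ hinj
  rw [Nat.card_coe_set_eq] at this
  exact this.trans hTc

/-- An involution of a fixed quadruple fixing a point fixes a second one. -/
theorem exists_second {v x : P} (hv : Is Q₀ v) (hx : x * x = 1)
    (hxQ : x • fixedBy Ω v = fixedBy Ω v) {b : Ω} (hb : b ∈ fixedBy Ω v) (hxb : x • b = b) :
    ∃ p ∈ fixedBy Ω v, p ≠ b ∧ x • p = p := by
  by_contra hno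
  push Not at hno
  have hmap : ∀ y ∈ fixedBy Ω v, x • y ∈ fixedBy Ω v := fun y hy => by
    rw [← hxQ]; exact Set.smul_mem_smul_set hy
  have hxx : ∀ y : Ω, x • x • y = y := fun y => by rw [← mul_smul, hx, one_smul]
  set A := fixedBy Ω v \ {b} with hA
  have hAc : A.ncard = 3 := by
    rw [hA, Set.ncard_sdiff_singleton_of_mem hb, D.four v hv]
  have hAmap : ∀ y ∈ A, x • y ∈ A := fun y hy =>
    ⟨hmap y hy.1, fun h => hy.2 (smul_left_cancel x ((show x • y = b from h).trans hxb.symm))⟩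
  have hAne : ∀ y ∈ A, x • y ≠ y := fun y hy => hno y hy.1 hy.2
  obtain ⟨p, q, r, hpq, hpr, hqr, hAeq⟩ := Set.ncard_eq_three.1 hAc
  have hp : p ∈ A := by rw [hAeq]; simp
  have hq : q ∈ A := by rw [hAeq]; simp
  have hr : r ∈ A := by rw [hAeq]; simp
  have kp := hAmap p hp
  have kq := hAmap q hq
  have kr := hAmap r hr
  rw [hAeq] at kp kq kr
  simp only [Set.mem_insert_iff, Set.mem_singleton_iff] at kp kq kr
  rcases kp with h | h | h
  · exact hAne p hp h
  · rcases kr with h' | h' | h'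
    · exact hqr (by rw [← hxx r, h', h])
    · exact hpr (smul_left_cancel x (h.trans h'.symm))
    · exact hAne r hr h'
  · rcases kq with h' | h' | h'
    · exact hqr (by rw [← hxx q, h', h])
    · exact hAne q hq h'
    · exact hpq (smul_left_cancel x (h.trans h'.symm))

/-- A lifted involution fixing a point of the quadruple is a fixer sharing two fixed points. -/
theorem cent_involution {v x : P} (hv : Is Q₀ v) (hx : x * x = 1) (hxK : x ∉ ker Ω v)
    (hxQ : x • fixedBy Ω v = fixedBy Ω v) {b : Ω} (hb : b ∈ fixedBy Ω v) (hxb : x • b = b) :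
    Nat.card ↥(ker Ω v ⊓ Subgroup.centralizer ({x} : Set P)) ≤ 2 := by
  have hx1 : x ≠ 1 := fun h => hxK (h ▸ one_mem _)
  have hxF : Is Q₀ x := ⟨orderOf_eq_prime (by rw [pow_two, hx]) hx1, b, D.not_mem hv hb, hxb⟩
  obtain ⟨p, hp, hpb, hxp⟩ := D.exists_second hv hx hxQ hb hxb
  refine D.card_cent_le_two hv hxF (fun h => hxK ?_) hpb ⟨hxp, hp⟩ ⟨hxb, hb⟩
  have := D.self_mem x
  rwa [ker, h] at this

theorem mem_of_cent {v : P} (hv : Is Q₀ v) (h4 : Nat.card (ker Ω v) = 4) {d : P}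
    (hd : d ∈ Subgroup.centralizer (ker Ω v : Set P)) {b : Ω} (hb : b ∈ fixedBy Ω v)
    (hdb : d • b = b) : d ∈ ker Ω v := by
  have hdc : ∀ k ∈ ker Ω v, d * k = k * d := fun k hk => (Subgroup.mem_centralizer_iff.1 hd k hk).symm
  have hdQ := D.smul_fix (hdc v (D.self_mem v))
  rcases D.lift v hv h4 d hdQ ⟨b, hb, hdb⟩ with h | ⟨x, hx, hk⟩
  · exact h
  by_contra hdK
  have hxd : x = d * (d⁻¹ * x) := by rw [mul_inv_cancel_left]
  have hxK : x ∉ ker Ω v := fun h => hdK (by
    have := mul_mem h (inv_mem hk)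
    rwa [mul_inv_rev, inv_inv, mul_inv_cancel_left] at this)
  have hxc : ∀ k ∈ ker Ω v, k * x = x * k := fun k hk' => by
    rw [hxd, ← mul_assoc, ← hdc k hk', mul_assoc, D.ker_comm hv hk' hk, ← mul_assoc]
  have hxb : x • b = b := by rw [hxd, mul_smul, D.smul_eq_of_mem hk hb, hdb]
  have h2 := D.cent_involution hv hx hxK (D.smul_fix (hxc v (D.self_mem v)).symm) hb hxb
  rw [inf_eq_left.2 (fun k hk' => Subgroup.mem_centralizer_singleton_iff.2 (hxc k hk')), h4] at h2
  omega

/-- A group whose point stabiliser on the quadruple is the kernel has order at most sixteen. -/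
theorem card_le_sixteen_of_stab {v : P} (hv : Is Q₀ v) {b : Ω} (hb : b ∈ fixedBy Ω v)
    (C : Subgroup P) (hC : ∀ c ∈ C, c • fixedBy Ω v = fixedBy Ω v)
    (hst : ∀ c ∈ C, c • b = b → c ∈ ker Ω v) : Nat.card C ≤ 16 := by
  classical
  let r : Ω → P := fun p => if h : ∃ c ∈ C, c • b = p then h.choose else 1
  have hr : ∀ c : ↥C, r ((c : P) • b) ∈ C ∧ r ((c : P) • b) • b = (c : P) • b := fun c => by
    have h : ∃ c' ∈ C, c' • b = (c : P) • b := ⟨c, c.2, rfl⟩
    simp only [r, dif_pos h]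
    exact h.choose_spec
  have hmem : ∀ c : ↥C, (r ((c : P) • b))⁻¹ * (c : P) ∈ ker Ω v := fun c =>
    hst _ (mul_mem (inv_mem (hr c).1) c.2) (by rw [mul_smul, inv_smul_eq_iff, (hr c).2])
  let f : ↥C → ↥(fixedBy Ω v) × ↥(ker Ω v) := fun c =>
    (⟨(c : P) • b, hC c c.2 ▸ Set.smul_mem_smul_set hb⟩, ⟨_, hmem c⟩)
  have hf : Function.Injective f := fun a c h => by
    simp only [f, Prod.mk.injEq, Subtype.mk.injEq] at h
    refine Subtype.ext ?_
    have h2 := h.2
    rw [h.1] at h2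
    exact mul_left_cancel h2
  have := Nat.card_le_card_of_injective f hf
  rw [Nat.card_prod, Nat.card_coe_set_eq, D.four v hv] at this
  have := D.small v hv
  omega

theorem card_cent_ker {v : P} (hv : Is Q₀ v) (h4 : Nat.card (ker Ω v) = 4) :
    Nat.card ↥(Subgroup.centralizer (ker Ω v : Set P)) ≤ 16 := by
  obtain ⟨b, hb⟩ := D.nonempty hv
  exact D.card_le_sixteen_of_stab hv hb _
    (fun c hc => D.smul_fix (Subgroup.mem_centralizer_iff.1 hc v (D.self_mem v)).symm)
    (fun c hc hcb => D.mem_of_cent hv h4 hc hb hcb)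

/-- An elementary group on a quadruple has image of order at most four. -/
theorem card_le_four_mul {v : P} (hv : Is Q₀ v) (V : Subgroup P) (hV : ∀ y ∈ V, y * y = 1)
    (hVQ : ∀ y ∈ V, y • fixedBy Ω v = fixedBy Ω v) :
    Nat.card V ≤ 4 * Nat.card ↥(V ⊓ ker Ω v) := by
  obtain ⟨ρ, -, -, hρ⟩ := exists_quadPerm (G := P) (D.four v hv)
  let ψ : ↥V →* Equiv.Perm (Fin 4) :=
    ρ.comp (Subgroup.inclusion (fun y hy => MulAction.mem_stabilizer_iff.2 (hVQ y hy)))
  have hk : ψ.ker = (V ⊓ ker Ω v).subgroupOf V := by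
    ext y
    rw [MonoidHom.mem_ker, Subgroup.mem_subgroupOf, Subgroup.mem_inf]
    exact (hρ _).trans ⟨fun h => ⟨y.2, h⟩, fun h => h.2⟩
  have h := ψ.ker.card_eq_card_quotient_mul_card_subgroup
  rw [Nat.card_congr (QuotientGroup.quotientKerEquivRange ψ).toEquiv, hk,
    Nat.card_congr (Subgroup.subgroupOfEquivOfLe inf_le_left).toEquiv] at h
  rw [h]
  refine Nat.mul_le_mul_right _ (card_perm_le_four _ ?_)
  rintro _ ⟨y, rfl⟩
  rw [← map_mul, show y * y = 1 from Subtype.ext (hV y y.2), map_one]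

/-- A self-centralising elementary subgroup of order eight. -/
theorem self_centralizing {v : P} (hv : Is Q₀ v) (U : Subgroup P) (hU : ∀ y ∈ U, y * y = 1)
    (hU8 : Nat.card U = 8) (hvU : v ∈ U) (hUK : ∀ y ∈ U, y ∈ ker Ω v → y = 1 ∨ y = v)
    (hKU : ∀ k ∈ ker Ω v, (∀ y ∈ U, k * y = y * k) → k = 1 ∨ k = v) :
    Cfsg.SectionalPRankLE 2 4 P := by
  classical
  refine SelfCentEight.sectional_eight D.isP U hU (fun a ha b hb => comm_of_sq hU ha hb) hU8
    (le_antisymm ?_ fun a ha => Subgroup.mem_centralizer_iff.2 fun b hb => comm_of_sq hU hb ha)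
  have hvv := D.sq hv
  obtain ⟨a, haU, ha1, hav⟩ : ∃ a ∈ U, a ≠ 1 ∧ a ≠ v := by
    by_contra h
    push Not at h
    have hsub : (U : Set P) ⊆ {1, v} := fun y hy => or_iff_not_imp_left.2 fun h1 => h y hy h1
    have := card_le_ncard U hsub
    rw [Set.ncard_pair (D.ne_one hv).symm] at this
    omega
  obtain ⟨b, hbU, hb1, hbv, hba, hbav⟩ : ∃ b ∈ U, b ≠ 1 ∧ b ≠ v ∧ b ≠ a ∧ b ≠ a * v := by
    by_contra h
    push Not at h
    have hsub : (U : Set P) ⊆ (({1, v, a, a * v} : Finset P) : Set P) := fun y hy => by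
      simp only [Finset.coe_insert, Finset.coe_singleton, Set.mem_insert_iff, Set.mem_singleton_iff]
      by_cases h1 : y = 1
      · exact Or.inl h1
      by_cases h2 : y = v
      · exact Or.inr (Or.inl h2)
      by_cases h3 : y = a
      · exact Or.inr (Or.inr (Or.inl h3))
      exact Or.inr (Or.inr (Or.inr (h y hy h1 h2 h3)))
    have := card_le_ncard U hsub
    rw [Set.ncard_coe_finset] at this
    have := this.trans Finset.card_le_four
    omega
  intro c hc
  have hcU : ∀ y ∈ U, c * y = y * c := fun y hy => (Subgroup.mem_centralizer_iff.1 hc y hy).symm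
  obtain ⟨ρ, -, -, hρ⟩ := exists_quadPerm (G := P) (D.four v hv)
  have hst : ∀ y, y * v = v * y → y ∈ MulAction.stabilizer P (fixedBy Ω v) :=
    fun y hy => MulAction.mem_stabilizer_iff.2 (D.smul_fix hy)
  let A : MulAction.stabilizer P (fixedBy Ω v) := ⟨a, hst a (comm_of_sq hU haU hvU)⟩
  let B : MulAction.stabilizer P (fixedBy Ω v) := ⟨b, hst b (comm_of_sq hU hbU hvU)⟩
  let C : MulAction.stabilizer P (fixedBy Ω v) := ⟨c, hst c (hcU v hvU)⟩
  have hne : ∀ y : MulAction.stabilizer P (fixedBy Ω v), (y : P) ∈ U → (y : P) ≠ 1 → (y : P) ≠ v →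
      ρ y ≠ 1 := fun y hy h1 h2 h => (hUK y hy ((hρ y).1 h)).elim h1 h2
  have hAB : ρ A ≠ ρ B := fun h => by
    have h1 : ρ (A * B) = 1 := by
      rw [map_mul, ← h, ← map_mul, show A * A = 1 from Subtype.ext (hU a haU), map_one]
    rcases hUK _ (mul_mem haU hbU) ((hρ (A * B)).1 h1) with e | e
    · exact hba (by
        rw [← inv_eq_of_mul_eq_one_right e, inv_eq_of_mul_eq_one_right (hU a haU)])
    · exact hbav (by rw [← e, ← mul_assoc, hU a haU, one_mul])
  have main : ∀ w : MulAction.stabilizer P (fixedBy Ω v), (w : P) ∈ U → ρ C = ρ w → c ∈ U := by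
    intro w hw h
    have h1 : ρ (C * w) = 1 := by
      rw [map_mul, h, ← map_mul, show w * w = 1 from Subtype.ext (hU _ hw), map_one]
    have hcw : c * (w : P) ∈ U := by
      rcases hKU (c * (w : P)) ((hρ (C * w)).1 h1) (fun y hy => by
        rw [mul_assoc, comm_of_sq hU hw hy, ← mul_assoc, hcU y hy, mul_assoc]) with e | e <;>
        rw [e]
      exacts [U.one_mem, hvU]
    simpa using mul_mem hcw (inv_mem hw)
  rcases perm_four_commuting (ρ A) (ρ B) (ρ C)
      (by rw [← map_mul, show A * A = 1 from Subtype.ext (hU a haU), map_one])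
      (by rw [← map_mul, show B * B = 1 from Subtype.ext (hU b hbU), map_one])
      (hne A haU ha1 hav) (hne B hbU hb1 hbv) hAB
      (by rw [← map_mul, ← map_mul, show A * B = B * A from Subtype.ext (comm_of_sq hU haU hbU)])
      (by rw [← map_mul, ← map_mul, show A * C = C * A from Subtype.ext (hcU a haU).symm])
      (by rw [← map_mul, ← map_mul, show B * C = C * B from Subtype.ext (hcU b hbU).symm])
    with e | e | e | e
  · exact main 1 U.one_mem (by rw [map_one, e])
  · exact main A haU e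
  · exact main B hbU e
  · exact main (A * B) (mul_mem haU hbU) (by rw [map_mul, e])

/-- A kernel of order four with elementary centraliser of order sixteen. -/
theorem of_sixteen {v₀ : P} (hv₀ : Is Q₀ v₀) (_h4 : Nat.card (ker Ω v₀) = 4)
    (h16 : Nat.card ↥(Subgroup.centralizer (ker Ω v₀ : Set P)) = 16)
    (he : ∀ y ∈ Subgroup.centralizer (ker Ω v₀ : Set P), y * y = 1) :
    Cfsg.SectionalPRankLE 2 4 P := by
  classical
  set F := Subgroup.centralizer (ker Ω v₀ : Set P) with hF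
  have hFv : ∀ v, Is Q₀ v → v ∈ F →
      ker Ω v ≤ F ∧ Nat.card (ker Ω v) = 4 ∧ Subgroup.centralizer (ker Ω v : Set P) = F := by
    intro v hv hvF
    have h := D.card_le_four_mul hv F he (fun y hy => D.smul_fix (comm_of_sq he hy hvF))
    rw [h16] at h
    have hle := Subgroup.card_le_of_le (inf_le_right : F ⊓ ker Ω v ≤ ker Ω v)
    have hs := D.small v hv
    have heq : F ⊓ ker Ω v = ker Ω v :=
      Subgroup.eq_of_le_of_card_ge inf_le_right (by omega)
    have hKF : ker Ω v ≤ F := heq ▸ inf_le_left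
    have hc4 : Nat.card (ker Ω v) = 4 := by omega
    refine ⟨hKF, hc4, (Subgroup.eq_of_le_of_card_ge (fun y hy => Subgroup.mem_centralizer_iff.2
      fun k hk => comm_of_sq he (hKF hk) hy) ?_).symm⟩
    rw [h16]
    exact D.card_cent_ker hv hc4
  have hv₀F : v₀ ∈ F := Subgroup.mem_centralizer_iff.2 fun k hk => D.ker_comm hv₀ hk (D.self_mem v₀)
  by_cases hall : ∀ v, Is Q₀ v → v ∈ F → Subgroup.normalizer (ker Ω v : Set P) ≤ F
  · refine sectional_of_partition D.isP F h16 he {K | ∃ v, Is Q₀ v ∧ v ∈ F ∧ K = ker Ω v}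
      ⟨_, v₀, hv₀, hv₀F, rfl⟩ ?_ ?_ ?_ ?_ ?_
    · rintro K ⟨v, hv, hvF, rfl⟩
      exact ⟨(hFv v hv hvF).1, (hFv v hv hvF).2.1⟩
    · rintro K ⟨v, hv, -, rfl⟩ L ⟨w, hw, -, rfl⟩ hne
      rw [Subgroup.eq_bot_iff_forall]
      intro x hx
      by_contra hx1
      exact hne (D.ker_eq_of_mem_both hv hw hx.1 hx.2 hx1)
    · rintro g hg K ⟨v, hv, hvF, rfl⟩
      exact ⟨_, D.is_conj hv g, (Subgroup.mem_normalizer_iff.1 hg v).1 hvF, (D.ker_conj v g).symm⟩
    · rintro K ⟨v, hv, hvF, rfl⟩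
      exact hall v hv hvF
    · rintro K ⟨v, hv, hvF, rfl⟩ w hw hw1 c hc
      refine hall v hv hvF ?_
      have hcw := Subgroup.mem_centralizer_singleton_iff.1 hc
      have hk : (ker Ω w).map (MulAut.conj c).toMonoidHom = ker Ω w := by
        rw [← D.ker_conj, hcw, mul_inv_cancel_right]
      rw [(D.of_mem hv hw hw1).2] at hk
      rw [Subgroup.mem_normalizer_iff]
      intro y
      conv_rhs => rw [← hk]
      rw [Subgroup.mem_map_equiv, MulAut.conj_symm_apply]
      simp [mul_assoc]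
  push Not at hall
  obtain ⟨v, hv, hvF, hnot⟩ := hall
  obtain ⟨hKF, h4v, hCK⟩ := hFv v hv hvF
  set N := Subgroup.normalizer (ker Ω v : Set P) with hN
  have hNQ : ∀ g ∈ N, g • fixedBy Ω v = fixedBy Ω v := fun g hg => by
    rw [smul_fixedBy]
    exact D.fixedBy_eq hv ((Subgroup.mem_normalizer_iff.1 hg v).1 (D.self_mem v))
      fun h => D.ne_one hv (conj_eq_one_iff.1 h)
  have hNF : ∀ g ∈ N, ∀ y ∈ F, g * y * g⁻¹ ∈ F := fun g hg y hy => by
    rw [← hCK] at hy ⊢
    rw [Subgroup.mem_centralizer_iff] at hy ⊢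
    intro k hk
    have hk' := (Subgroup.mem_normalizer_iff''.1 hg k).1 hk
    have := hy _ hk'
    calc k * (g * y * g⁻¹) = g * ((g⁻¹ * k * g) * y) * g⁻¹ := by group
      _ = g * (y * (g⁻¹ * k * g)) * g⁻¹ := by rw [this]
      _ = g * y * g⁻¹ * k := by group
  have hFN : F ≤ N := fun y hy => by
    rw [← hCK] at hy
    exact Subgroup.centralizer_le_normalizer _ hy
  obtain ⟨b, hb⟩ := D.nonempty hv
  obtain ⟨d, hdN, hdb, hdK⟩ : ∃ d ∈ N, d • b = b ∧ d ∉ ker Ω v := by
    by_contra hcon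
    push Not at hcon
    have := D.card_le_sixteen_of_stab hv hb N hNQ hcon
    exact hnot (Subgroup.eq_of_le_of_card_ge hFN (by rw [h16]; exact this)).ge
  obtain ⟨x, hx, hk⟩ := (D.lift v hv h4v d (hNQ d hdN) ⟨b, hb, hdb⟩).resolve_left hdK
  have hKN : ker Ω v ≤ N := hKF.trans hFN
  have hxd : x = d * (d⁻¹ * x) := by rw [mul_inv_cancel_left]
  have hxK : x ∉ ker Ω v := fun h => hdK (by
    have := mul_mem h (inv_mem hk)
    rwa [mul_inv_rev, inv_inv, mul_inv_cancel_left] at this)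
  have hxN : x ∈ N := hxd ▸ mul_mem hdN (hKN hk)
  have hxb : x • b = b := by rw [hxd, mul_smul, D.smul_eq_of_mem hk hb, hdb]
  have hC2 := D.cent_involution hv hx hxK (hNQ x hxN) hb hxb
  have hxF : x ∉ F := fun h => by
    rw [← hCK] at h
    rw [inf_eq_left.2 (fun k hk' => Subgroup.mem_centralizer_singleton_iff.2
      (Subgroup.mem_centralizer_iff.1 h k hk')), h4v] at hC2
    omega
  have hxinv : x⁻¹ = x := inv_eq_of_mul_eq_one_right hx
  -- a fixed element of the kernel
  obtain ⟨z, hzK, hz1, hzx⟩ : ∃ z ∈ ker Ω v, z ≠ 1 ∧ z * x = x * z := by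
    by_cases hvx : v * x = x * v
    · exact ⟨v, D.self_mem v, D.ne_one hv, hvx⟩
    have hw : x * v * x⁻¹ ∈ ker Ω v := (Subgroup.mem_normalizer_iff.1 hxN v).1 (D.self_mem v)
    refine ⟨v * (x * v * x⁻¹), mul_mem (D.self_mem v) hw, fun h => hvx ?_, ?_⟩
    · have h' : x * v * x⁻¹ = v := by
        rw [← inv_eq_of_mul_eq_one_right h, inv_eq_of_mul_eq_one_right (D.sq hv)]
      exact (mul_inv_eq_iff_eq_mul.1 h').symm
    · rw [hxinv] at hw ⊢
      calc v * (x * v * x) * x = (x * v * x) * v * x := by rw [D.ker_comm hv (D.self_mem v) hw]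
        _ = x * (v * (x * v * x)) := by simp only [mul_assoc]
  have hCsq := card_le_cent_sq F he hx (hNF x hxN)
  rw [h16] at hCsq
  set CF := F ⊓ Subgroup.centralizer ({x} : Set P) with hCF
  obtain ⟨e, heC, heK⟩ : ∃ e ∈ CF, e ∉ ker Ω v := by
    by_contra hcon
    push Not at hcon
    have := Subgroup.card_le_of_le (show CF ≤ ker Ω v ⊓ Subgroup.centralizer ({x} : Set P) from
      le_inf hcon inf_le_right)
    have hc : Nat.card CF ≤ 2 := this.trans hC2
    nlinarith
  have he1 : e ≠ 1 := fun h => heK (h ▸ one_mem _)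
  obtain ⟨V, hVc, hzV, heV, hVsq, hVmem⟩ := exists_adjoin (Subgroup.zpowers z)
    (fun y hy => D.exp v hv y (Subgroup.zpowers_le.2 hzK hy)) (he e heC.1)
    (fun h => heK (Subgroup.zpowers_le.2 hzK h))
    (fun y hy => comm_of_sq he heC.1 (hKF (Subgroup.zpowers_le.2 hzK hy)))
  have hVF : V ≤ F := fun y hy => by
    rcases hVmem y hy with h | h
    · exact hKF (Subgroup.zpowers_le.2 hzK h)
    · have := mul_mem heC.1 (hKF (Subgroup.zpowers_le.2 hzK h))
      rwa [← mul_assoc, he e heC.1, one_mul] at this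
  have hVx : ∀ y ∈ V, x * y = y * x := by
    intro y hy
    have hzc : ∀ w ∈ Subgroup.zpowers z, x * w = w * x := fun w hw => by
      obtain ⟨n, rfl⟩ := Subgroup.mem_zpowers_iff.1 hw
      exact ((show Commute x z from hzx.symm).zpow_right n).eq
    rcases hVmem y hy with h | h
    · exact hzc y h
    · have h1 : Commute x e := (Subgroup.mem_centralizer_singleton_iff.1 heC.2).symm
      have h2 : Commute x (e * y) := hzc _ h
      have h3 := h1.inv_right.mul_right h2
      rwa [inv_mul_cancel_left] at h3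
  obtain ⟨U, hUc, hVU, hxU, hUsq, hUmem⟩ := exists_adjoin V hVsq hx (fun h => hxF (hVF h)) hVx
  have hzo : orderOf z = 2 := orderOf_eq_prime (by rw [pow_two]; exact D.exp v hv z hzK) hz1
  have hzU : z ∈ U := hVU (hzV (Subgroup.mem_zpowers z))
  have hzK' := (D.of_mem hv hzK hz1).2
  refine D.self_centralizing (D.of_mem hv hzK hz1).1 U hUsq
    (by rw [hUc, hVc, Nat.card_zpowers, hzo]) hzU ?_ ?_
  · intro y hy hyK
    rw [hzK'] at hyK
    have hyV : y ∈ V := (hUmem y hy).resolve_right fun h => hxF (by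
      have := mul_mem (hVF h) (inv_mem (hKF hyK))
      rwa [mul_inv_cancel_right] at this)
    have hyz : y ∈ Subgroup.zpowers z := (hVmem y hyV).resolve_right fun h => heK (by
      have := mul_mem (Subgroup.zpowers_le.2 hzK h) (inv_mem hyK)
      rwa [mul_inv_cancel_right] at this)
    obtain ⟨n, rfl⟩ := Subgroup.mem_zpowers_iff.1 hyz
    rw [← zpow_mod_orderOf, hzo]
    rcases Int.emod_two_eq_zero_or_one n with h | h <;> simp [h]
  · intro k hk hkU
    rw [hzK'] at hk
    by_contra hcon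
    push Not at hcon
    have := SelfCentEight.four_le_card D.isP (K := ker Ω v ⊓ Subgroup.centralizer ({x} : Set P))
      (show z ∈ ker Ω v ⊓ _ from ⟨hzK, Subgroup.mem_centralizer_singleton_iff.2 hzx⟩)
      (show k ∈ ker Ω v ⊓ _ from ⟨hk, Subgroup.mem_centralizer_singleton_iff.2 (hkU x hxU)⟩)
      hz1 hcon.1 (Ne.symm hcon.2)
    omega

/-- An elementary subgroup of order eight meeting a kernel in the fixer alone. -/
theorem of_eight {v : P} (hv : Is Q₀ v) (U : Subgroup P) (hU : ∀ y ∈ U, y * y = 1)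
    (hU8 : Nat.card U = 8) (hvU : v ∈ U) (hUK : ∀ y ∈ U, y ∈ ker Ω v → y = 1 ∨ y = v) :
    Cfsg.SectionalPRankLE 2 4 P := by
  by_cases hKU : ∀ k ∈ ker Ω v, (∀ y ∈ U, k * y = y * k) → k = 1 ∨ k = v
  · exact D.self_centralizing hv U hU hU8 hvU hUK hKU
  push Not at hKU
  obtain ⟨k, hk, hkU, hk1, hkv⟩ := hKU
  have h4 := D.card_four_of hv hk hk1 hkv
  set F := Subgroup.centralizer (ker Ω v : Set P)
  obtain ⟨K', hK'c, hvK', hkK', -, hK'mem⟩ := exists_adjoin (Subgroup.zpowers v)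
    (fun y hy => D.exp v hv y (Subgroup.zpowers_le.2 (D.self_mem v) hy)) (D.exp v hv k hk)
    (fun h => by
      obtain ⟨n, hn⟩ := Subgroup.mem_zpowers_iff.1 h
      rw [← zpow_mod_orderOf, hv.1] at hn
      rcases Int.emod_two_eq_zero_or_one n with e | e <;> simp [e] at hn
      · exact hk1 hn.symm
      · exact hkv hn.symm)
    (fun y hy => D.ker_comm hv hk (Subgroup.zpowers_le.2 (D.self_mem v) hy))
  have hK'K : K' = ker Ω v := by
    refine Subgroup.eq_of_le_of_card_ge (fun y hy => ?_) (by rw [hK'c, Nat.card_zpowers, hv.1, h4])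
    rcases hK'mem y hy with h | h
    · exact Subgroup.zpowers_le.2 (D.self_mem v) h
    · have := mul_mem (inv_mem hk) (Subgroup.zpowers_le.2 (D.self_mem v) h)
      rwa [inv_mul_cancel_left] at this
  have hUF : U ≤ F := fun y hy => Subgroup.mem_centralizer_iff.2 fun w hw => by
    rw [SetLike.mem_coe, ← hK'K] at hw
    have hzv : ∀ w ∈ Subgroup.zpowers v, w * y = y * w := fun w hw => by
      obtain ⟨n, rfl⟩ := Subgroup.mem_zpowers_iff.1 hw
      exact ((show Commute v y from comm_of_sq hU hvU hy).zpow_left n).eq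
    rcases hK'mem w hw with h | h
    · exact hzv w h
    · have h1 : Commute k y := hkU y hy
      have h2 : Commute (k * w) y := hzv _ h
      have h3 := h1.inv_left.mul_left h2
      rwa [inv_mul_cancel_left] at h3
  have hkF : k ∈ F := Subgroup.mem_centralizer_iff.2 fun w hw => D.ker_comm hv hw hk
  obtain ⟨W, hWc, hUW, hkW, hWsq, hWmem⟩ := exists_adjoin U hU (D.exp v hv k hk)
    (fun h => (hUK k h hk).elim hk1 hkv) hkU
  have hWF : W ≤ F := fun y hy => by
    rcases hWmem y hy with h | h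
    · exact hUF h
    · have := mul_mem (inv_mem hkF) (hUF h)
      rwa [inv_mul_cancel_left] at this
  have hWeq : W = F := Subgroup.eq_of_le_of_card_ge hWF (by
    rw [hWc, hU8]; exact D.card_cent_ker hv h4)
  exact D.of_sixteen hv h4 (show Nat.card ↥F = 16 by rw [← hWeq, hWc, hU8])
    (show ∀ y ∈ F, y * y = 1 by rw [← hWeq]; exact hWsq)

theorem sectional (hu : ∃ v : P, Is Q₀ v) : Cfsg.SectionalPRankLE 2 4 P := by
  classical
  by_cases hE : ∀ E : Subgroup P, E.Normal → IsMulCommutative E → (∀ e ∈ E, e ^ 2 = 1) →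
      Nat.card E ≤ 4
  · exact SelfCentEight.sectional_of_bound fun H =>
      CfsgLib.MacWilliams.card_le_sixteen_mul_sqSub D.isP hE H
  push Not at hE
  obtain ⟨E, hEn, -, hE2, hE4⟩ := hE
  have hEsq : ∀ y ∈ E, y * y = 1 := fun y hy => by rw [← pow_two]; exact hE2 y hy
  have hE8 : 8 ≤ Nat.card E := by rcases card_two_pow D.isP E with e | e | e | e | e | e <;> omega
  by_cases hfix : ∃ v, Is Q₀ v ∧ v ∈ E
  · obtain ⟨v₀, hv₀, hv₀E⟩ := hfix
    by_cases ha : ∃ v, Is Q₀ v ∧ v ∈ E ∧ ∀ y ∈ E, y ∈ ker Ω v → y = 1 ∨ y = v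
    · obtain ⟨v, hv, hvE, hvK⟩ := ha
      have h := D.card_le_four_mul hv E hEsq (fun y hy => D.smul_fix (comm_of_sq hEsq hy hvE))
      have h2 : Nat.card ↥(E ⊓ ker Ω v) ≤ 2 := by
        have hsub : ((E ⊓ ker Ω v : Subgroup P) : Set P) ⊆ {1, v} := fun y hy => hvK y hy.1 hy.2
        have := card_le_ncard _ hsub
        rwa [Set.ncard_pair (D.ne_one hv).symm] at this
      exact D.of_eight hv E hEsq (by omega) hvE hvK
    push Not at ha
    have hb : ∀ v, Is Q₀ v → v ∈ E → ker Ω v ≤ E ∧ Nat.card (ker Ω v) = 4 := by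
      intro v hv hvE
      obtain ⟨y, hyE, hyK, hy1, hyv⟩ := ha v hv hvE
      have h4 := D.card_four_of hv hyK hy1 hyv
      have hge := SelfCentEight.four_le_card D.isP (K := E ⊓ ker Ω v)
        (show v ∈ E ⊓ ker Ω v from ⟨hvE, D.self_mem v⟩) (show y ∈ E ⊓ ker Ω v from ⟨hyE, hyK⟩)
        (D.ne_one hv) hy1 (Ne.symm hyv)
      have heq : E ⊓ ker Ω v = ker Ω v :=
        Subgroup.eq_of_le_of_card_ge inf_le_right (by omega)
      exact ⟨heq ▸ inf_le_left, h4⟩
    obtain ⟨hKE, h4⟩ := hb v₀ hv₀ hv₀E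
    have hEC : E ≤ Subgroup.centralizer (ker Ω v₀ : Set P) := fun y hy =>
      Subgroup.mem_centralizer_iff.2 fun k hk => comm_of_sq hEsq (hKE hk) hy
    have hle := D.card_cent_ker hv₀ h4
    have hle' := Subgroup.card_le_of_le hEC
    by_cases h16 : Nat.card E = 16
    · have heq : E = Subgroup.centralizer (ker Ω v₀ : Set P) :=
        Subgroup.eq_of_le_of_card_ge hEC (by omega)
      exact D.of_sixteen hv₀ h4 (heq ▸ h16) (heq ▸ hEsq)
    have hEeight : Nat.card E = 8 := by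
      rcases card_two_pow D.isP E with e | e | e | e | e | e <;> omega
    -- all kernels in `E` coincide
    have hsame : ∀ v, Is Q₀ v → v ∈ E → ker Ω v = ker Ω v₀ := by
      intro v hv hvE
      by_contra hne
      obtain ⟨hK, hc⟩ := hb v hv hvE
      let f : ↥(ker Ω v) × ↥(ker Ω v₀) → ↥E := fun p => ⟨p.1 * p.2, mul_mem (hK p.1.2) (hKE p.2.2)⟩
      have hf : Function.Injective f := by
        rintro ⟨a, b⟩ ⟨a', b'⟩ h
        rw [Subtype.mk.injEq] at h
        have h1 : (a' : P)⁻¹ * a = b' * (b : P)⁻¹ := by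
          rw [eq_mul_inv_iff_mul_eq, mul_assoc, inv_mul_eq_iff_eq_mul]
          exact h
        have h2 : (a' : P)⁻¹ * a = 1 := by
          by_contra h3
          exact hne (D.ker_eq_of_mem_both hv hv₀ (mul_mem (inv_mem a'.2) a.2)
            (h1 ▸ mul_mem b'.2 (inv_mem b.2)) h3)
        have ha' : a = a' := Subtype.ext (inv_mul_eq_one.1 h2).symm
        subst ha'
        exact Prod.ext rfl (Subtype.ext (mul_left_cancel h))
      have := Nat.card_le_card_of_injective f hf
      rw [Nat.card_prod, hc, h4, hEeight] at this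
      omega
    have hQ : ∀ g : P, g • fixedBy Ω v₀ = fixedBy Ω v₀ := fun g => by
      rw [smul_fixedBy]
      have hv' := D.is_conj hv₀ g
      have := hsame _ hv' (hEn.conj_mem v₀ hv₀E g)
      exact D.fixedBy_eq hv₀ (this ▸ D.self_mem _) (D.ne_one hv')
    obtain ⟨ρ, -, -, hρ⟩ := exists_quadPerm (G := P) (D.four v₀ hv₀)
    let ψ : P →* Equiv.Perm (Fin 4) :=
      ρ.comp ((MonoidHom.id P).codRestrict _ fun g => MulAction.mem_stabilizer_iff.2 (hQ g))
    have hψ : ψ.ker = ker Ω v₀ := Subgroup.ext fun g => MonoidHom.mem_ker.trans (hρ _)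
    have hP32 : Nat.card P ≤ 32 := by
      have h := ψ.ker.card_eq_card_quotient_mul_card_subgroup
      rw [Nat.card_congr (QuotientGroup.quotientKerEquivRange ψ).toEquiv, hψ, h4] at h
      have hd := ψ.range.card_subgroup_dvd_card
      rw [Nat.card_perm, Nat.card_fin] at hd
      haveI : Fact (Nat.Prime 2) := ⟨Nat.prime_two⟩
      obtain ⟨j, hj⟩ := D.isP.exists_card_eq
      have hd32 : 2 ^ j ∣ 96 := by
        rw [← hj, h]
        exact (Nat.mul_dvd_mul hd (dvd_refl 4)).trans (by norm_num [Nat.factorial])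
      have hj5 : j ≤ 5 := by
        by_contra hgt
        exact absurd ((Nat.pow_dvd_pow 2 (show 6 ≤ j by omega)).trans hd32) (by norm_num)
      rw [hj]
      exact Nat.pow_le_pow_right (by norm_num) hj5
    by_cases hsq : ∀ y : P, y * y = 1
    · have h := D.card_le_four_mul hv₀ ⊤ (fun y _ => hsq y) (fun y _ => hQ y)
      rw [Subgroup.card_top, top_inf_eq, h4] at h
      exact sectional_of_card_le h
    · push Not at hsq
      obtain ⟨y, hy⟩ := hsq
      exact sectional_of_card_le_thirty_two D.isP hP32 hy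
  -- no fixer in `E`
  push Not at hfix
  obtain ⟨v, hv⟩ := hu
  have hsemi : ∀ w ∈ E, ∀ b ∈ fixedBy Ω v, w • b = b → w = 1 := by
    intro w hwE b hb hwb
    by_contra hw1
    exact hfix w ⟨orderOf_eq_prime (by rw [pow_two]; exact hEsq w hwE) hw1, b, D.not_mem hv hb, hwb⟩ hwE
  set V := E ⊓ Subgroup.centralizer ({v} : Set P) with hV
  have hsqle : Nat.card E ≤ Nat.card V * Nat.card V :=
    card_le_cent_sq E hEsq (D.sq hv) fun y hy => hEn.conj_mem y hy v
  have hVc : ∀ w ∈ V, w * v = v * w := fun w hw => Subgroup.mem_centralizer_singleton_iff.1 hw.2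
  have hV4 : Nat.card V ≤ 4 := by
    obtain ⟨b, hb⟩ := D.nonempty hv
    have hinj : Function.Injective (fun w : ↥V => (⟨(w : P) • b,
        D.smul_fix (hVc w w.2) ▸ Set.smul_mem_smul_set hb⟩ : ↥(fixedBy Ω v))) := by
      intro a c h
      rw [Subtype.mk.injEq] at h
      refine Subtype.ext (inv_mul_eq_one.1 (hsemi _ (mul_mem (inv_mem c.2.1) a.2.1) b hb ?_)).symm
      rw [mul_smul, h, inv_smul_smul]
    have := Nat.card_le_card_of_injective _ hinj
    rwa [Nat.card_coe_set_eq, D.four v hv] at this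
  have hV4' : Nat.card V = 4 := by
    rcases card_two_pow D.isP V with e | e | e | e | e | e <;>
      first | omega | (rw [e] at hsqle; omega)
  obtain ⟨U, hUc, hVU, hvU, hUsq, hUmem⟩ := exists_adjoin V (fun w hw => hEsq w hw.1) (D.sq hv)
    (fun h => hfix v hv h.1) (fun w hw => (hVc w hw).symm)
  refine D.of_eight hv U hUsq (by rw [hUc, hV4']) hvU fun y hy hyK => ?_
  obtain ⟨b, hb⟩ := D.nonempty hv
  rcases hUmem y hy with h | h
  · exact Or.inl (hsemi y h.1 b hb (D.smul_eq_of_mem hyK hb))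
  · refine Or.inr ?_
    have h1 : v * y = 1 := hsemi _ h.1 b hb (D.smul_eq_of_mem (mul_mem (D.self_mem v) hyK) hb)
    rw [← inv_eq_of_mul_eq_one_right h1, inv_eq_of_mul_eq_one_right (D.sq hv)]

end Data

end CfsgLib.FixityFour.Fixer

namespace CfsgLib.FixityFour

open Fixer in
/-- A fixer bounds the sectional rank of a 2-group by four. -/
theorem sectional_of_fixer {G Ω : Type*} [Group G] [MulAction G Ω] [Finite G] [Finite Ω]
    {S : Subgroup G} {Q₀ : Set Ω} (hD : FixerData S Q₀) (hu : ∃ u, IsFixer S Q₀ u) :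
    Cfsg.SectionalPRankLE 2 4 ↥S := by
  have hfix : ∀ v : ↥S, fixedBy Ω v = fixedBy Ω (v : G) := fun _ => rfl
  have his : ∀ v : ↥S, Is Q₀ v ↔ IsFixer S Q₀ (v : G) := fun v => by
    refine ⟨fun h => ⟨v.2, (Subgroup.orderOf_coe v).trans h.1, h.2⟩,
      fun h => ⟨(Subgroup.orderOf_coe v).symm.trans h.2.1, h.2.2⟩⟩
  have hker : ∀ (v : ↥S) (x : ↥S), x ∈ ker Ω v ↔ (x : G) ∈ quadKernel S Ω (v : G) := fun v x => by
    rw [quadKernel, Subgroup.mem_inf, mem_fixingSubgroup_iff, mem_fixingSubgroup_iff, hfix]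
    exact ⟨fun h => ⟨x.2, h⟩, fun h => h.2⟩
  have hcard : ∀ v : ↥S, Nat.card (ker Ω v) = Nat.card (quadKernel S Ω (v : G)) := fun v =>
    Nat.card_congr
      { toFun := fun x => ⟨x.1.1, (hker v x.1).1 x.2⟩
        invFun := fun x => ⟨⟨x.1, x.2.1⟩, (hker v ⟨x.1, x.2.1⟩).2 x.2⟩
        left_inv := fun _ => rfl
        right_inv := fun _ => rfl }
  refine Fixer.Data.sectional (Q₀ := Q₀)
    { isP := hD.isP
      bound := fun g hg => hD.bound (g : G) fun h => hg (Subtype.ext h)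
      four := fun v hv => hD.four _ ((his v).1 hv)
      apart := fun v hv => hD.apart _ ((his v).1 hv)
      small := fun v hv => (hcard v).le.trans (hD.small _ ((his v).1 hv))
      exp := fun v hv x hx => Subtype.ext (hD.exp _ ((his v).1 hv) _ ((hker v x).1 hx))
      inv := fun s => hD.inv _ s.2
      lift := fun v hv h4 d hd hb => ?_ } ?_
  · rcases hD.lift _ ((his v).1 hv) ((hcard v).symm.trans h4) (d : G) d.2 hd hb with
      h | ⟨x, hxS, hx, hk⟩
    · exact Or.inl ((hker v d).2 h)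
    · exact Or.inr ⟨⟨x, hxS⟩, Subtype.ext hx, (hker v _).2 hk⟩
  · obtain ⟨u, hu⟩ := hu
    exact ⟨⟨u, hu.1⟩, (his _).2 hu⟩

end CfsgLib.FixityFour
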