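import Cfsg.Agent.Lib.FixityFour.Elementary
import Cfsg.Agent.Lib.FixityFour.Cyclic
import Cfsg.Agent.Lib.InvChar.OneInvolution
import Cfsg.Agent.Lib.Transfer.PGroup
import Cfsg.Prelude.Def_Involutions

/-!
A Sylow 2-subgroup inducing a four-group on the quadruple fixed by a four-point involution, with no
other element fixing a point: strongly embedded subgroup or sectional 2-rank at most four.
-/

set_option autoImplicit false
set_option linter.style.haveILetI false
set_option linter.unusedSectionVars false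

open MulAction
open scoped Pointwise

namespace CfsgLib.FixityFour.Klein

open Elementary

/-- A subgroup that is trivial-intersection modulo a normal subgroup has at most one involution
modulo it. -/
theorem false_of_two_involutions {Z : Type*} [Group Z] [Finite Z] (B W : Subgroup Z) [hW : W.Normal]
    (hWB : W ≤ B) (hB : B ≠ ⊤) (hTI : ∀ g : Z, g ∉ B → ∀ d ∈ B, g⁻¹ * d * g ∈ B → d ∈ W)
    {t₁ t₂ : Z} (h1 : t₁ ∈ B) (h2 : t₂ ∈ B) (h1W : t₁ ∉ W) (h2W : t₂ ∉ W) (hsq : t₁ * t₁ = 1)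
    (ht2 : t₂ * t₂ = 1) (h12 : t₁⁻¹ * t₂ ∉ W) : False := by
  classical
  haveI := Fintype.ofFinite Z
  let r : Z ⧸ B → Z := Quotient.out
  have hr : ∀ q : Z ⧸ B, (QuotientGroup.mk (r q) : Z ⧸ B) = q := QuotientGroup.out_eq'
  have hne : ∀ q : {q : Z ⧸ B // q ≠ QuotientGroup.mk 1}, r q ∉ B := fun q h =>
    q.2 (by
      rw [← hr q.1, QuotientGroup.eq, mul_one]
      exact inv_mem h)
  have hsame : ∀ (q q' : Z ⧸ B) (d d' : Z), d ∈ B → d ∉ W → d' ∈ B →
      (r q * d * (r q)⁻¹)⁻¹ * (r q' * d' * (r q')⁻¹) ∈ W → q = q' := by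
    intro q q' d d' hd hdW hd' h
    by_contra hqq
    have hg : (r q)⁻¹ * r q' ∉ B := fun hc => hqq (by rw [← hr q, ← hr q', QuotientGroup.eq]; exact hc)
    refine hdW (hTI _ hg d hd ?_)
    have hw : (r q')⁻¹ * ((r q * d * (r q)⁻¹)⁻¹ * (r q' * d' * (r q')⁻¹)) * r q' ∈ B :=
      hWB (hW.conj_mem' _ h _)
    have e : ((r q)⁻¹ * r q')⁻¹ * d * ((r q)⁻¹ * r q') =
        d' * ((r q')⁻¹ * ((r q * d * (r q)⁻¹)⁻¹ * (r q' * d' * (r q')⁻¹)) * r q')⁻¹ := by group
    rw [e]
    exact mul_mem hd' (inv_mem hw)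
  let tt : Bool → Z := fun i => if i then t₁ else t₂
  have htt : ∀ i, tt i ∈ B ∧ tt i ∉ W := fun i => by
    cases i <;> simp [tt, h1, h2, h1W, h2W]
  let f : ↥W ⊕ ((Z ⧸ B) × {d : ↥B // (d : Z) ∉ W}) ⊕ ({q : Z ⧸ B // q ≠ QuotientGroup.mk 1} × Bool × ↥W) → Z :=
    Sum.elim (fun w => (w : Z)) (Sum.elim (fun p => r p.1 * ((p.2 : ↥B) : Z) * (r p.1)⁻¹)
      (fun p => t₁ * (r p.1 * tt p.2.1 * (r p.1)⁻¹ * (p.2.2 : Z))))
  have hnotW : ∀ (q : {q : Z ⧸ B // q ≠ QuotientGroup.mk 1}) (i : Bool) (w : ↥W),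
      t₁ * (r q * tt i * (r q)⁻¹ * (w : Z)) ∉ W := by
    intro q i w h
    refine (htt i).2 (hTI (r q)⁻¹ (fun hc => hne q (inv_mem_iff.1 hc)) (tt i) (htt i).1 ?_)
    rw [inv_inv]
    have h' : r q * tt i * (r q)⁻¹ =
        t₁⁻¹ * (t₁ * (r q * tt i * (r q)⁻¹ * (w : Z))) * (w : Z)⁻¹ := by group
    rw [h']
    exact mul_mem (mul_mem (inv_mem h1) (hWB h)) (inv_mem (hWB w.2))
  have hderange : ∀ (q' : Z ⧸ B) (d : Z), d ∈ B → d ∉ W →
      ∀ (q : {q : Z ⧸ B // q ≠ QuotientGroup.mk 1}) (i : Bool) (w : ↥W), tt i * tt i = 1 →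
      r q' * d * (r q')⁻¹ ≠ t₁ * (r q * tt i * (r q)⁻¹ * (w : Z)) := by
    intro q' d hd hdW q i w hi h
    set u := r q * tt i * (r q)⁻¹ with hu
    have huu : u * u = 1 := by
      rw [hu, show r q * tt i * (r q)⁻¹ * (r q * tt i * (r q)⁻¹) = r q * (tt i * tt i) * (r q)⁻¹ by
        group, hi, mul_one, mul_inv_cancel]
    have ht1 : t₁⁻¹ = t₁ := inv_eq_of_mul_eq_one_right hsq
    -- `t₁` inverts the element modulo `W`
    have hinv : (t₁ * (u * (w : Z))) * (t₁ * (t₁ * (u * (w : Z))) * t₁⁻¹) ∈ W := by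
      have e : (t₁ * (u * (w : Z))) * (t₁ * (t₁ * (u * (w : Z))) * t₁⁻¹) =
          (t₁ * u * (w : Z) * (t₁ * u)⁻¹) * ((t₁ * (w : Z) * t₁⁻¹)) := by
        rw [← mul_assoc t₁ t₁, hsq, one_mul, mul_inv_rev, inv_eq_of_mul_eq_one_right huu]
        simp [mul_assoc]
      rw [e]
      exact mul_mem (hW.conj_mem _ w.2 _) (hW.conj_mem _ w.2 _)
    by_cases hq' : r q' ∈ B
    · refine hne q ?_
      by_contra hq
      have hzB : t₁ * (u * (w : Z)) ∈ B := h ▸ mul_mem (mul_mem hq' hd) (inv_mem hq')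
      have huB : u ∈ B := by
        have := mul_mem (mul_mem (inv_mem h1) hzB) (inv_mem (hWB w.2))
        simpa [mul_assoc] using this
      exact (htt i).2 (hTI (r q)⁻¹ (fun hc => hq (inv_mem_iff.1 hc)) (tt i) (htt i).1 (by rw [inv_inv]; exact huB))
    · rw [← h] at hinv
      -- the image of `d` under `t₁` lies in the same conjugate
      set g := (r q')⁻¹ * t₁ * r q' with hg
      have hgd : g * d * g⁻¹ ∈ B := by
        have h' := hW.conj_mem _ hinv (r q')⁻¹
        have e : (r q')⁻¹ * (r q' * d * (r q')⁻¹ * (t₁ * (r q' * d * (r q')⁻¹) * t₁⁻¹)) * (r q')⁻¹⁻¹ =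
            d * (g * d * g⁻¹) := by rw [hg]; group
        rw [e] at h'
        have := mul_mem (inv_mem hd) (hWB h')
        rwa [inv_mul_cancel_left] at this
      have hgB : g ∈ B := by
        by_contra hgB
        exact hdW (hTI g⁻¹ (fun hc => hgB (inv_mem_iff.1 hc)) d hd (by rw [inv_inv]; exact hgd))
      exact h1W (hTI (r q') hq' t₁ h1 hgB)
  have hti : ∀ i, tt i * tt i = 1 := fun i => by cases i <;> simp [tt, hsq, ht2]
  have hf : Function.Injective f := by
    intro x y hxy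
    rcases x with w | ⟨q, ⟨d, hdW⟩⟩ | ⟨q, i, w⟩ <;> rcases y with w' | ⟨q', ⟨d', hdW'⟩⟩ | ⟨q', i', w'⟩ <;>
      simp only [f, Sum.elim_inl, Sum.elim_inr] at hxy
    · rw [Subtype.ext hxy]
    · exfalso
      refine hdW' ?_
      have := hW.conj_mem _ w.2 (r q')⁻¹
      rw [hxy] at this
      simpa [mul_assoc] using this
    · exact absurd (hxy ▸ w.2) (hnotW q' i' w')
    · exfalso
      refine hdW ?_
      have := hW.conj_mem _ w'.2 (r q)⁻¹
      rw [← hxy] at this
      simpa [mul_assoc] using this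
    · have hq : q = q' := hsame q q' d d' d.2 hdW d'.2 (by rw [hxy, inv_mul_cancel]; exact W.one_mem)
      subst hq
      have : d = d' := Subtype.ext (mul_left_cancel (mul_right_cancel hxy))
      subst this
      rfl
    · exact absurd hxy (hderange q d d.2 hdW q' i' w' (hti i'))
    · exact absurd (hxy.symm ▸ w'.2) (hnotW q i w)
    · exact absurd hxy.symm (hderange q' d' d'.2 hdW' q i w (hti i))
    · have h := mul_left_cancel hxy
      have hmem : (r q * tt i * (r q)⁻¹)⁻¹ * (r q' * tt i' * (r q')⁻¹) ∈ W := by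
        rw [eq_mul_inv_iff_mul_eq.2 h]
        have e : ∀ a b c : Z, (a * b * c⁻¹)⁻¹ * a = c * b⁻¹ := fun a b c => by group
        rw [e]
        exact mul_mem w.2 (inv_mem w'.2)
      have hq : q = q' := Subtype.ext (hsame _ _ _ _ (htt i).1 (htt i).2 (htt i').1 hmem)
      subst hq
      have hi : i = i' := by
        by_contra hii
        have h' := hW.conj_mem' _ hmem (r q)
        have e : (r q)⁻¹ * ((r q * tt i * (r q)⁻¹)⁻¹ * (r q * tt i' * (r q)⁻¹)) * r q = (tt i)⁻¹ * tt i' := by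
          group
        rw [e] at h'
        cases i <;> cases i'
        · exact hii rfl
        · exact h12 (by
            have h'' := inv_mem h'
            rw [mul_inv_rev, inv_inv] at h''
            exact h'')
        · exact h12 h'
        · exact hii rfl
      subst hi
      rw [Subtype.ext (mul_left_cancel h)]
  have hle := Nat.card_le_card_of_injective f hf
  rw [Nat.card_sum, Nat.card_sum, Nat.card_prod, Nat.card_prod, Nat.card_prod,
    Nat.card_eq_fintype_card (α := Bool), Fintype.card_bool] at hle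
  have hsplit : Nat.card {d : ↥B // (d : Z) ∉ W} + Nat.card W = Nat.card B := by
    have h1' : Nat.card W = Nat.card {d : ↥B // (d : Z) ∈ W} :=
      Nat.card_congr
        { toFun := fun w => ⟨⟨w, hWB w.2⟩, w.2⟩
          invFun := fun d => ⟨d.1, d.2⟩
          left_inv := fun _ => rfl
          right_inv := fun _ => rfl }
    rw [h1', add_comm, ← Nat.card_sum]
    exact Nat.card_congr (Equiv.sumCompl _)
  have hcompl : Nat.card {q : Z ⧸ B // q ≠ QuotientGroup.mk 1} + 1 = Nat.card (Z ⧸ B) := by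
    rw [← Nat.card_congr (Equiv.sumCompl (fun q : Z ⧸ B => q = QuotientGroup.mk 1)), Nat.card_sum,
      Nat.card_unique (α := {q : Z ⧸ B // q = QuotientGroup.mk 1}), add_comm]
  have hidx : 2 ≤ Nat.card (Z ⧸ B) := by
    have h' : B.index ≠ 1 := fun h' => hB (Subgroup.index_eq_one.1 h')
    have h'' : B.index ≠ 0 := Subgroup.index_ne_zero_of_finite
    rw [← Subgroup.index_eq_card]
    omega
  have hZ : Nat.card Z = Nat.card (Z ⧸ B) * Nat.card B := B.card_eq_card_quotient_mul_card_subgroup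
  have hpos : 0 < Nat.card W := Nat.card_pos
  rw [hZ, ← hsplit, ← hcompl] at hle
  rw [← hcompl] at hidx
  nlinarith

variable {G Ω : Type*} [Group G] [Finite G] [MulAction G Ω] [Finite Ω]

set_option synthInstance.maxSize 1024 in
set_option synthInstance.maxHeartbeats 200000 in
theorem perm_four_cent_free : ∀ σ τ : Equiv.Perm (Fin 4), τ * τ = 1 → (∀ i, τ i ≠ i) → σ * τ = τ * σ →
    σ * σ * (σ * σ) = 1 := by
  decide +kernel

/-- What is used about the stabiliser `H` of the quadruple. -/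
structure Data (H : Subgroup G) (Q : Set Ω) : Prop where
  bound : ∀ g : G, g ≠ 1 → (fixedBy Ω g).ncard ≤ 4
  four : Q.ncard = 4
  stab : ∀ g : G, g ∈ H ↔ g • Q = Q
  fixer : ∀ w ∈ H, orderOf w = 2 → ∀ b : Ω, w • b = b → fixedBy Ω w = Q
  cent : ∀ r ∈ H, orderOf r = 2 → ∃ w ∈ H, orderOf w = 2 ∧ fixedBy Ω w = Q ∧ w * r = r * w
  small : ∀ D : Subgroup G, D ≤ H → IsPGroup 2 D → (∀ d ∈ D, (∀ q ∈ Q, d • q = q) → d = 1) →
    (∀ d ∈ D, d * d = 1) ∧ Nat.card D ≤ 4

/-- An involution of `H` with centraliser in `H`. -/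
def Good (H : Subgroup G) (r : G) : Prop :=
  r ∈ H ∧ orderOf r = 2 ∧ ∀ x : G, x * r = r * x → x ∈ H

variable {H : Subgroup G} {Q : Set Ω} (D : Data H Q)
include D

namespace Data

theorem good_of_fix {w : G} (hw : orderOf w = 2) (hQ : fixedBy Ω w = Q) : Good H w :=
  ⟨(D.stab w).2 (hQ ▸ smul_eq_self_of_commute rfl), hw, fun x hx =>
    (D.stab x).2 (hQ ▸ smul_eq_self_of_commute hx)⟩

theorem mem_of_fixer_conj {w g : G} (hw : fixedBy Ω w = Q) (hgH : g * w * g⁻¹ ∈ H)
    (ho : orderOf w = 2) : g ∈ H := by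
  obtain ⟨b, hb⟩ : Q.Nonempty := Set.nonempty_of_ncard_ne_zero (by rw [D.four]; omega)
  have hb' : w • b = b := by
    rw [← hw] at hb
    exact hb
  have h := D.fixer _ hgH (by rw [Invol.orderOf_conj, ho]) (g • b) (by
    rw [mul_smul, mul_smul, inv_smul_smul, hb'])
  rw [← smul_fixedBy, hw] at h
  exact (D.stab g).2 h

/-- A good involution is conjugate into `H` only by elements of `H`. -/
theorem mem_of_good {r g : G} (hr : Good H r) (hg : g * r * g⁻¹ ∈ H) : g ∈ H := by
  obtain ⟨w, -, hwo, hwQ, hc⟩ := D.cent _ hg (by rw [Invol.orderOf_conj, hr.2.1])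
  have hwH : g⁻¹ * w * g ∈ H := hr.2.2 _ (by
    calc g⁻¹ * w * g * r = g⁻¹ * (w * (g * r * g⁻¹)) * g := by group
      _ = g⁻¹ * (g * r * g⁻¹ * w) * g := by rw [hc]
      _ = r * (g⁻¹ * w * g) := by group)
  have := D.mem_of_fixer_conj (g := g⁻¹) hwQ (by rw [inv_inv]; exact hwH) hwo
  exact inv_mem_iff.1 this

theorem good_conj {r g : G} (hr : Good H r) (hg : g * r * g⁻¹ ∈ H) : Good H (g * r * g⁻¹) := by
  refine ⟨hg, by rw [Invol.orderOf_conj, hr.2.1], fun x hx => ?_⟩
  have hgH := D.mem_of_good hr hg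
  have hxH : g⁻¹ * x * g ∈ H := hr.2.2 _ (by
    calc g⁻¹ * x * g * r = g⁻¹ * (x * (g * r * g⁻¹)) * g := by group
      _ = g⁻¹ * (g * r * g⁻¹ * x) * g := by rw [hx]
      _ = r * (g⁻¹ * x * g) := by group)
  have := mul_mem (mul_mem hgH hxH) (inv_mem hgH)
  simpa [mul_assoc] using this

variable {r : G} (hrH : r ∈ H) (hro : orderOf r = 2) (hbad : ¬ Good H r)
include hrH hro hbad

theorem free (b : Ω) : r • b ≠ b := fun h => hbad (D.good_of_fix hro (D.fixer r hrH hro b h))

/-- The part of `C(r)` fixing two translates of `Q`. -/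
theorem inter_small {g : G} (hgr : g * r = r * g) (hgH : g ∉ H) :
    (∀ d ∈ Subgroup.centralizer ({r} : Set G) ⊓ H ⊓ H.map (MulAut.conj g).toMonoidHom,
      d * d = 1 ∧ ¬ Good H d) ∧
    Nat.card ↥(Subgroup.centralizer ({r} : Set G) ⊓ H ⊓ H.map (MulAut.conj g).toMonoidHom) ≤ 4 := by
  set E := Subgroup.centralizer ({r} : Set G) ⊓ H ⊓ H.map (MulAut.conj g).toMonoidHom with hE
  have hmem : ∀ d ∈ E, d * r = r * d ∧ d ∈ H ∧ g⁻¹ * d * g ∈ H := by
    rintro d ⟨⟨h1, h2⟩, v, hv, rfl⟩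
    exact ⟨Subgroup.mem_centralizer_singleton_iff.1 h1, h2, by simpa [mul_assoc] using hv⟩
  have hgQ : g • Q ≠ Q := fun h => hgH ((D.stab g).2 h)
  have hrgQ : r • (g • Q) = g • Q := by
    rw [← mul_smul, ← hgr, mul_smul, (D.stab r).1 hrH]
  -- the two permutation images
  have hperm : ∀ R : Set Ω, R.ncard = 4 → r • R = R → ∀ d : G, d * r = r * d → d • R = R →
      ∀ q ∈ R, d ^ 4 • q = q := by
    intro R hR hrR d hdr hdR q hq
    obtain ⟨ρ, e, he, hρ⟩ := exists_quadPerm (G := G) hR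
    let Dd : MulAction.stabilizer G R := ⟨d, MulAction.mem_stabilizer_iff.2 hdR⟩
    let Rr : MulAction.stabilizer G R := ⟨r, MulAction.mem_stabilizer_iff.2 hrR⟩
    have h4 := perm_four_cent_free (ρ Dd) (ρ Rr)
      (by rw [← map_mul, show Rr * Rr = 1 from Subtype.ext (Invol.mul_self_eq_one hro), map_one])
      (fun i => by
        obtain ⟨p, rfl⟩ := e.surjective i
        exact fun h => D.free hrH hro hbad (p : Ω) ((he Rr p p).1 h))
      (by rw [← map_mul, ← map_mul, show Dd * Rr = Rr * Dd from Subtype.ext hdr])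
    have h4' : ρ (Dd ^ 4) = 1 := by
      rw [map_pow, pow_succ, pow_succ, pow_succ, pow_one, mul_assoc (ρ Dd * ρ Dd), h4]
    exact (mem_fixingSubgroup_iff G).1 ((hρ _).1 h4') q hq
  have hinj : ∀ d ∈ E, (∀ q ∈ Q, d • q = q) → d = 1 := by
    intro d hd hdQ
    by_contra hd1
    obtain ⟨hdr, hdH, hdg⟩ := hmem d hd
    obtain ⟨p, hp, hpd⟩ := Nat.exists_prime_and_dvd (show orderOf d ≠ 1 from fun h => hd1 (orderOf_eq_one_iff.1 h))
    set y := d ^ (orderOf d / p) with hy
    have hyo : orderOf y = p := by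
      rw [hy, orderOf_pow_orderOf_div (orderOf_pos d).ne' hpd]
    have hyE : y ∈ E := pow_mem hd _
    obtain ⟨hyr, hyH, hyg⟩ := hmem y hyE
    have hyQ : fixedBy Ω y = Q := by
      refine (Set.eq_of_subset_of_ncard_le (fun q hq => fixedBy_pow_subset _ (hdQ q hq)) ?_ (Set.toFinite _)).symm
      rw [D.four]
      exact D.bound y (fun h => by rw [h, orderOf_one] at hyo; exact hp.ne_one hyo.symm)
    rcases hp.eq_two_or_odd' with rfl | hodd
    · refine hgH ?_
      have := D.mem_of_fixer_conj (g := g⁻¹) hyQ (by rw [inv_inv]; exact hyg) hyo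
      exact inv_mem_iff.1 this
    · refine hgQ ?_
      have hygQ : y • (g • Q) = g • Q := by
        have h := (D.stab _).1 hyg
        rw [mul_smul, mul_smul, inv_smul_eq_iff] at h
        exact h
      refine Set.eq_of_subset_of_ncard_le ?_ (by rw [Set.ncard_smul_set, D.four]) (Set.toFinite _)
      intro q hq
      rw [← hyQ]
      show y • q = q
      have h4 : y ^ 4 • q = q :=
        hperm (g • Q) (by rw [Set.ncard_smul_set, D.four]) hrgQ y hyr hygQ q hq
      obtain ⟨m, hm⟩ : ∃ m, (y ^ 4) ^ m = y := exists_pow_eq_self_of_coprime (by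
        rw [hyo]
        exact Nat.Coprime.pow_left 2 (Nat.coprime_two_left.2 hodd))
      rw [← hm]
      exact fixedBy_pow_subset m h4
  have hP : IsPGroup 2 E := fun d => ⟨2, Subtype.ext (hinj _ (pow_mem d.2 _) fun q hq => by
    obtain ⟨hdr, hdH, -⟩ := hmem _ d.2
    exact hperm Q D.four ((D.stab r).1 hrH) _ hdr ((D.stab _).1 hdH) q hq)⟩
  obtain ⟨hsq, hcard⟩ := D.small E (fun d hd => (hmem d hd).2.1) hP hinj
  refine ⟨fun d hd => ⟨hsq d hd, fun hgood => hgH ?_⟩, hcard⟩
  have := D.mem_of_good (g := g⁻¹) hgood (by rw [inv_inv]; exact (hmem d hd).2.2)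
  exact inv_mem_iff.1 this

/-- The counting step. -/
theorem false_of_normalized {W : Subgroup G}
    (hWH : ∀ w ∈ W, w ∈ H ∧ w * r = r * w ∧ ¬ Good H w)
    {g₀ : G} (hg₀r : g₀ * r = r * g₀) (hg₀H : g₀ ∉ H) (hg₀W : g₀ ∈ Subgroup.normalizer (W : Set G))
    (hTI : ∀ g, g * r = r * g → g ∉ H → g ∈ Subgroup.normalizer (W : Set G) →
      Subgroup.centralizer ({r} : Set G) ⊓ H ⊓ H.map (MulAut.conj g).toMonoidHom ≤ W)
    {t₁ t₂ : G} (h1 : Good H t₁) (h2 : Good H t₂) (h12 : Good H (t₁ * t₂))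
    (h1r : t₁ * r = r * t₁) (h2r : t₂ * r = r * t₂)
    (h1W : t₁ ∈ Subgroup.normalizer (W : Set G)) (h2W : t₂ ∈ Subgroup.normalizer (W : Set G)) :
    False := by
  set Z := Subgroup.centralizer ({r} : Set G) ⊓ Subgroup.normalizer (W : Set G) with hZ
  have hWZ : W ≤ Z := fun w hw =>
    ⟨Subgroup.mem_centralizer_singleton_iff.2 (hWH w hw).2.1, Subgroup.le_normalizer hw⟩
  haveI : (W.subgroupOf Z).Normal := by
    refine ⟨fun w hw z => ?_⟩
    rw [Subgroup.mem_subgroupOf] at hw ⊢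
    exact (Subgroup.mem_normalizer_iff.1 z.2.2 _).1 hw
  have hZm : ∀ t, t * r = r * t → t ∈ Subgroup.normalizer (W : Set G) → t ∈ Z := fun t a b =>
    ⟨Subgroup.mem_centralizer_singleton_iff.2 a, b⟩
  refine false_of_two_involutions (H.subgroupOf Z) (W.subgroupOf Z)
    (fun w hw => (hWH _ hw).1) (fun h => hg₀H ?_) ?_
    (t₁ := ⟨t₁, hZm _ h1r h1W⟩) (t₂ := ⟨t₂, hZm _ h2r h2W⟩) h1.1 h2.1
    (fun h => (hWH _ h).2.2 h1) (fun h => (hWH _ h).2.2 h2)
    (Subtype.ext (Invol.mul_self_eq_one h1.2.1)) (Subtype.ext (Invol.mul_self_eq_one h2.2.1)) (fun h => ?_)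
  · have : (⟨g₀, hZm _ hg₀r hg₀W⟩ : ↥Z) ∈ H.subgroupOf Z := h ▸ Subgroup.mem_top _
    exact this
  · intro g hg d hd hgd
    exact hTI g (Subgroup.mem_centralizer_singleton_iff.1 g.2.1) hg g.2.2
      ⟨⟨d.2.1, hd⟩, ((g⁻¹ * d * g : ↥Z) : G), hgd, by simp [mul_assoc]⟩
  · have h' : t₁⁻¹ * t₂ ∈ W := h
    rw [Invol.inv_eq_self h1.2.1] at h'
    exact (hWH _ h').2.2 h12

/-- A bad involution centralises no four-group of good involutions. -/
theorem false_of_good_four {t₁ t₂ : G} (h1 : Good H t₁) (h2 : Good H t₂) (h12 : Good H (t₁ * t₂))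
    (h1r : t₁ * r = r * t₁) (h2r : t₂ * r = r * t₂) : False := by
  classical
  obtain ⟨g₀, hg₀r, hg₀H⟩ : ∃ x : G, x * r = r * x ∧ x ∉ H := by
    by_contra h
    push Not at h
    exact hbad ⟨hrH, hro, h⟩
  let E : G → Subgroup G := fun g =>
    Subgroup.centralizer ({r} : Set G) ⊓ H ⊓ H.map (MulAut.conj g).toMonoidHom
  have hEmem : ∀ g d, d ∈ E g ↔ d * r = r * d ∧ d ∈ H ∧ g⁻¹ * d * g ∈ H := by
    intro g d
    simp only [E, Subgroup.mem_inf, Subgroup.mem_centralizer_singleton_iff, Subgroup.mem_map_equiv,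
      MulAut.conj_symm_apply, and_assoc]
  have hrE : ∀ g, g * r = r * g → r ∈ E g := fun g hg => (hEmem g r).2 ⟨rfl, hrH, by
    rw [mul_assoc, ← hg, inv_mul_cancel_left]; exact hrH⟩
  have hr1 : r ≠ 1 := Invol.ne_one_of_invol hro
  have hzr : ∀ w ∈ Subgroup.zpowers r, w = 1 ∨ w = r := by
    intro w hw
    obtain ⟨n, rfl⟩ := Subgroup.mem_zpowers_iff.1 hw
    rw [← zpow_mod_orderOf, hro]
    rcases Int.emod_two_eq_zero_or_one n with h | h <;> simp [h]
  -- all intersections small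
  by_cases hA : ∀ g, g * r = r * g → g ∉ H → E g ≤ Subgroup.zpowers r
  · have hWn : ∀ x, x * r = r * x → x ∈ Subgroup.normalizer (Subgroup.zpowers r : Set G) := fun x hx =>
      Subgroup.centralizer_le_normalizer _ (Subgroup.mem_centralizer_iff.2 fun w hw => by
        rcases hzr w hw with rfl | rfl
        · simp
        · exact hx.symm)
    refine D.false_of_normalized hrH hro hbad (W := Subgroup.zpowers r) (fun w hw => ?_) hg₀r hg₀H
      (hWn _ hg₀r) (fun g hg hgH _ => hA g hg hgH) h1 h2 h12 h1r h2r (hWn _ h1r) (hWn _ h2r)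
    rcases hzr w hw with rfl | rfl
    · exact ⟨H.one_mem, by simp, fun h => Invol.ne_one_of_invol h.2.1 rfl⟩
    · exact ⟨hrH, rfl, hbad⟩
  push Not at hA
  obtain ⟨g₁, hg₁r, hg₁H, hnot⟩ := hA
  obtain ⟨s, hs, hsr⟩ := SetLike.not_le_iff_exists.1 hnot
  have hs1 : s ≠ 1 := fun h => hsr (h ▸ one_mem _)
  have hsne : s ≠ r := fun h => hsr (h ▸ Subgroup.mem_zpowers r)
  -- an intersection containing `r` and a further element consists of four elements
  have hfull : ∀ g, g * r = r * g → g ∉ H → ∀ z, z ∈ E g → z ≠ 1 → z ≠ r →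
      ∀ d ∈ E g, d = 1 ∨ d = r ∨ d = z ∨ d = r * z := by
    intro g hg hgH z hz hz1 hzr' d hd
    by_contra hcon
    push Not at hcon
    obtain ⟨c1, c2, c3, c4⟩ := hcon
    have hsub : (({1, r, z, r * z, d} : Finset G) : Set G) ⊆ (E g : Set G) := by
      intro w hw
      simp only [Finset.coe_insert, Finset.coe_singleton, Set.mem_insert_iff, Set.mem_singleton_iff] at hw
      rcases hw with rfl | rfl | rfl | rfl | rfl
      exacts [one_mem _, hrE g hg, hz, mul_mem (hrE g hg) hz, hd]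
    have h1' := Set.ncard_le_ncard hsub (Set.toFinite _)
    rw [Set.ncard_coe_finset, ← Nat.card_coe_set_eq] at h1'
    have h2' : ({1, r, z, r * z, d} : Finset G).card = 5 := by
      have e2 : (1 : G) ≠ r * z := fun h => hzr' (by
        rw [← inv_eq_of_mul_eq_one_right h.symm, Invol.inv_eq_self hro])
      have e3 : r ≠ r * z := fun h => hz1 (by simpa using h)
      have e4 : z ≠ r * z := fun h => hr1 (by simpa using h)
      rw [Finset.card_insert_of_notMem (by simp [hr1.symm, hz1.symm, e2, Ne.symm c1]),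
        Finset.card_insert_of_notMem (by simp [Ne.symm hzr', e3, Ne.symm c2]),
        Finset.card_insert_of_notMem (by simp [e4, Ne.symm c3]), Finset.card_pair (Ne.symm c4)]
    have h3 : Nat.card ↥(E g) ≤ 4 := (D.inter_small hrH hro hbad hg hgH).2
    exact absurd (h2' ▸ h1'.trans (le_of_eq rfl) |>.trans h3) (by norm_num)
  have hnoGood : ∀ g, g * r = r * g → g ∉ H → ∀ w ∈ E g, w ∈ H ∧ w * r = r * w ∧ ¬ Good H w :=
    fun g hg hgH w hw =>
      ⟨((hEmem g w).1 hw).2.1, ((hEmem g w).1 hw).1, ((D.inter_small hrH hro hbad hg hgH).1 w hw).2⟩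
  by_cases hB : ∀ x, x * r = r * x → x * s * x⁻¹ ∈ H
  · -- `s` stays inside `H`
    have hsE : ∀ g, g * r = r * g → g ∉ H → s ∈ E g := fun g hg hgH => by
      have h := hB g⁻¹ ((show Commute g r from hg).inv_left.eq)
      rw [inv_inv] at h
      exact (hEmem g s).2 ⟨((hEmem g₁ s).1 hs).1, ((hEmem g₁ s).1 hs).2.1, h⟩
    have hWn : ∀ x, x * r = r * x → x ∈ Subgroup.normalizer (E g₁ : Set G) := by
      have key : ∀ x, x * r = r * x → ∀ w ∈ E g₁, x * w * x⁻¹ ∈ E g₁ := by
        intro x hx w hw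
        have hxs : x * s * x⁻¹ ∈ E g₁ := by
          refine (hEmem g₁ _).2 ⟨?_, hB x hx, ?_⟩
          · have h1 : Commute x r := hx
            have h2 : Commute s r := ((hEmem g₁ s).1 hs).1
            exact ((h1.mul_left h2).mul_left h1.inv_left).eq
          · have := hB (g₁⁻¹ * x) ((show Commute g₁ r from hg₁r).inv_left.mul_left hx).eq
            simpa [mul_assoc] using this
        have hxr : x * r * x⁻¹ = r := by rw [hx, mul_inv_cancel_right]
        rcases hfull g₁ hg₁r hg₁H s hs hs1 hsne w hw with rfl | rfl | rfl | rfl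
        · simp
        · rw [hxr]; exact hrE g₁ hg₁r
        · exact hxs
        · have : x * (r * s) * x⁻¹ = (x * r * x⁻¹) * (x * s * x⁻¹) := by group
          rw [this, hxr]
          exact mul_mem (hrE g₁ hg₁r) hxs
      intro x hx
      rw [Subgroup.mem_normalizer_iff]
      refine fun w => ⟨key x hx w, fun h => ?_⟩
      have := key x⁻¹ ((show Commute x r from hx).inv_left.eq) _ h
      simpa [mul_assoc] using this
    refine D.false_of_normalized hrH hro hbad (W := E g₁) (hnoGood g₁ hg₁r hg₁H) hg₀r hg₀H (hWn _ hg₀r)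
      (fun g hg hgH _ => ?_) h1 h2 h12 h1r h2r (hWn _ h1r) (hWn _ h2r)
    intro d hd
    rcases hfull g hg hgH s (hsE g hg hgH) hs1 hsne d hd with rfl | rfl | rfl | rfl
    exacts [one_mem _, hrE g₁ hg₁r, hs, mul_mem (hrE g₁ hg₁r) hs]
  -- a conjugate outside `H`
  push Not at hB
  obtain ⟨x, hxr, hxH⟩ := hB
  set s' := x * s * x⁻¹ with hs'
  have hsr' : Commute s r := ((hEmem g₁ s).1 hs).1
  have hs'r : Commute s' r := ((show Commute x r from hxr).mul_left hsr').mul_left (show Commute x r from hxr).inv_left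
  have hs2 : s * s = 1 := ((D.inter_small hrH hro hbad hg₁r hg₁H).1 s hs).1
  have hs'2 : s' * s' = 1 := by
    rw [hs', show x * s * x⁻¹ * (x * s * x⁻¹) = x * (s * s) * x⁻¹ by group, hs2, mul_one, mul_inv_cancel]
  have hr2 := Invol.mul_self_eq_one hro
  -- a good involution is not conjugate to `s` or `r * s`
  have hnc : ∀ t, Good H t → ∀ d : G, d * t * d⁻¹ ≠ s ∧ d * t * d⁻¹ ≠ r * s := by
    intro t ht d
    have key : ∀ u ∈ E g₁, d * t * d⁻¹ ≠ u := fun u hu h => by
      have hd' := D.good_conj ht (g := d) (by rw [h]; exact (hnoGood g₁ hg₁r hg₁H u hu).1)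
      rw [h] at hd'
      exact (hnoGood g₁ hg₁r hg₁H u hu).2.2 hd'
    exact ⟨key s hs, key _ (mul_mem (hrE g₁ hg₁r) hs)⟩
  have hmk : ∀ t, Good H t → t * r = r * t →
      ∃ z, z ∈ E s' ∧ z ≠ 1 ∧ z ≠ r ∧ z * t = t * z := by
    intro t ht htr
    have ht2 := Invol.mul_self_eq_one ht.2.1
    set y := t * s' with hy
    have hyr : Commute y r := (show Commute t r from htr).mul_left hs'r
    rcases Nat.even_or_odd (orderOf y) with ⟨j, hj⟩ | hodd
    swap
    · exfalso
      obtain ⟨d, hd⟩ := isConj_iff.1 (Invol.isConj_of_odd ht2 hs'2 hodd)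
      refine (hnc t ht (x⁻¹ * d)).1 ?_
      calc x⁻¹ * d * t * (x⁻¹ * d)⁻¹ = x⁻¹ * (d * t * d⁻¹) * x := by group
        _ = s := by rw [hd, hs']; group
    have hjpos : 0 < j := by
      rcases Nat.eq_zero_or_pos j with h | h
      · have := orderOf_pos y
        omega
      · exact h
    have hyj : y ^ j * y ^ j = 1 := by rw [← pow_add, ← hj, pow_orderOf_eq_one]
    have hyj1 : y ^ j ≠ 1 := fun h => by
      have := Nat.le_of_dvd hjpos (orderOf_dvd_of_pow_eq_one h)
      omega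
    have hinv : t * y * t⁻¹ = y⁻¹ := Invol.conj_prod ht2 hs'2
    have hpow : ∀ i : ℕ, t * y ^ i * t⁻¹ = (y ^ i)⁻¹ := fun i => by rw [← conj_pow, hinv, inv_pow]
    have hzt : y ^ j * t = t * y ^ j := by
      have h := hpow j
      rw [inv_eq_of_mul_eq_one_right hyj] at h
      exact (mul_inv_eq_iff_eq_mul.1 h).symm
    have hzs : y ^ j * s' = s' * y ^ j := by
      have hs'e : s' = t * y := by rw [hy, ← mul_assoc, ht2, one_mul]
      rw [hs'e, ← mul_assoc, hzt, mul_assoc, mul_assoc, ← pow_succ, ← pow_succ']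
    by_cases hzr' : y ^ j = r
    swap
    · refine ⟨y ^ j, (hEmem s' _).2 ⟨(hyr.pow_left j).eq, ht.2.2 _ hzt, ?_⟩, hyj1, hzr', hzt⟩
      rw [mul_assoc, hzs, inv_mul_cancel_left]
      exact ht.2.2 _ hzt
    exfalso
    rcases Nat.even_or_odd j with ⟨i, hi⟩ | hjodd
    · -- a square root of `r`
      set w := y ^ i with hw
      have hww : w * w = r := by rw [hw, ← pow_add, ← hi, hzr']
      have hw4 : w⁻¹ = w * r := inv_eq_of_mul_eq_one_right (by rw [← mul_assoc, hww, hr2])
      have htw : t * w * t⁻¹ = w * r := by rw [hw, hpow i, ← hw, hw4]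
      have hwt : w * t * w⁻¹ = r * t := by
        have h1 : t * w = w * r * t := mul_inv_eq_iff_eq_mul.1 htw
        calc w * t * w⁻¹ = w * (t * w) * r := by rw [hw4]; simp [mul_assoc]
          _ = w * w * r * t * r := by rw [h1]; simp [mul_assoc]
          _ = r * t := by rw [hww, hr2, one_mul, htr]
      have hwH : w ∈ H := D.mem_of_good ht (by rw [hwt]; exact mul_mem hrH ht.1)
      have hs'w : s'⁻¹ * w * s' ∈ H := by
        have hs'e : s' = t * y := by rw [hy, ← mul_assoc, ht2, one_mul]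
        have : s'⁻¹ * w * s' = t * w * t⁻¹ := by
          rw [inv_eq_of_mul_eq_one_right hs'2]
          nth_rw 1 [hs'e]
          rw [hy, hw]
          have hc : y * y ^ i * t * s' = y * y ^ i * y := by rw [hy]; simp [mul_assoc]
          calc t * y * y ^ i * s' = t * (y ^ (i + 1)) * s' := by rw [pow_succ']; simp [mul_assoc]
            _ = t * y ^ i * (y * s') := by rw [pow_succ]; simp [mul_assoc]
            _ = t * y ^ i * t⁻¹ := by
              rw [hy, mul_assoc t s' s', hs'2, mul_one, Invol.inv_eq_self ht.2.1]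
        rw [this, htw]
        exact mul_mem hwH hrH
      have := ((D.inter_small hrH hro hbad hs'r.eq hxH).1 w ((hEmem s' w).2
        ⟨(hyr.pow_left i).eq, hwH, hs'w⟩)).1
      exact hr1 (hww.symm.trans this)
    · -- `r * t` and `s'` generate a dihedral group of twice odd order
      have hrt2 : r * t * (r * t) = 1 := by
        rw [mul_assoc, ← mul_assoc t r, htr, mul_assoc r t, ht2, mul_one, hr2]
      have hodd' : Odd (orderOf (r * t * s')) := by
        have hrc : Commute r y := hyr.symm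
        have h1 : (r * t * s') ^ j = 1 := by
          rw [mul_assoc, ← hy, hrc.mul_pow, hzr']
          obtain ⟨k, rfl⟩ := hjodd
          rw [pow_succ, pow_mul, pow_two, hr2, one_pow, one_mul, hr2]
        exact hjodd.of_dvd_nat (orderOf_dvd_of_pow_eq_one h1)
      obtain ⟨d, hd, hdc⟩ := Invol.exists_conj_of_odd hrt2 hs'2 hodd'
      have hdr : d * r = r * d := by
        have : Subgroup.closure ({r * t, s'} : Set G) ≤ Subgroup.centralizer ({r} : Set G) := by
          rw [Subgroup.closure_le]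
          rintro z (rfl | rfl)
          · exact Subgroup.mem_centralizer_singleton_iff.2
              ((Commute.refl r).mul_left (show Commute t r from htr)).eq
          · exact Subgroup.mem_centralizer_singleton_iff.2 hs'r.eq
        exact Subgroup.mem_centralizer_singleton_iff.1 (this hd)
      refine (hnc t ht (x⁻¹ * d)).2 ?_
      have e1 : d * t * d⁻¹ = r * s' := by
        rw [← hdc]
        calc d * t * d⁻¹ = r * r * (d * t * d⁻¹) := by rw [hr2, one_mul]
          _ = r * (r * d) * (t * d⁻¹) := by simp [mul_assoc]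
          _ = r * (d * r) * (t * d⁻¹) := by rw [hdr]
          _ = r * (d * (r * t) * d⁻¹) := by simp [mul_assoc]
      have hxr' : x⁻¹ * r = r * x⁻¹ := (show Commute x r from hxr).inv_left.eq
      calc x⁻¹ * d * t * (x⁻¹ * d)⁻¹ = x⁻¹ * (d * t * d⁻¹) * x := by group
        _ = x⁻¹ * r * s' * x := by rw [e1]; group
        _ = r * s := by rw [hxr', hs']; group
  have hWn : ∀ t, Good H t → t * r = r * t → t ∈ Subgroup.normalizer (E s' : Set G) := by
    intro t ht htr
    obtain ⟨z, hz, hz1, hzr', hzt⟩ := hmk t ht htr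
    refine Subgroup.centralizer_le_normalizer _ (Subgroup.mem_centralizer_iff.2 fun w hw => ?_)
    rcases hfull s' hs'r.eq hxH z hz hz1 hzr' w hw with rfl | rfl | rfl | rfl
    · simp
    · exact htr.symm
    · exact hzt
    · rw [mul_assoc, hzt, ← mul_assoc, ← htr, mul_assoc]
  obtain ⟨z, hz, hz1, hzr', hzt⟩ := hmk t₁ h1 h1r
  have hs'n : s' ∈ Subgroup.normalizer (E s' : Set G) := by
    have key : ∀ w ∈ E s', s' * w * s'⁻¹ ∈ E s' := by
      intro w hw
      obtain ⟨hwr, hwH, hws⟩ := (hEmem s' w).1 hw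
      have hi : s'⁻¹ = s' := inv_eq_of_mul_eq_one_right hs'2
      rw [hi] at hws ⊢
      refine (hEmem s' _).2 ⟨((hs'r.mul_left hwr).mul_left hs'r).eq, hws, ?_⟩
      rw [hi]
      have : s' * (s' * w * s') * s' = w := by
        calc s' * (s' * w * s') * s' = (s' * s') * w * (s' * s') := by simp [mul_assoc]
          _ = w := by rw [hs'2, one_mul, mul_one]
      rw [this]
      exact hwH
    rw [Subgroup.mem_normalizer_iff]
    refine fun w => ⟨key w, fun h => ?_⟩
    have := key _ h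
    have e : s' * (s' * w * s'⁻¹) * s'⁻¹ = w := by
      rw [inv_eq_of_mul_eq_one_right hs'2]
      calc s' * (s' * w * s') * s' = (s' * s') * w * (s' * s') := by simp [mul_assoc]
        _ = w := by rw [hs'2, one_mul, mul_one]
    rwa [e] at this
  refine D.false_of_normalized hrH hro hbad (W := E s') (hnoGood s' hs'r.eq hxH) hs'r.eq hxH hs'n
    (fun g hg hgH hgn => ?_) h1 h2 h12 h1r h2r (hWn _ h1 h1r) (hWn _ h2 h2r)
  intro d hd
  have hzg : z ∈ E g := by
    refine (hEmem g z).2 ⟨((hEmem s' z).1 hz).1, ((hEmem s' z).1 hz).2.1, ?_⟩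
    exact ((hEmem s' _).1 ((Subgroup.mem_normalizer_iff''.1 hgn z).1 hz)).2.1
  rcases hfull g hg hgH z hzg hz1 hzr' d hd with rfl | rfl | rfl | rfl
  exacts [one_mem _, hrE s' hs'r.eq, hz, mul_mem (hrE s' hs'r.eq) hz]

end Data

end CfsgLib.FixityFour.Klein

namespace CfsgLib.FixityFour

open Klein Elementary

variable {G Ω : Type*} [Group G] [Finite G] [IsSimpleGroup G] [MulAction G Ω] [FaithfulSMul G Ω] [Finite Ω]

/-- Four-group on the quadruple, no outside fixers. -/
theorem four_klein (hna : ¬ IsMulCommutative G) (htrans : MulAction.IsPretransitive G Ω)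
    (hfix : ∀ g : G, g ≠ 1 → Nat.card (MulAction.fixedBy Ω g) ≤ 4) (S : Sylow 2 G) (a : Ω)
    (Q : Set Ω) (hQ : Q.ncard = 4) (haQ : a ∈ Q) (hSQ : ∀ s ∈ (S : Subgroup G), s • Q = Q)
    (hone : ∃ x ∈ (S : Subgroup G), x ≠ 1 ∧ x • a = a)
    (hA : ∀ x ∈ (S : Subgroup G), x ≠ 1 → x • a = a → MulAction.fixedBy Ω x = Q)
    (hV : ∀ s ∈ (S : Subgroup G), (s * s) • a = a)
    (hreg : ∀ b ∈ Q, ∃ s ∈ (S : Subgroup G), s • a = b)
    (hout : ∀ s ∈ (S : Subgroup G), s • a ≠ a → MulAction.fixedBy Ω s = ∅) :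
    (∃ H : Subgroup G, Cfsg.IsStronglyEmbedded H) ∨ Cfsg.SectionalPRankLE 2 4 G := by
  classical
  haveI : Fact (Nat.Prime 2) := ⟨Nat.prime_two⟩
  haveI := htrans
  have hS : IsPGroup 2 (S : Subgroup G) := S.isPGroup'
  have hd : CycData (S : Subgroup G) a Q := ⟨hS, hQ, haQ, hSQ, hA⟩
  set H := MulAction.stabilizer G Q with hH
  have hSH : (S : Subgroup G) ≤ H := fun s hs => MulAction.mem_stabilizer_iff.2 (hSQ s hs)
  let As : Subgroup ↥(S : Subgroup G) := (MulAction.stabilizer G a).subgroupOf (S : Subgroup G)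
  have hAs : ∀ x : ↥(S : Subgroup G), x ∈ As ↔ (x : G) • a = a := fun x => Iff.rfl
  haveI hAsn : As.Normal := ⟨fun x hx s => hd.conj_fix s.2 x.2 hx⟩
  -- a central involution of `S` fixing `a`
  obtain ⟨z₀, hz₀o, hz₀c, hz₀a⟩ : ∃ z : ↥(S : Subgroup G), orderOf z = 2 ∧
      z ∈ Subgroup.center ↥(S : Subgroup G) ∧ (z : G) • a = a := by
    obtain ⟨x, hx, hx1, hxa⟩ := hone
    haveI : Group.IsNilpotent ↥(S : Subgroup G) := hS.isNilpotent
    have hne : As ≠ ⊥ := fun h0 => hx1 (by
      have hmem : (⟨x, hx⟩ : ↥(S : Subgroup G)) ∈ As := hxa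
      rw [h0, Subgroup.mem_bot] at hmem
      exact congrArg Subtype.val hmem)
    have hne' := CfsgLib.Transfer.inf_center_ne_bot hne
    haveI : Nontrivial ↥(As ⊓ Subgroup.center ↥(S : Subgroup G)) :=
      (Subgroup.nontrivial_iff_ne_bot _).2 hne'
    obtain ⟨n, hn⟩ := (hS.to_subgroup (As ⊓ Subgroup.center ↥(S : Subgroup G))).exists_card_eq
    obtain ⟨c, hc⟩ := exists_prime_orderOf_dvd_card' (G := ↥(As ⊓ Subgroup.center ↥(S : Subgroup G))) 2
      (hn ▸ dvd_pow_self 2 fun h0 => absurd Finite.one_lt_card (by rw [hn, h0, pow_zero]; exact lt_irrefl 1))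
    exact ⟨c, by rw [Subgroup.orderOf_coe, hc], c.2.2, c.2.1⟩
  have hz₀Q : fixedBy Ω (z₀ : G) = Q :=
    hA _ z₀.2 (fun h => by
      rw [show z₀ = 1 from Subtype.ext h, orderOf_one] at hz₀o
      omega) hz₀a
  -- Sylow conjugation inside `H`
  have hconj : ∀ E : Subgroup G, E ≤ H → IsPGroup 2 E →
      ∃ h ∈ H, ∀ d ∈ E, h * d * h⁻¹ ∈ (S : Subgroup G) := by
    intro E hEH hE
    let S' : Sylow 2 ↥H := S.subtype hSH
    obtain ⟨P', hP'⟩ := (hE.comap_of_injective H.subtype H.subtype_injective).exists_le_sylow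
    obtain ⟨m, hm⟩ := MulAction.exists_smul_eq ↥H P' S'
    refine ⟨m, m.2, fun d hd' => ?_⟩
    have : (m * ⟨d, hEH hd'⟩ * m⁻¹ : ↥H) ∈ (S' : Subgroup ↥H) := by
      rw [← hm]
      exact ⟨_, hP' hd', rfl⟩
    exact this
  have hzp : ∀ w : G, orderOf w = 2 → IsPGroup 2 (Subgroup.zpowers w) := fun w hw =>
    IsPGroup.of_card (n := 1) (by rw [Nat.card_zpowers, hw, pow_one])
  have hHQ : ∀ h ∈ H, h • Q = Q := fun h hh => MulAction.mem_stabilizer_iff.1 hh
  have D : Klein.Data H Q := by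
    refine ⟨fun g hg => by rw [← Nat.card_coe_set_eq]; exact hfix g hg, hQ,
      fun g => MulAction.mem_stabilizer_iff, ?_, ?_, ?_⟩
    · intro w hw hwo b hb
      obtain ⟨h, hh, hS'⟩ := hconj _ (Subgroup.zpowers_le.2 hw) (hzp w hwo)
      have hwS := hS' w (Subgroup.mem_zpowers w)
      have hfixed : h • b ∈ fixedBy Ω (h * w * h⁻¹) := mem_fixedBy_conj.2 hb
      have ha : (h * w * h⁻¹) • a = a := by
        by_contra hne
        rw [hout _ hwS hne] at hfixed
        exact hfixed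
      have h' := hA _ hwS (fun e => Invol.ne_one_of_invol hwo (conj_eq_one_iff.1 e)) ha
      rw [← smul_fixedBy] at h'
      exact smul_left_cancel h (h'.trans (hHQ h hh).symm)
    · intro r hr hro
      obtain ⟨h, hh, hS'⟩ := hconj _ (Subgroup.zpowers_le.2 hr) (hzp r hro)
      have hrS := hS' r (Subgroup.mem_zpowers r)
      have hz₀o' : orderOf (z₀ : G) = 2 := by rw [Subgroup.orderOf_coe, hz₀o]
      refine ⟨h⁻¹ * (z₀ : G) * h, mul_mem (mul_mem (inv_mem hh) (hSH z₀.2)) hh, ?_, ?_, ?_⟩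
      · have := Invol.orderOf_conj h⁻¹ (z₀ : G)
        rw [inv_inv] at this
        rw [this, hz₀o']
      · have e : h⁻¹ • fixedBy Ω (z₀ : G) = fixedBy Ω (h⁻¹ * (z₀ : G) * h) := by
          rw [smul_fixedBy, inv_inv]
        rw [← e, hz₀Q, inv_smul_eq_iff, hHQ h hh]
      · have hc : (z₀ : G) * (h * r * h⁻¹) = (h * r * h⁻¹) * (z₀ : G) :=
          (congrArg Subtype.val (Subgroup.mem_center_iff.1 hz₀c ⟨_, hrS⟩)).symm
        calc h⁻¹ * (z₀ : G) * h * r = h⁻¹ * ((z₀ : G) * (h * r * h⁻¹)) * h := by group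
          _ = h⁻¹ * ((h * r * h⁻¹) * (z₀ : G)) * h := by rw [hc]
          _ = r * (h⁻¹ * (z₀ : G) * h) := by group
    · intro E hEH hE hinj
      obtain ⟨h, hh, hS'⟩ := hconj E hEH hE
      have hpt : ∀ d ∈ E, (h * d * h⁻¹) • a = a → d = 1 := by
        intro d hd' ha
        refine hinj d hd' fun q hq => ?_
        have hq' : h • q ∈ Q := by
          rw [← hHQ h hh]
          exact Set.smul_mem_smul_set hq
        have := hd.fix_quad (hS' d hd') ha hq'
        rw [mul_smul, mul_smul, inv_smul_smul] at this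
        exact smul_left_cancel h this
      refine ⟨fun d hd' => hpt _ (mul_mem hd' hd') ?_, ?_⟩
      · rw [show h * (d * d) * h⁻¹ = (h * d * h⁻¹) * (h * d * h⁻¹) by group]
        exact hV _ (hS' d hd')
      · rw [← hQ, ← Nat.card_coe_set_eq]
        refine Nat.card_le_card_of_injective (fun d : ↥E => (⟨(h * (d : G) * h⁻¹) • a,
          (hd.smul_mem_iff (hS' _ d.2) a).2 haQ⟩ : Q)) fun d e hde => ?_
        rw [Subtype.mk.injEq] at hde
        have h1 := hpt _ (mul_mem (inv_mem e.2) d.2) (by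
          rw [show h * ((e : G)⁻¹ * d) * h⁻¹ = (h * e * h⁻¹)⁻¹ * (h * d * h⁻¹) by group, mul_smul, hde,
            inv_smul_smul])
        exact Subtype.ext (inv_mul_eq_one.1 h1).symm
  by_cases hall : ∀ r ∈ H, orderOf r = 2 → Good H r
  · -- strongly embedded
    left
    refine ⟨H, ?_, ?_, ?_⟩
    · intro htop
      have huniv : Q = Set.univ := Set.eq_univ_of_forall fun y => by
        obtain ⟨g, rfl⟩ := MulAction.exists_smul_eq G a y
        have hg : g • Q = Q := hHQ g (htop ▸ Subgroup.mem_top g)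
        rw [← hg]
        exact Set.smul_mem_smul_set haQ
      have hz1 : (z₀ : G) = 1 := FaithfulSMul.eq_of_smul_eq_smul (α := Ω) fun x => by
        rw [one_smul]
        have hx : x ∈ fixedBy Ω (z₀ : G) := by rw [hz₀Q, huniv]; exact Set.mem_univ x
        exact hx
      rw [← Subgroup.orderOf_coe, hz1, orderOf_one] at hz₀o
      omega
    · have := H.orderOf_dvd_natCard (hSH z₀.2)
      rw [Subgroup.orderOf_coe, hz₀o] at this
      exact even_iff_two_dvd.2 this
    · intro g hg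
      by_contra hodd
      rw [Nat.not_odd_iff_even, even_iff_two_dvd] at hodd
      obtain ⟨w, hw⟩ := exists_prime_orderOf_dvd_card' 2 hodd
      obtain ⟨hwH, v, hv, hvw⟩ := Subgroup.mem_inf.1 w.2
      simp only [MulEquiv.coe_toMonoidHom, MulAut.conj_apply] at hvw
      have hw2 : orderOf (w : G) = 2 := by rw [Subgroup.orderOf_coe, hw]
      refine hg (inv_mem_iff.1 (D.mem_of_good (g := g⁻¹) (hall _ hwH hw2) ?_))
      rw [← hvw]
      simpa [mul_assoc] using hv
  right
  refine sectional_of_sylow S ?_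
  push Not at hall
  obtain ⟨r₀, hr₀H, hr₀o, hr₀b⟩ := hall
  obtain ⟨h, hh, hS'⟩ := hconj _ (Subgroup.zpowers_le.2 hr₀H) (hzp r₀ hr₀o)
  let r : ↥(S : Subgroup G) := ⟨h * r₀ * h⁻¹, hS' r₀ (Subgroup.mem_zpowers r₀)⟩
  let Bad : ↥(S : Subgroup G) → Prop := fun x => orderOf x = 2 ∧ ¬ Good H (x : G)
  have hr : Bad r := by
    refine ⟨by rw [← Subgroup.orderOf_coe]; exact (Invol.orderOf_conj h r₀).trans hr₀o, fun hg => hr₀b ?_⟩
    have h' := D.good_conj (g := h⁻¹) hg (by simpa [r, mul_assoc] using hr₀H)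
    simpa [r, mul_assoc] using h'
  have hgoodA : ∀ x : ↥(S : Subgroup G), x ∈ As → orderOf x = 2 → Good H (x : G) := fun x hx ho => by
    have ho' : orderOf (x : G) = 2 := by rw [Subgroup.orderOf_coe, ho]
    exact D.good_of_fix ho' (hA _ x.2 (Invol.ne_one_of_invol ho') hx)
  have hgood : ∀ x : ↥(S : Subgroup G), x * x = 1 → x ≠ 1 → ¬ Bad x → Good H (x : G) := fun x hx hx1 hb => by
    by_contra hg
    exact hb ⟨Invol.orderOf_eq_two hx1 hx, hg⟩
  have hfour : ∀ x t₁ t₂ : ↥(S : Subgroup G), Bad x → t₁ * x = x * t₁ → t₂ * x = x * t₂ →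
      Good H (t₁ : G) → Good H (t₂ : G) → Good H ((t₁ * t₂ : ↥(S : Subgroup G)) : G) → False := by
    intro x t₁ t₂ hx c₁ c₂ g₁ g₂ g₁₂
    exact D.false_of_good_four (hSH x.2) (by rw [Subgroup.orderOf_coe, hx.1]) hx.2 g₁ g₂ g₁₂
      (congrArg Subtype.val c₁) (congrArg Subtype.val c₂)
  have huniq : ∀ x y w : ↥(S : Subgroup G), Bad x → y ∈ As → w ∈ As → y ≠ 1 → w ≠ 1 → y * y = 1 →
      w * w = 1 → y * x = x * y → w * x = x * w → y = w := by
    intro x y w hx hy hw hy1 hw1 hy2 hw2 cy cw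
    set C := As ⊓ Subgroup.centralizer ({x} : Set ↥(S : Subgroup G)) with hC
    haveI : Nontrivial C := ⟨⟨⟨y, hy, Subgroup.mem_centralizer_singleton_iff.2 cy⟩, 1,
      fun h => hy1 (congrArg Subtype.val h)⟩⟩
    haveI := (hS.to_subgroup C).center_nontrivial
    obtain ⟨c, hc⟩ := exists_prime_orderOf_dvd_card' (G := Subgroup.center ↥C) 2 (by
      obtain ⟨n, hn⟩ := ((hS.to_subgroup C).to_subgroup (Subgroup.center ↥C)).exists_card_eq
      rw [hn]
      refine dvd_pow_self 2 fun h0 => ?_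
      rw [h0, pow_zero] at hn
      exact absurd (Nat.card_eq_one_iff_unique.1 hn).1 (not_subsingleton _))
    set z : ↥(S : Subgroup G) := ((c : ↥C) : ↥(S : Subgroup G)) with hz
    have hzo : orderOf z = 2 := by rw [hz, Subgroup.orderOf_coe, Subgroup.orderOf_coe, hc]
    have key : ∀ v, v ∈ As → v ≠ 1 → v * v = 1 → v * x = x * v → v = z := by
      intro v hv hv1 hv2 cv
      by_contra hne
      have hvz : z * v = v * z := congrArg Subtype.val
        (Subgroup.mem_center_iff.1 c.2 ⟨v, hv, Subgroup.mem_centralizer_singleton_iff.2 cv⟩).symm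
      have hzv1 : z * v ≠ 1 := fun h => hne (by
        rw [← inv_eq_of_mul_eq_one_right h, Invol.inv_eq_self hzo])
      have hzv2 : z * v * (z * v) = 1 := by
        rw [(show Commute v z from hvz.symm).mul_mul_mul_comm, Invol.mul_self_eq_one hzo, hv2, one_mul]
      exact hfour x z v hx (Subgroup.mem_centralizer_singleton_iff.1 (c : ↥C).2.2) cv
        (hgoodA z (c : ↥C).2.1 hzo) (hgoodA v hv (Invol.orderOf_eq_two hv1 hv2))
        (hgoodA _ (mul_mem (c : ↥C).2.1 hv) (Invol.orderOf_eq_two hzv1 hzv2))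
    rw [key y hy hy1 hy2 cy, key w hw hw1 hw2 cw]
  by_cases hE : ∀ E : Subgroup ↥(S : Subgroup G), E.Normal → IsMulCommutative E →
      (∀ e ∈ E, e ^ 2 = 1) → Nat.card E ≤ 4
  · exact SelfCentEight.sectional_of_bound fun K =>
      CfsgLib.MacWilliams.card_le_sixteen_mul_sqSub hS hE K
  push Not at hE
  obtain ⟨E, hEn, -, hE2, hE4⟩ := hE
  have hEsq : ∀ y ∈ E, y * y = 1 := fun y hy => by rw [← pow_two]; exact hE2 y hy
  have hE8 : 8 ≤ Nat.card E := by rcases card_two_pow hS E with e | e | e | e | e | e <;> omega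
  set B := E ⊓ As with hB
  have hBsq : ∀ y ∈ B, y * y = 1 := fun y hy => hEsq y hy.1
  have hAsidx : As.index ≤ 4 := by
    rw [Subgroup.index_eq_card, ← hQ, ← Nat.card_coe_set_eq]
    refine Nat.card_le_card_of_injective (Quotient.lift
      (fun s : ↥(S : Subgroup G) => (⟨(s : G) • a, (hd.smul_mem_iff s.2 a).2 haQ⟩ : Q)) ?_) ?_
    · intro s t hst
      have h1 := (hAs _).1 (QuotientGroup.leftRel_apply.1 hst)
      refine Subtype.ext ?_
      rw [Subgroup.coe_mul, Subgroup.coe_inv, mul_smul, inv_smul_eq_iff] at h1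
      exact h1.symm
    · intro p q
      induction p using QuotientGroup.induction_on with
      | H s =>
        induction q using QuotientGroup.induction_on with
        | H t =>
          intro h'
          refine QuotientGroup.eq.2 ((hAs _).2 ?_)
          have h'' := congrArg Subtype.val h'
          change (s : G) • a = (t : G) • a at h''
          rw [Subgroup.coe_mul, Subgroup.coe_inv, mul_smul, ← h'', inv_smul_smul]
  have hEB : Nat.card E ≤ 4 * Nat.card B := by
    have h1 : As.relIndex E ≤ 4 := by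
      refine le_trans ?_ hAsidx
      rw [← Subgroup.relIndex_top_right As]
      exact Subgroup.relIndex_le_of_le_right le_top (by
        rw [Subgroup.relIndex_top_right]; exact Subgroup.index_ne_zero_of_finite)
    have h2 : Nat.card B = Nat.card (As.subgroupOf E) := by
      rw [hB, ← Subgroup.inf_subgroupOf_left]
      exact (Nat.card_congr (Subgroup.subgroupOfEquivOfLe inf_le_left).toEquiv).symm
    rw [← (As.subgroupOf E).card_mul_index, h2, mul_comm 4]
    exact Nat.mul_le_mul_left _ h1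
  have hr2 : r * r = 1 := Invol.mul_self_eq_one hr.1
  have hBr : Nat.card ↥(B ⊓ Subgroup.centralizer ({r} : Set ↥(S : Subgroup G))) ≤ 2 := by
    by_contra hgt
    push Not at hgt
    obtain ⟨⟨y, hy⟩, hy1'⟩ := Subgroup.ne_bot_iff_exists_ne_one.1 (show
      B ⊓ Subgroup.centralizer ({r} : Set ↥(S : Subgroup G)) ≠ ⊥ from fun h => by
        rw [h, Subgroup.card_bot] at hgt; omega)
    have hy1 : y ≠ 1 := fun h => hy1' (Subtype.ext h)
    have hsub : ((B ⊓ Subgroup.centralizer ({r} : Set ↥(S : Subgroup G)) : Subgroup ↥(S : Subgroup G)) :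
        Set ↥(S : Subgroup G)) ⊆ {1, y} := by
      intro w hw
      refine or_iff_not_imp_left.2 fun hw1 => ?_
      exact huniq r w y hr hw.1.2 hy.1.2 hw1 hy1 (hBsq w hw.1) (hBsq _ hy.1)
        (Subgroup.mem_centralizer_singleton_iff.1 hw.2) (Subgroup.mem_centralizer_singleton_iff.1 hy.2)
    have := card_le_ncard _ hsub
    rw [Set.ncard_pair (Ne.symm hy1)] at this
    omega
  have hBn : ∀ y ∈ B, r * y * r⁻¹ ∈ B := fun y hy =>
    ⟨hEn.conj_mem y hy.1 r, hAsn.conj_mem y hy.2 r⟩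
  have hBsqle := card_le_cent_sq B hBsq hr2 hBn
  have hB4 : Nat.card B ≤ 4 := hBsqle.trans (Nat.mul_le_mul hBr hBr)
  have hCE : 3 ≤ Nat.card ↥(E ⊓ Subgroup.centralizer ({r} : Set ↥(S : Subgroup G))) := by
    have := card_le_cent_sq E hEsq hr2 fun y hy => hEn.conj_mem y hy r
    by_contra hlt
    push Not at hlt
    have hmul := Nat.mul_le_mul (Nat.lt_succ_iff.1 hlt) (Nat.lt_succ_iff.1 hlt)
    omega
  obtain ⟨e', he'E, he'r, he'A⟩ : ∃ e ∈ E, e * r = r * e ∧ e ∉ As := by
    by_contra hcon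
    push Not at hcon
    have := Subgroup.card_le_of_le (show E ⊓ Subgroup.centralizer ({r} : Set ↥(S : Subgroup G)) ≤
        B ⊓ Subgroup.centralizer ({r} : Set ↥(S : Subgroup G)) from fun y hy =>
      ⟨⟨hy.1, hcon y hy.1 (Subgroup.mem_centralizer_singleton_iff.1 hy.2)⟩, hy.2⟩)
    omega
  obtain ⟨z, hzB, hz1, hzr⟩ : ∃ z ∈ B, z ≠ 1 ∧ z * r = r * z := by
    obtain ⟨y, hy⟩ := Subgroup.ne_bot_iff_exists_ne_one.1 (show
      B ⊓ Subgroup.centralizer ({r} : Set ↥(S : Subgroup G)) ≠ ⊥ from fun h => by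
        rw [h, Subgroup.card_bot] at hBsqle; omega)
    exact ⟨y, y.2.1, fun h => hy (Subtype.ext h), Subgroup.mem_centralizer_singleton_iff.1 y.2.2⟩
  have hcommE : ∀ y ∈ E, ∀ w ∈ E, y * w = w * y := fun y hy w hw => comm_of_sq hEsq hy hw
  have hne1 : ∀ e, e ∉ As → e ≠ 1 := fun e he h => he (h ▸ one_mem _)
  have hzA : z ∈ As := hzB.2
  have hzE : z ∈ E := hzB.1
  have hzgood : Good H (z : G) := hgoodA z hzA (Invol.orderOf_eq_two hz1 (hBsq z hzB))
  have hcoset : ∀ e ∈ E, e ∉ As → z * e ∈ E ∧ z * e ∉ As := fun e he hea =>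
    ⟨mul_mem hzE he, fun h => hea (by simpa using mul_mem (inv_mem hzA) h)⟩
  -- a good pair in one coset gives a contradiction
  have hpair : ∀ f e, Bad f → f * z = z * f → e ∈ E → e ∉ As → f * e = e * f →
      ¬ Bad e → ¬ Bad (z * e) → False := by
    intro f e hf hfz he hea hfe hne hnze
    obtain ⟨hzeE, hzeA⟩ := hcoset e he hea
    exact hfour f z e hf hfz.symm hfe.symm hzgood (hgood e (hEsq e he) (hne1 e hea) hne)
      (hgood _ (hEsq _ hzeE) (hne1 _ hzeA) hnze)
  by_cases hB2 : Nat.card B = 2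
  swap
  · -- `E` meets the point stabiliser in a four-group
    have hBgt : 2 < Nat.card B := by omega
    obtain ⟨w, hw, hw1, hwz⟩ : ∃ w ∈ B, w ≠ 1 ∧ w ≠ z := by
      by_contra hcon
      push Not at hcon
      have hsub : (B : Set ↥(S : Subgroup G)) ⊆ {1, z} := fun y hy =>
        or_iff_not_imp_left.2 fun hy1 => hcon y hy hy1
      have := card_le_ncard _ hsub
      rw [Set.ncard_pair (Ne.symm hz1)] at this
      omega
    have hEgood : ∀ e ∈ E, ¬ Bad e := by
      intro e he hb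
      exact hwz (huniq e w z hb hw.2 hzA hw1 hz1 (hBsq w hw) (hBsq z hzB)
        (hcommE w hw.1 e he) (hcommE z hzE e he))
    exact (hpair r e' hr hzr.symm he'E he'A he'r.symm (hEgood _ he'E) (hEgood _ (hcoset e' he'E he'A).1)).elim
  have hB1z : ∀ y ∈ B, y = 1 ∨ y = z := by
    intro y hy
    by_contra hcon
    push Not at hcon
    have := SelfCentEight.four_le_card hS hy hzB hcon.1 hz1 hcon.2
    omega
  by_cases hbadE : ∃ e ∈ E, e ∉ As ∧ Bad e
  swap
  · push Not at hbadE
    exact (hpair r e' hr hzr.symm he'E he'A he'r.symm (hbadE _ he'E he'A)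
      (hbadE _ (hcoset e' he'E he'A).1 (hcoset e' he'E he'A).2)).elim
  obtain ⟨f, hfE, hfA, hf⟩ := hbadE
  have hbadv : ∀ e ∈ E, e ∉ As → ∃ e₁, (e₁ = e ∨ e₁ = z * e) ∧ Bad e₁ := by
    intro e he hea
    by_contra hcon
    push Not at hcon
    exact hpair f e hf (hcommE f hfE z hzE) he hea (hcommE f hfE e he) (hcon e (Or.inl rfl))
      (hcon _ (Or.inr rfl))
  have hAunique : ∀ b ∈ As, b ≠ 1 → b * b = 1 → b = z := by
    intro b hb hb1 hb2
    by_contra hbz
    have hact : ∀ e ∈ E, Bad e → e * b * e⁻¹ = z * b := by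
      intro e he hbe
      have hm : e * b * e⁻¹ * b⁻¹ ∈ B := by
        refine Subgroup.mem_inf.2 ⟨?_, mul_mem (hAsn.conj_mem b hb e) (inv_mem hb)⟩
        rw [show e * b * e⁻¹ * b⁻¹ = e * (b * e⁻¹ * b⁻¹) by group]
        exact mul_mem he (hEn.conj_mem _ (inv_mem he) b)
      rcases hB1z _ hm with h1 | h1
      · exfalso
        have hc : b * e = e * b := by
          have := mul_inv_eq_one.1 h1
          exact (mul_inv_eq_iff_eq_mul.1 this).symm
        exact hbz (huniq e b z hbe hb hzA hb1 hz1 hb2 (hBsq z hzB) hc (hcommE z hzE e he))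
      · rw [← h1, inv_mul_cancel_right]
    -- representatives of two cosets
    obtain ⟨u, hu, huA, huf⟩ : ∃ u ∈ E, u ∉ As ∧ f * u ∉ As := by
      by_contra hcon
      push Not at hcon
      have hsub : (E : Set ↥(S : Subgroup G)) ⊆ {1, z, f, f * z} := by
        intro y hy
        simp only [Set.mem_insert_iff, Set.mem_singleton_iff]
        by_cases hyA : y ∈ As
        · rcases hB1z y ⟨hy, hyA⟩ with h | h
          · exact Or.inl h
          · exact Or.inr (Or.inl h)
        · rcases hB1z (f * y) ⟨mul_mem hfE hy, hcon y hy hyA⟩ with h | h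
          · refine Or.inr (Or.inr (Or.inl ?_))
            rw [← inv_eq_of_mul_eq_one_right h, inv_eq_of_mul_eq_one_right (hEsq f hfE)]
          · refine Or.inr (Or.inr (Or.inr ?_))
            rw [← h, ← mul_assoc, hEsq f hfE, one_mul]
      have := card_le_ncard _ hsub
      have h4 : ({1, z, f, f * z} : Set ↥(S : Subgroup G)).ncard ≤ 4 := by
        refine (Set.ncard_insert_le _ _).trans (Nat.succ_le_succ ?_)
        refine (Set.ncard_insert_le _ _).trans (Nat.succ_le_succ ?_)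
        exact (Set.ncard_insert_le _ _).trans (by rw [Set.ncard_singleton])
      omega
    obtain ⟨u₁, hu₁, hu₁b⟩ := hbadv u hu huA
    obtain ⟨v₁, hv₁, hv₁b⟩ := hbadv (f * u) (mul_mem hfE hu) huf
    have hu₁E : u₁ ∈ E := by rcases hu₁ with rfl | rfl <;> [exact hu; exact mul_mem hzE hu]
    have hv₁E : v₁ ∈ E := by
      rcases hv₁ with rfl | rfl <;> [exact mul_mem hfE hu; exact mul_mem hzE (mul_mem hfE hu)]
    have c1 := hact f hfE hf
    have c2 := hact u₁ hu₁E hu₁b
    have c3 := hact v₁ hv₁E hv₁b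
    have hfz : f * z * f⁻¹ = z := by rw [hcommE f hfE z hzE, mul_inv_cancel_right]
    have hz2 := hBsq z hzB
    have hfu : (f * u₁) * b * (f * u₁)⁻¹ = b := by
      calc (f * u₁) * b * (f * u₁)⁻¹ = f * (u₁ * b * u₁⁻¹) * f⁻¹ := by group
        _ = (f * z * f⁻¹) * (f * b * f⁻¹) := by rw [c2]; group
        _ = b := by rw [hfz, c1, ← mul_assoc, hz2, one_mul]
    have hzb : z * b * z⁻¹ = b := by
      have hm : z * b * z⁻¹ * b⁻¹ ∈ B := Subgroup.mem_inf.2 ⟨mul_mem hzE (by
          have := hEn.conj_mem _ (inv_mem hzE) b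
          simpa [mul_assoc] using this) |> fun h => by simpa [mul_assoc] using h,
        mul_mem (hAsn.conj_mem b hb z) (inv_mem hb)⟩
      rcases hB1z _ hm with h1 | h1
      · exact mul_inv_eq_one.1 h1
      · exfalso
        rw [mul_assoc z b, mul_assoc z (b * z⁻¹)] at h1
        have h2 : b * z⁻¹ * b⁻¹ = 1 := mul_eq_left.1 h1
        exact hz1 (inv_eq_one.1 (conj_eq_one_iff.1 h2))
    have key : v₁ * b * v₁⁻¹ = b := by
      have hv : v₁ = f * u₁ ∨ v₁ = z * (f * u₁) := by
        rcases hv₁ with rfl | rfl <;> rcases hu₁ with rfl | rfl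
        · exact Or.inl rfl
        · refine Or.inr ?_
          rw [← mul_assoc f z u, hcommE f hfE z hzE, ← mul_assoc, ← mul_assoc, hz2, one_mul]
        · exact Or.inr rfl
        · refine Or.inl ?_
          rw [← mul_assoc f z u, hcommE f hfE z hzE, mul_assoc]
      rcases hv with rfl | rfl
      · exact hfu
      · rw [show z * (f * u₁) * b * (z * (f * u₁))⁻¹ = z * (f * u₁ * b * (f * u₁)⁻¹) * z⁻¹ by group, hfu, hzb]
    rw [key] at c3
    exact hz1 (by simpa using c3.symm)
  -- a unique involution in the point stabiliser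
  have hAP := hS.to_subgroup As
  have huniqA : ∃! x : ↥As, orderOf x = 2 := by
    refine ⟨⟨z, hzA⟩, by show orderOf _ = 2; rw [← Subgroup.orderOf_coe]; exact Invol.orderOf_eq_two hz1 (hBsq z hzB),
      fun y hy => Subtype.ext (hAunique y y.2 ?_ ?_)⟩
    all_goals change orderOf y = 2 at hy
    · intro h'
      rw [← Subgroup.orderOf_coe, h', orderOf_one] at hy
      omega
    · rw [← Subgroup.orderOf_coe] at hy
      exact Invol.mul_self_eq_one hy
  obtain ⟨c, hc⟩ : ∃ c : ↥As, (Subgroup.zpowers c).index ≤ 2 := by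
    by_cases hcomm : IsMulCommutative ↥As
    · obtain ⟨c, hc⟩ := InvChar.exists_zpowers_eq_of_commutative hAP huniqA ⊤
        ⟨⟨fun x y => Subtype.ext (hcomm.is_comm.comm (x : ↥As) (y : ↥As))⟩⟩
      exact ⟨c, by rw [hc, Subgroup.index_top]; norm_num⟩
    · obtain ⟨-, c, -, -, hidx, -⟩ :=
        InvChar.exists_cyclic_index_two_of_unique_involution hAP hcomm huniqA
      exact ⟨c, hidx.le⟩
  haveI : IsCyclic ↥((Subgroup.zpowers c).map As.subtype) := by
    rw [MonoidHom.map_zpowers]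
    infer_instance
  refine sectional_of_cyclic ((Subgroup.zpowers c).map As.subtype) ?_
  rw [Subgroup.index_map_subtype]
  exact (Nat.mul_le_mul hc hAsidx).trans (by norm_num)

end CfsgLib.FixityFour
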