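import Cfsg.Agent.Lib.FixityFour.FourCases
import Cfsg.Agent.Lib.FixityFour.Fixer
import Cfsg.Agent.Lib.FixityFour.Cyclic
import Cfsg.Agent.Lib.FixityFour.Klein

/-!
Fixity four with an involution fixing four points: strongly embedded subgroup or sectional 2-rank at most four.
-/

set_option autoImplicit false
set_option maxHeartbeats 400000
set_option linter.style.haveILetI false
set_option linter.unusedSectionVars false

open MulAction
open scoped Pointwise

namespace CfsgLib.FixityFour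

variable {G Ω : Type*} [Group G] [MulAction G Ω] [Finite G] [Finite Ω]

/-- The case in which some involution fixes four points. -/
theorem four_case [IsSimpleGroup G] [FaithfulSMul G Ω] (h : Hyp G Ω) (S : Sylow 2 G)
    (hfour : ∀ t : G, orderOf t = 2 → (fixedBy Ω t).ncard = 0 ∨ (fixedBy Ω t).ncard = 4)
    (hex : ∃ t : G, orderOf t = 2 ∧ (fixedBy Ω t).ncard = 4) :
    (∃ H : Subgroup G, Cfsg.IsStronglyEmbedded H) ∨ Cfsg.SectionalPRankLE 2 4 G := by
  haveI := Fact.mk Nat.prime_two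
  have hS := S.isPGroup'
  obtain ⟨t, ht, ht4⟩ := hex
  have hpar := involution_parity (Ω := Ω) h.hna ht
  rw [ht4] at hpar
  rcases (show Nat.card Ω % 8 = 0 ∨ Nat.card Ω % 8 = 4 by omega) with h8 | h8
  · refine Or.inr (sectional_of_sylow S (sectional_of_fixer (fixerData_eight h h8 S hfour) ?_))
    obtain ⟨T, hT⟩ := (IsPGroup.of_card (n := 1)
      (show Nat.card (Subgroup.zpowers t) = 2 ^ 1 by rw [Nat.card_zpowers, ht, pow_one])).exists_le_sylow
    obtain ⟨g, hg⟩ := MulAction.exists_smul_eq G T S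
    obtain ⟨b, hb⟩ : (fixedBy Ω t).Nonempty := Set.nonempty_of_ncard_ne_zero (by omega)
    refine ⟨g * t * g⁻¹, ?_, (Invol.orderOf_conj g t).trans ht, g • b, Set.notMem_empty _,
      mem_fixedBy_conj.2 hb⟩
    rw [← hg]
    exact ⟨t, hT (Subgroup.mem_zpowers t), rfl⟩
  obtain ⟨a, hcard, hA2⟩ := exists_small_orbit h h8 S ⟨t, ht, ht4⟩
  set A := (S : Subgroup G) ⊓ MulAction.stabilizer G a with hAdef
  haveI : Nontrivial A := Finite.one_lt_card_iff_nontrivial.1 hA2
  haveI := (hS.to_le (inf_le_left : A ≤ S)).center_nontrivial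
  obtain ⟨z, hz⟩ := exists_prime_orderOf_dvd_card' (G := Subgroup.center A) 2 (by
    obtain ⟨i, hc⟩ := ((hS.to_le (inf_le_left : A ≤ S)).to_subgroup (Subgroup.center A)).exists_card_eq
    have h1 : 1 < Nat.card (Subgroup.center A) := Finite.one_lt_card
    rw [hc] at h1 ⊢
    exact dvd_pow_self 2 (fun h0 => by rw [h0] at h1; simp at h1))
  set Q := fixedBy Ω ((z : A) : G) with hQdef
  have hz2 : orderOf ((z : A) : G) = 2 := by rw [Subgroup.orderOf_coe, Subgroup.orderOf_coe, hz]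
  have haQ : a ∈ Q := (z : A).2.2
  have hQ : Q.ncard = 4 := (hfour _ hz2).resolve_left fun h0 => by
    rw [Set.ncard_eq_zero (Set.toFinite _)] at h0
    exact (h0 ▸ haQ : a ∈ (∅ : Set Ω))
  have hAQ : ∀ x ∈ (S : Subgroup G), x • a = a → x • Q = Q := fun x hx hxa =>
    smul_eq_self_of_commute (congrArg Subtype.val (Subgroup.mem_center_iff.1 z.2 ⟨x, hx, hxa⟩))
  by_cases hmove : ∃ x ∈ (S : Subgroup G), x • a = a ∧ ∃ q ∈ Q, x • q ≠ q
  · exact Or.inr (sectional_of_sylow S (sectional_of_moved h h8 S hfour a hcard Q hQ haQ hAQ hmove))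
  push Not at hmove
  have hA : ∀ x ∈ (S : Subgroup G), x ≠ 1 → x • a = a → fixedBy Ω x = Q :=
    fun x hx hx1 hxa => h.eq_of_subset hx1 (hmove x hx hxa) hQ
  by_cases hSQ : ∀ s ∈ (S : Subgroup G), s • Q = Q
  swap
  · push Not at hSQ
    obtain ⟨s, hs, hsQ⟩ := hSQ
    refine Or.inr (sectional_of_sylow S (sectional_of_card_le ?_))
    have hinj : Nat.card (A × A) ≤ Nat.card (S : Subgroup G) := by
      refine Nat.card_le_card_of_injective
        (fun p => (⟨(p.1 : G) * (s * (p.2 : G) * s⁻¹),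
          mul_mem p.1.2.1 (mul_mem (mul_mem hs p.2.2.1) (inv_mem hs))⟩ : (S : Subgroup G))) ?_
      rintro ⟨x, y⟩ ⟨x', y'⟩ hxy
      have hh : (x : G) * (s * (y : G) * s⁻¹) = (x' : G) * (s * (y' : G) * s⁻¹) :=
        congrArg Subtype.val hxy
      have hw : (x' : G)⁻¹ * (x : G) = s * ((y' : G) * (y : G)⁻¹) * s⁻¹ := by
        calc (x' : G)⁻¹ * (x : G)
            = (x' : G)⁻¹ * ((x : G) * (s * (y : G) * s⁻¹)) * (s * (y : G)⁻¹ * s⁻¹) := by group
          _ = _ := by rw [hh]; group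
      by_cases hw1 : (x' : G)⁻¹ * (x : G) = 1
      · have hx : x = x' := Subtype.ext (inv_mul_eq_one.1 hw1).symm
        subst hx
        have hy : y = y' := Subtype.ext (by simpa using hh)
        rw [hy]
      · exfalso
        apply hsQ
        have h1 := hA _ (Subgroup.mul_mem _ (Subgroup.inv_mem _ x'.2.1) x.2.1) hw1
          (Subgroup.mul_mem _ (Subgroup.inv_mem _ x'.2.2) x.2.2)
        have hne : (y' : G) * (y : G)⁻¹ ≠ 1 := fun h0 => hw1 (by
          rw [hw, h0, mul_one, mul_inv_cancel])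
        have h2 := hA _ (Subgroup.mul_mem _ y'.2.1 (Subgroup.inv_mem _ y.2.1)) hne
          (Subgroup.mul_mem _ y'.2.2 (Subgroup.inv_mem _ y.2.2))
        rw [hw, ← smul_fixedBy, h2] at h1
        exact h1
    rw [Nat.card_prod, hcard] at hinj
    have := Nat.le_of_mul_le_mul_right hinj Nat.card_pos
    rw [hcard]
    omega
  have hreg : ∀ b ∈ Q, ∃ s ∈ (S : Subgroup G), s • a = b := by
    have hsub : MulAction.orbit (S : Subgroup G) a ⊆ Q := by
      rintro _ ⟨s, rfl⟩
      rw [← hSQ s s.2]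
      exact Set.smul_mem_smul_set haQ
    have horb : (MulAction.orbit (S : Subgroup G) a).ncard = 4 := by
      have h1 := (MulAction.stabilizer (S : Subgroup G) a).card_mul_index
      have h2 : Nat.card (MulAction.stabilizer (S : Subgroup G) a) = Nat.card A := Nat.card_congr
        { toFun := fun s => ⟨(s.1 : G), s.1.2, s.2⟩
          invFun := fun s => ⟨⟨s.1, s.2.1⟩, s.2.2⟩
          left_inv := fun _ => rfl
          right_inv := fun _ => rfl }
      rw [MulAction.index_stabilizer, h2, hcard, mul_comm] at h1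
      exact Nat.eq_of_mul_eq_mul_right Nat.card_pos h1
    intro b hb
    rw [← Set.eq_of_subset_of_ncard_le hsub (by rw [horb, hQ]) (Set.toFinite _)] at hb
    obtain ⟨s, rfl⟩ := hb
    exact ⟨s, s.2, rfl⟩
  by_cases hy : ∃ y ∈ (S : Subgroup G), (y * y) • a ≠ a
  · obtain ⟨y, hy, hy2⟩ := hy
    exact Or.inr (sectional_of_sylow S (four_cyclic h h8 S a Q hQ haQ hSQ hA y hy hy2))
  push Not at hy
  by_cases hu : ∃ u, IsFixer (S : Subgroup G) Q u
  · exact Or.inr (sectional_of_sylow S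
      (sectional_of_fixer (fixerData_four h S hfour a Q hQ hSQ haQ hA hreg hy) hu))
  refine four_klein h.hna h.htrans h.hfix S a Q hQ haQ hSQ
    ⟨((z : A) : G), (z : A).2.1, Invol.ne_one_of_invol hz2, (z : A).2.2⟩ hA hy hreg ?_
  intro s hs hsa
  refine Set.eq_empty_of_forall_notMem fun c hc => ?_
  have hs1 : s ≠ 1 := fun h0 => hsa (by rw [h0, one_smul])
  by_cases hcQ : c ∈ Q
  · obtain ⟨g, hg, rfl⟩ := hreg c hcQ
    have hne : g⁻¹ * s * g ≠ 1 := fun h0 => hs1 (by
      rw [show s = g * (g⁻¹ * s * g) * g⁻¹ by group, h0, mul_one, mul_inv_cancel])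
    have h1 := hA (g⁻¹ * s * g) (mul_mem (mul_mem (inv_mem hg) hs) hg) hne (by
      rw [mul_smul, mul_smul, (hc : s • g • a = g • a), inv_smul_smul])
    have h2 : fixedBy Ω s = Q := by
      rw [show s = g * (g⁻¹ * s * g) * g⁻¹ by group, ← smul_fixedBy, h1, hSQ g hg]
    exact hsa (h2 ▸ haQ : a ∈ fixedBy Ω s)
  · obtain ⟨e, he⟩ := exists_two_power hS hs hs1
    exact hu ⟨s ^ 2 ^ e, pow_mem hs _, invol_pow he, c, hcQ, fixedBy_pow_subset _ hc⟩

end CfsgLib.FixityFour
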