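import Cfsg.Agent.Lib.FixityFour.FixerData
import Cfsg.Agent.Lib.SelfCentEight.Small

/-!
Fixity four with an involution fixing four points: the point stabiliser in a Sylow 2-subgroup,
and the data for the fixer argument.
-/

set_option autoImplicit false
set_option maxHeartbeats 400000
set_option linter.style.haveILetI false
set_option linter.unusedSectionVars false

open MulAction
open scoped Pointwise

namespace CfsgLib.FixityFour

theorem perm_four_fix_sq : ∀ (σ : Equiv.Perm (Fin 4)) (i : Fin 4), σ i = i →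
    σ * σ * σ * σ * (σ * σ * σ * σ) = 1 → σ * σ = 1 := by
  decide +kernel

theorem perm_four_fix_two : ∀ (σ τ : Equiv.Perm (Fin 4)) (i : Fin 4), σ i = i → τ i = i →
    σ * σ = 1 → τ * τ = 1 → σ * τ * (σ * τ) = 1 → σ ≠ 1 → τ ≠ 1 → σ = τ := by
  decide +kernel

theorem perm_four_fix_other : ∀ (σ : Equiv.Perm (Fin 4)) (i : Fin 4), σ i = i → σ * σ = 1 →
    ∃ j, j ≠ i ∧ σ j = j := by
  decide +kernel

variable {G Ω : Type*} [Group G] [MulAction G Ω] [Finite G] [Finite Ω]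

theorem exists_two_power {S : Subgroup G} (hS : IsPGroup 2 S) {x : G} (hx : x ∈ S) (hx1 : x ≠ 1) :
    ∃ e : ℕ, orderOf x = 2 ^ (e + 1) := by
  haveI := Fact.mk Nat.prime_two
  obtain ⟨k, hk⟩ := IsPGroup.iff_orderOf.1 hS ⟨x, hx⟩
  rw [Subgroup.orderOf_mk] at hk
  rcases k with - | e
  · exact absurd (orderOf_eq_one_iff.1 hk) hx1
  · exact ⟨e, hk⟩

theorem invol_pow {x : G} {e : ℕ} (hx : orderOf x = 2 ^ (e + 1)) : orderOf (x ^ 2 ^ e) = 2 := by
  rw [orderOf_pow' x (by positivity), hx, Nat.gcd_eq_right (pow_dvd_pow 2 e.le_succ), pow_succ,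
    Nat.mul_div_cancel_left _ (by positivity)]

/-- A nontrivial 2-element fixing four points fixes no other point. -/
theorem Hyp.fix_only (h : Hyp G Ω) {S : Subgroup G} (hS : IsPGroup 2 S) {Q : Set Ω}
    (hQ : Q.ncard = 4) {x : G} (hx : x ∈ S) (hx1 : x ≠ 1) (hxQ : ∀ c ∈ Q, x • c = c) {e : ℕ}
    (he : orderOf x = 2 ^ (e + 1)) : ∀ c ∉ Q, x ^ 2 ^ e • c ≠ c := by
  intro c hc hfix
  have h1 : x ^ 2 ^ e ≠ 1 := Invol.ne_one_of_invol (invol_pow he)
  have heq := h.eq_of_subset h1 (s := Q) (fun d hd => fixedBy_pow_subset _ (hxQ d hd)) hQ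
  exact hc (heq ▸ hfix)

/-- A subgroup of a 2-group embedded in a set of at most four points. -/
theorem card_le_of_injOn (K : Subgroup G) (c : Ω) (T : Set Ω) (hT : ∀ k ∈ K, k • c ∈ T)
    (hfree : ∀ k ∈ K, k • c = c → k = 1) : Nat.card K ≤ T.ncard := by
  rw [← Nat.card_coe_set_eq]
  refine Nat.card_le_card_of_injective (fun k : K => (⟨(k : G) • c, hT k k.2⟩ : T)) ?_
  intro x y hxy
  have hxy' : (x : G) • c = (y : G) • c := congrArg Subtype.val hxy
  have := hfree _ (K.mul_mem (K.inv_mem y.2) x.2) (by rw [mul_smul, hxy', inv_smul_smul])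
  exact Subtype.ext (inv_mul_eq_one.1 this).symm

/-- The fixer data when eight divides the number of points. -/
theorem fixerData_eight [IsSimpleGroup G] (h : Hyp G Ω) (h8 : Nat.card Ω % 8 = 0) (S : Sylow 2 G)
    (hfour : ∀ t : G, orderOf t = 2 → (fixedBy Ω t).ncard = 0 ∨ (fixedBy Ω t).ncard = 4) :
    FixerData (S : Subgroup G) (∅ : Set Ω) := by
  haveI := Fact.mk Nat.prime_two
  have hS := S.isPGroup'
  have h4 : ∀ u, IsFixer (S : Subgroup G) (∅ : Set Ω) u → (fixedBy Ω u).ncard = 4 := by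
    rintro u ⟨-, hu, b, -, hb⟩
    refine (hfour u hu).resolve_left fun h0 => ?_
    rw [Set.ncard_eq_zero (Set.toFinite _)] at h0
    exact (h0 ▸ (show b ∈ fixedBy Ω u from hb) : b ∈ (∅ : Set Ω))
  have hfree : ∀ u, IsFixer (S : Subgroup G) (∅ : Set Ω) u → ∀ k ∈ quadKernel (S : Subgroup G) Ω u,
      k ≠ 1 → ∀ c ∉ fixedBy Ω u, k • c ≠ c := by
    intro u hu k hk hk1 c hc hkc
    obtain ⟨e, he⟩ := exists_two_power hS hk.1 hk1
    exact h.fix_only hS (h4 u hu) hk.1 hk1 (fun d hd => (mem_fixingSubgroup_iff G).1 hk.2 d hd) he c hc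
      (fixedBy_pow_subset _ hkc)
  have hsmall : ∀ u, IsFixer (S : Subgroup G) (∅ : Set Ω) u →
      Nat.card (quadKernel (S : Subgroup G) Ω u) ≤ 4 := by
    intro u hu
    have hd := card_dvd_of_semiregular (quadKernel (S : Subgroup G) Ω u) (fixedBy Ω u)
      (fun k hk c => by
        have hfix := (mem_fixingSubgroup_iff G).1 hk.2
        refine ⟨fun hc => ?_, fun hc => by rw [hfix c hc]; exact hc⟩
        rwa [← smul_left_cancel k (hfix _ hc)])
      (hfree u hu)
    rw [h4 u hu] at hd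
    obtain ⟨i, hi⟩ : ∃ i, Nat.card (quadKernel (S : Subgroup G) Ω u) = 2 ^ i :=
      (hS.to_le (inf_le_left : quadKernel (S : Subgroup G) Ω u ≤ S)).exists_card_eq
    rw [hi] at hd ⊢
    rcases Nat.lt_or_ge i 3 with h3 | h3
    · exact le_trans (Nat.pow_le_pow_right two_pos (by omega : i ≤ 2)) (by norm_num)
    · have := (pow_dvd_pow 2 h3).trans hd
      have hle : (fixedBy Ω u).ncard ≤ Nat.card Ω := Set.ncard_le_card _
      rw [h4 u hu] at hle
      omega
  refine ⟨hS, fun g hg => h.ncard_le hg, h4, fun u _ b hb => absurd hb (Set.notMem_empty b), hsmall,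
    ?_, fun s _ => by simp, ?_⟩
  · intro u hu x hx
    by_contra hxx
    have hx1 : x ≠ 1 := by rintro rfl; exact hxx (one_mul 1)
    obtain ⟨e, he⟩ := exists_two_power hS hx.1 hx1
    have hdvd : orderOf x ∣ Nat.card (quadKernel (S : Subgroup G) Ω u) :=
      Subgroup.orderOf_dvd_natCard _ hx
    have hle := Nat.le_of_dvd Nat.card_pos hdvd
    have h4' := hsmall u hu
    have he1 : e = 1 := by
      rcases e with - | _ | e
      · exfalso
        apply hxx
        rw [← pow_two, ← pow_one 2, ← he]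
        exact pow_orderOf_eq_one x
      · rfl
      · exfalso
        rw [he] at hle
        have := Nat.pow_le_pow_right two_pos (show 3 ≤ e + 1 + 1 + 1 by omega)
        omega
    subst he1
    have hQ : x • fixedBy Ω u = fixedBy Ω u := by
      ext c
      have hfix := (mem_fixingSubgroup_iff G).1 hx.2
      constructor
      · rintro ⟨d, hd, rfl⟩
        show x • d ∈ _
        rwa [hfix d hd]
      · intro hc
        exact ⟨c, hc, hfix c hc⟩
    have hp := sign_split h.hna x (fixedBy Ω u) hQ 4 4 (by decide) (by norm_num) (by decide)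
      (by norm_num)
      (period_of_involution_free (e := 1) he
        (h.fix_only hS (h4 u hu) hx.1 hx1 (fun d hd => (mem_fixingSubgroup_iff G).1 hx.2 d hd) he))
      (fun c hc hne => absurd ((mem_fixingSubgroup_iff G).1 hx.2 c hc) hne)
    have hsub : fixedBy Ω u ⊆ fixedBy Ω x := fun c hc => (mem_fixingSubgroup_iff G).1 hx.2 c hc
    rw [Set.inter_eq_left.2 hsub, h4 u hu] at hp
    obtain ⟨⟨c, hc⟩, d, hd⟩ := hp
    rw [hc, Nat.mul_div_cancel_left _ (by norm_num : (0 : ℕ) < 4)] at hd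
    have hle4 : (fixedBy Ω u).ncard ≤ Nat.card Ω := Set.ncard_le_card _
    rw [h4 u hu] at hle4
    omega
  · intro u hu hK d hd hdF hdb
    obtain ⟨b, hb, hdb⟩ := hdb
    refine or_iff_not_imp_left.2 fun hdK => ?_
    by_contra hno
    push Not at hno
    obtain ⟨ρ, ε, hρ, hker⟩ := exists_quadPerm (G := G) (h4 u hu)
    set K := quadKernel (S : Subgroup G) Ω u with hKdef
    set L := K ⊔ Subgroup.zpowers d with hLdef
    have hLS : L ≤ (S : Subgroup G) := sup_le inf_le_left (Subgroup.zpowers_le.2 hd)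
    have hdst : d ∈ MulAction.stabilizer G (fixedBy Ω u) := hdF
    set σ := ρ ⟨d, hdst⟩
    have hσi : σ (ε ⟨b, hb⟩) = ε ⟨b, hb⟩ := (hρ _ _ _).2 hdb
    have hσ2 : σ * σ = 1 := by
      refine perm_four_fix_sq σ _ hσi ?_
      obtain ⟨k, hk⟩ := IsPGroup.iff_orderOf.1 hS ⟨d, hd⟩
      have h1 : orderOf σ ∣ 2 ^ k := by
        rw [← hk, Subgroup.orderOf_mk, ← Subgroup.orderOf_mk d hdst]
        exact orderOf_map_dvd ρ _
      have h2 : orderOf σ ∣ 24 := by
        have := orderOf_dvd_natCard σ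
        rwa [Nat.card_perm, Nat.card_fin] at this
      have h3 : orderOf σ ∣ 8 := by
        obtain ⟨i, hi, he⟩ := (Nat.dvd_prime_pow Nat.prime_two).1 h1
        rw [he] at h2 ⊢
        rcases Nat.lt_or_ge i 4 with h4 | h4
        · exact pow_dvd_pow 2 (show i ≤ 3 by omega)
        · exact absurd ((pow_dvd_pow 2 h4).trans h2) (by decide)
      rw [show σ * σ * σ * σ * (σ * σ * σ * σ) = σ ^ 8 from by simp only [pow_succ, pow_zero, one_mul, mul_assoc]]
      exact orderOf_dvd_iff_pow_eq_one.1 h3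
    have hLst : ∀ x ∈ L, ∃ hx : x ∈ MulAction.stabilizer G (fixedBy Ω u),
        ρ ⟨x, hx⟩ = 1 ∨ ρ ⟨x, hx⟩ = σ := by
      let M : Subgroup G := ((Subgroup.zpowers σ).comap ρ).map (Subgroup.subtype _)
      have hLM : L ≤ M := by
        refine sup_le (fun k hk => ?_) (Subgroup.zpowers_le.2 ⟨⟨d, hdst⟩, Subgroup.mem_zpowers σ, rfl⟩)
        have hkst : k ∈ MulAction.stabilizer G (fixedBy Ω u) :=
          fixingSubgroup_le_stabilizer G _ hk.2
        refine ⟨⟨k, hkst⟩, ?_, rfl⟩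
        show ρ ⟨k, hkst⟩ ∈ Subgroup.zpowers σ
        rw [(hker _).2 hk.2]
        exact one_mem _
      intro x hx
      obtain ⟨y, hy, rfl⟩ := hLM hx
      refine ⟨y.2, ?_⟩
      obtain ⟨i, hi⟩ := Subgroup.mem_zpowers_iff.1 (show ρ y ∈ Subgroup.zpowers σ from hy)
      show ρ y = 1 ∨ ρ y = σ
      rw [← hi]
      obtain ⟨j, rfl⟩ | ⟨j, rfl⟩ := Int.even_or_odd i
      · left; rw [← two_mul, zpow_mul, zpow_two, hσ2, one_zpow]
      · right; rw [zpow_add, zpow_mul, zpow_two, hσ2, one_zpow, one_mul, zpow_one]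
    have hLfree : ∀ x ∈ L, x ≠ 1 → ∀ c ∉ fixedBy Ω u, x • c ≠ c := by
      intro x hx hx1 c hc hxc
      obtain ⟨hxs, h1 | hσx⟩ := hLst x hx
      · exact hfree u hu x ⟨hLS hx, (hker _).1 h1⟩ hx1 c hc hxc
      · have hx2 : x * x ≠ 1 := fun hxx => hno x (hLS hx) hxx ⟨Subgroup.mul_mem _ (Subgroup.inv_mem _ hd) (hLS hx),
          (hker ⟨d⁻¹ * x, Subgroup.mul_mem _ (Subgroup.inv_mem _ hdst) hxs⟩).1 (by
            rw [show (⟨d⁻¹ * x, Subgroup.mul_mem _ (Subgroup.inv_mem _ hdst) hxs⟩ : MulAction.stabilizer G (fixedBy Ω u)) =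
              ⟨d, hdst⟩⁻¹ * ⟨x, hxs⟩ from rfl, map_mul, map_inv, hσx]
            exact inv_mul_cancel σ)⟩
        refine hfree u hu (x * x) ⟨mul_mem (hLS hx) (hLS hx),
          (hker ⟨x * x, Subgroup.mul_mem _ hxs hxs⟩).1 (by
            rw [show (⟨x * x, Subgroup.mul_mem _ hxs hxs⟩ : MulAction.stabilizer G (fixedBy Ω u)) =
              ⟨x, hxs⟩ * ⟨x, hxs⟩ from rfl, map_mul, hσx, hσ2])⟩ hx2 c hc ?_
        rw [mul_smul, hxc, hxc]
    have hLd := card_dvd_of_semiregular L (fixedBy Ω u) (fun x hx c => by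
      obtain ⟨hxs, -⟩ := hLst x hx
      have hm := Set.smul_mem_smul_set_iff (a := x) (s := fixedBy Ω u) (x := c)
      rwa [MulAction.mem_stabilizer_iff.1 hxs] at hm) hLfree
    rw [h4 u hu] at hLd
    obtain ⟨i, hi⟩ := (hS.to_le hLS).exists_card_eq
    have hKL : Nat.card K < Nat.card L := by
      refine lt_of_le_of_ne (Subgroup.card_le_of_le le_sup_left) fun heq => hdK ?_
      have := Subgroup.eq_of_le_of_card_ge (le_sup_left : K ≤ L) heq.ge
      rw [this]
      exact Subgroup.mem_sup_right (Subgroup.mem_zpowers d)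
    rw [hK, hi] at hKL
    have h3 : 3 ≤ i := by
      by_contra h3
      have := Nat.pow_le_pow_right two_pos (show i ≤ 2 by omega)
      omega
    have := (pow_dvd_pow 2 h3).trans (hi ▸ hLd)
    have hle : (fixedBy Ω u).ncard ≤ Nat.card Ω := Set.ncard_le_card _
    rw [h4 u hu] at hle
    omega

/-- The fixer data when the stabiliser in `S` fixes exactly the quadruple regular under `S`. -/
theorem fixerData_four (h : Hyp G Ω) (S : Sylow 2 G)
    (hfour : ∀ t : G, orderOf t = 2 → (fixedBy Ω t).ncard = 0 ∨ (fixedBy Ω t).ncard = 4)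
    (a : Ω) (Q : Set Ω) (hQ : Q.ncard = 4) (hSQ : ∀ s ∈ (S : Subgroup G), s • Q = Q) (haQ : a ∈ Q)
    (hA : ∀ x ∈ (S : Subgroup G), x ≠ 1 → x • a = a → fixedBy Ω x = Q)
    (hreg : ∀ b ∈ Q, ∃ s ∈ (S : Subgroup G), s • a = b)
    (hV : ∀ s ∈ (S : Subgroup G), (s * s) • a = a) :
    FixerData (S : Subgroup G) Q := by
  have hS := S.isPGroup'
  have hptQ : ∀ x ∈ (S : Subgroup G), x ≠ 1 → ∀ b ∈ Q, x • b = b → fixedBy Ω x = Q := by
    intro x hx hx1 b hb hxb
    obtain ⟨t, ht, rfl⟩ := hreg b hb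
    have h1 := hA (t⁻¹ * x * t) (mul_mem (mul_mem (inv_mem ht) hx) ht)
      (fun h0 => hx1 (by simpa [mul_assoc, inv_mul_eq_one, eq_comm] using h0)) (by
        rw [mul_smul, mul_smul, hxb, inv_smul_smul])
    have h2 := congrArg (t • ·) h1
    simp only [smul_fixedBy, hSQ t ht] at h2
    rwa [show t * (t⁻¹ * x * t) * t⁻¹ = x by group] at h2
  have hout : ∀ x ∈ (S : Subgroup G), x ≠ 1 → ∀ c ∉ Q, x • c = c → ∀ b ∈ Q, x • b ≠ b := by
    intro x hx hx1 c hc hxc b hb hxb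
    exact hc (hptQ x hx hx1 b hb hxb ▸ (show c ∈ fixedBy Ω x from hxc))
  have hst : ∀ c ∉ Q, Nat.card ↥((S : Subgroup G) ⊓ MulAction.stabilizer G c) ≤ 4 ∧
      ∀ x ∈ (S : Subgroup G) ⊓ MulAction.stabilizer G c, x * x = 1 := by
    intro c hc
    refine ⟨hQ ▸ card_le_of_injOn _ a Q (fun k hk => ?_) (fun k hk hka => ?_), fun x hx => ?_⟩
    · rw [← hSQ k hk.1]
      exact Set.smul_mem_smul_set haQ
    · by_contra hk1
      exact hout k hk.1 hk1 c hc hk.2 a haQ hka
    · by_contra hxx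
      exact hout (x * x) (mul_mem hx.1 hx.1) hxx c hc (by rw [mul_smul, hx.2, hx.2]) a haQ
        (hV x hx.1)
  have h4 : ∀ u, IsFixer (S : Subgroup G) Q u → (fixedBy Ω u).ncard = 4 := by
    rintro u ⟨-, hu, b, -, hb⟩
    refine (hfour u hu).resolve_left fun h0 => ?_
    rw [Set.ncard_eq_zero (Set.toFinite _)] at h0
    exact (h0 ▸ (show b ∈ fixedBy Ω u from hb) : b ∈ (∅ : Set Ω))
  have hle : ∀ u, ∀ b ∈ fixedBy Ω u, quadKernel (S : Subgroup G) Ω u ≤
      (S : Subgroup G) ⊓ MulAction.stabilizer G b := fun u b hb k hk =>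
    ⟨hk.1, (mem_fixingSubgroup_iff G).1 hk.2 b hb⟩
  refine ⟨hS, fun g hg => h.ncard_le hg, h4, ?_, ?_, ?_, hSQ, ?_⟩
  · rintro u ⟨huS, hu, c, hc, huc⟩ b hb
    exact hout u huS (Invol.ne_one_of_invol hu) c hc huc b hb
  · rintro u ⟨-, -, c, hc, huc⟩
    exact (Subgroup.card_le_of_le (hle u c huc)).trans (hst c hc).1
  · rintro u ⟨-, -, c, hc, huc⟩ x hx
    exact (hst c hc).2 x (hle u c huc hx)
  · rintro u ⟨huS, hu, c, hc, huc⟩ hK d hd - ⟨b, hb, hdb⟩
    left
    have hbQ : b ∉ Q := fun hbQ => hout u huS (Invol.ne_one_of_invol hu) c hc huc b hbQ hb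
    rw [Subgroup.eq_of_le_of_card_ge (hle u b hb) (hK ▸ (hst b hbQ).1)]
    exact ⟨hd, hdb⟩

end CfsgLib.FixityFour
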