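import Cfsg.Agent.Lib.FixityFour.FourBasic

/-!
Fixity four, `n ≡ 4 (mod 8)`: choosing the quadruple, and the cases in which the point stabiliser
of a Sylow 2-subgroup has a cyclic subgroup of small index.
-/

set_option autoImplicit false
set_option maxHeartbeats 400000
set_option linter.style.haveILetI false
set_option linter.unusedSectionVars false

open MulAction
open scoped Pointwise

namespace CfsgLib.FixityFour

variable {G Ω : Type*} [Group G] [MulAction G Ω] [Finite G] [Finite Ω]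

/-- When `n ≡ 4 (mod 8)`, some point has stabiliser of index four in the Sylow 2-subgroup,
and this stabiliser is not trivial. -/
theorem exists_small_orbit (h : Hyp G Ω) (hn : Nat.card Ω % 8 = 4) (S : Sylow 2 G)
    (hex : ∃ t : G, orderOf t = 2 ∧ (fixedBy Ω t).ncard = 4) :
    ∃ a : Ω, Nat.card (S : Subgroup G) = 4 * Nat.card ↥((S : Subgroup G) ⊓ MulAction.stabilizer G a) ∧
      2 ≤ Nat.card ↥((S : Subgroup G) ⊓ MulAction.stabilizer G a) := by
  classical
  haveI := Fact.mk Nat.prime_two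
  haveI := h.htrans
  cases nonempty_fintype Ω
  obtain ⟨k, hk⟩ := S.isPGroup'.exists_card_eq
  obtain ⟨w, hw⟩ : ∃ w : MulAction.orbitRel.Quotient (S : Subgroup G) Ω,
      ¬ 8 ∣ Nat.card (MulAction.orbit (S : Subgroup G) (Quotient.out w)) := by
    by_contra hcon
    push Not at hcon
    have : 8 ∣ Nat.card Ω := by
      rw [Nat.card_congr (MulAction.selfEquivSigmaOrbits (S : Subgroup G) Ω), Nat.card_sigma]
      exact Finset.dvd_sum fun w _ => hcon w
    omega
  set a : Ω := Quotient.out w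
  refine ⟨a, ?_⟩
  set A := (S : Subgroup G) ⊓ MulAction.stabilizer G a with hAdef
  have hstab : Nat.card ↥(MulAction.stabilizer (S : Subgroup G) a) = Nat.card A := by
    refine Nat.card_congr
      { toFun := fun s => ⟨(s.1 : G), s.1.2, s.2⟩
        invFun := fun s => ⟨⟨s.1, s.2.1⟩, s.2.2⟩
        left_inv := fun _ => rfl
        right_inv := fun _ => rfl }
  have hcard : Nat.card A * Nat.card (MulAction.orbit (S : Subgroup G) a) =
      Nat.card (S : Subgroup G) := by
    rw [← hstab, Nat.card_coe_set_eq, ← MulAction.index_stabilizer, Subgroup.card_mul_index]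
  obtain ⟨j, hj, horb⟩ := (Nat.dvd_prime_pow Nat.prime_two).1
    (hk ▸ Dvd.intro_left _ hcard : Nat.card (MulAction.orbit (S : Subgroup G) a) ∣ 2 ^ k)
  have hj2 : j ≤ 2 := by
    by_contra hj3
    exact hw (horb ▸ pow_dvd_pow 2 (show 3 ≤ j by omega))
  have hG : Nat.card G = Nat.card Ω * Nat.card (MulAction.stabilizer G a) := by
    rw [← MulAction.index_stabilizer_of_transitive G a, mul_comm, Subgroup.card_mul_index]
  obtain ⟨B⟩ : Nonempty (Sylow 2 ↥(MulAction.stabilizer G a)) := Sylow.nonempty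
  have hB : Nat.card B = 2 ^ (Nat.card (MulAction.stabilizer G a)).factorization 2 :=
    Sylow.card_eq_multiplicity B
  have hSc : Nat.card (S : Subgroup G) = 2 ^ (Nat.card G).factorization 2 := S.card_eq_multiplicity
  have hΩ2 : (Nat.card Ω).factorization 2 = 2 := by
    obtain ⟨m, hm⟩ : ∃ m, Nat.card Ω = 2 ^ 2 * (2 * m + 1) := ⟨Nat.card Ω / 8, by omega⟩
    rw [hm, Nat.factorization_mul (by norm_num) (by omega), Finsupp.add_apply,
      Nat.Prime.factorization_pow Nat.prime_two, Finsupp.single_eq_same,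
      Nat.factorization_eq_zero_of_not_dvd (by omega)]
  have hS4 : Nat.card (S : Subgroup G) = 4 * Nat.card B := by
    rw [hSc, hB, hG, Nat.factorization_mul (Nat.pos_iff_ne_zero.1 (by omega))
      Nat.card_pos.ne', Finsupp.add_apply, hΩ2, pow_add]
    norm_num
  have hAB : Nat.card A ≤ Nat.card B := by
    have hAp : IsPGroup 2 ↥(A.subgroupOf (MulAction.stabilizer G a)) :=
      (S.isPGroup'.to_le inf_le_left).of_equiv (Subgroup.subgroupOfEquivOfLe inf_le_right).symm
    obtain ⟨B', hB'⟩ := hAp.exists_le_sylow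
    rw [← Nat.card_congr (Subgroup.subgroupOfEquivOfLe (inf_le_right : A ≤ _)).toEquiv]
    refine (Subgroup.card_le_of_le hB').trans (le_of_eq ?_)
    rw [hB]
    exact B'.card_eq_multiplicity
  have horb4 : Nat.card (MulAction.orbit (S : Subgroup G) a) ≤ 4 := by
    rw [horb]
    exact (Nat.pow_le_pow_right two_pos hj2).trans (by norm_num)
  have hAeq : Nat.card A = Nat.card B := by
    refine le_antisymm hAB ?_
    have := Nat.mul_le_mul_left (Nat.card A) horb4
    rw [hcard, hS4] at this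
    linarith
  refine ⟨by rw [hS4, hAeq], ?_⟩
  obtain ⟨t, ht, ht4⟩ := hex
  obtain ⟨b, hb⟩ : (fixedBy Ω t).Nonempty := Set.nonempty_of_ncard_ne_zero (by omega)
  obtain ⟨g, hg⟩ := MulAction.exists_smul_eq G b a
  have htst : g * t * g⁻¹ ∈ MulAction.stabilizer G a := by
    rw [MulAction.mem_stabilizer_iff, ← hg, mul_smul, mul_smul, inv_smul_smul, hb]
  have hdvd : 2 ∣ Nat.card (MulAction.stabilizer G a) := by
    have := Subgroup.orderOf_dvd_natCard _ htst
    rwa [Invol.orderOf_conj, ht] at this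
  rw [hAeq, hB]
  calc 2 = 2 ^ 1 := rfl
    _ ≤ _ := Nat.pow_le_pow_right two_pos
      (Nat.prime_two.factorization_pos_of_dvd Nat.card_pos.ne' hdvd)

/-- The stabiliser moves a point of the quadruple of one of its central involutions. -/
theorem sectional_of_moved [IsSimpleGroup G] (h : Hyp G Ω) (hn : Nat.card Ω % 8 = 4) (S : Sylow 2 G)
    (hfour : ∀ t : G, orderOf t = 2 → (fixedBy Ω t).ncard = 0 ∨ (fixedBy Ω t).ncard = 4)
    (a : Ω) (hcard : Nat.card (S : Subgroup G) =
      4 * Nat.card ↥((S : Subgroup G) ⊓ MulAction.stabilizer G a))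
    (Q : Set Ω) (hQ : Q.ncard = 4) (haQ : a ∈ Q)
    (hAQ : ∀ x ∈ (S : Subgroup G), x • a = a → x • Q = Q)
    (hmove : ∃ x ∈ (S : Subgroup G), x • a = a ∧ ∃ q ∈ Q, x • q ≠ q) :
    Cfsg.SectionalPRankLE 2 4 ↥(S : Subgroup G) := by
  haveI := Fact.mk Nat.prime_two
  set A := (S : Subgroup G) ⊓ MulAction.stabilizer G a with hAdef
  have hS := S.isPGroup'
  set A0 := A ⊓ fixingSubgroup G Q with hA0def
  obtain ⟨ρ, ε, hρ, hker⟩ := exists_quadPerm (G := G) hQ
  have hst : ∀ x ∈ A, x ∈ MulAction.stabilizer G Q := fun x hx => hAQ x hx.1 hx.2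
  let ρA : A →* Equiv.Perm (Fin 4) := ρ.comp (Subgroup.inclusion hst)
  have hρa : ∀ x : A, ρA x (ε ⟨a, haQ⟩) = ε ⟨a, haQ⟩ := fun x => (hρ _ _ _).2 x.2.2
  have hAp : IsPGroup 2 A := hS.to_le inf_le_left
  have hρ2 : ∀ x : A, ρA x * ρA x = 1 := by
    intro x
    refine perm_four_fix_sq _ _ (hρa x) ?_
    obtain ⟨k, hk⟩ := IsPGroup.iff_orderOf.1 hAp x
    have h1 : orderOf (ρA x) ∣ 2 ^ k := hk ▸ orderOf_map_dvd ρA x
    have h2 : orderOf (ρA x) ∣ 24 := by
      have := orderOf_dvd_natCard (ρA x)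
      rwa [Nat.card_perm, Nat.card_fin] at this
    obtain ⟨i, hi, he⟩ := (Nat.dvd_prime_pow Nat.prime_two).1 h1
    have h3 : orderOf (ρA x) ∣ 8 := by
      rw [he] at h2 ⊢
      rcases Nat.lt_or_ge i 4 with h4 | h4
      · exact pow_dvd_pow 2 (show i ≤ 3 by omega)
      · exact absurd ((pow_dvd_pow 2 h4).trans h2) (by decide)
    rw [show ρA x * ρA x * ρA x * ρA x * (ρA x * ρA x * ρA x * ρA x) = ρA x ^ 8 from by
      simp only [pow_succ, pow_zero, one_mul, mul_assoc]]
    exact orderOf_dvd_iff_pow_eq_one.1 h3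
  have hA0mem : ∀ x : A, ρA x = 1 ↔ (x : G) ∈ A0 := fun x =>
    (hker _).trans ⟨fun hx => ⟨x.2, hx⟩, fun hx => hx.2⟩
  obtain ⟨x₀, hx₀S, hx₀a, q, hqQ, hq⟩ := hmove
  have hx₀ : ρA ⟨x₀, hx₀S, hx₀a⟩ ≠ 1 := fun h1 =>
    hq ((mem_fixingSubgroup_iff G).1 ((hA0mem _).1 h1).2 q hqQ)
  have himg : ∀ x : A, ρA x = 1 ∨ ρA x = ρA ⟨x₀, hx₀S, hx₀a⟩ := fun x => by
    by_cases h1 : ρA x = 1
    · exact Or.inl h1
    · refine Or.inr (perm_four_fix_two _ _ _ (hρa x) (hρa _) (hρ2 x) (hρ2 _) ?_ h1 hx₀)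
      rw [← map_mul]
      exact hρ2 _
  have hA01 : Nat.card A ≤ 2 * Nat.card A0 := by
    have h1 := (ρA.ker).card_mul_index
    have h2 : ρA.ker.index ≤ 2 := by
      rw [Subgroup.index_ker]
      calc Nat.card ρA.range ≤ Nat.card ({1, ρA ⟨x₀, hx₀S, hx₀a⟩} : Set (Equiv.Perm (Fin 4))) := by
            refine Nat.card_mono (Set.toFinite _) ?_
            rintro _ ⟨x, rfl⟩
            exact (himg x).imp id id
        _ ≤ 2 := by
          rw [Nat.card_coe_set_eq]
          exact (Set.ncard_insert_le _ _).trans (by rw [Set.ncard_singleton])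
    have h3 : Nat.card ρA.ker ≤ Nat.card A0 :=
      Nat.card_le_card_of_injective (fun x => (⟨(x.1 : G), (hA0mem _).1 x.2⟩ : A0))
        fun x y hxy => by
          have hh := congrArg Subtype.val hxy
          exact Subtype.ext (Subtype.ext hh)
    rw [← h1]
    calc Nat.card ρA.ker * ρA.ker.index ≤ Nat.card A0 * 2 := Nat.mul_le_mul h3 h2
      _ = _ := mul_comm _ _
  have hA0fix : ∀ x ∈ A0, x ≠ 1 → ∀ c ∉ Q, x • c ≠ c := by
    intro x hx hx1 c hc hxc
    obtain ⟨e, he⟩ := exists_two_power hS hx.1.1 hx1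
    exact h.fix_only hS hQ hx.1.1 hx1 (fun d hd => (mem_fixingSubgroup_iff G).1 hx.2 d hd) he c hc
      (fixedBy_pow_subset _ hxc)
  by_cases hinv : ∃ x ∈ A, x ∉ A0 ∧ x * x = 1
  · obtain ⟨x, hxA, hx0, hxx⟩ := hinv
    have hx1 : x ≠ 1 := fun h0 => hx0 (h0 ▸ one_mem _)
    have hx2 : orderOf x = 2 := Invol.orderOf_eq_two hx1 hxx
    have hxst := hst x hxA
    obtain ⟨j, hja, hjx⟩ := perm_four_fix_other _ _ (hρa ⟨x, hxA⟩) (hρ2 _)
    have hx4 : (fixedBy Ω x).ncard = 4 := (hfour x hx2).resolve_left fun h0 => by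
      rw [Set.ncard_eq_zero (Set.toFinite _)] at h0
      exact (h0 ▸ (show a ∈ fixedBy Ω x from hxA.2) : a ∈ (∅ : Set Ω))
    have hjx' : x • ((ε.symm j : Q) : Ω) = ((ε.symm j : Q) : Ω) :=
      (hρ ⟨x, hxst⟩ (ε.symm j) (ε.symm j)).1 (by rw [Equiv.apply_symm_apply]; exact hjx)
    have hja' : ((ε.symm j : Q) : Ω) ≠ a := fun hh => hja (by
      rw [← (Subtype.ext hh : ε.symm j = (⟨a, haQ⟩ : Q)), Equiv.apply_symm_apply])
    have hout2 : (fixedBy Ω x \ Q).ncard ≤ 2 := by
      have hsub : ({a, ((ε.symm j : Q) : Ω)} : Set Ω) ⊆ fixedBy Ω x ∩ Q := by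
        rintro c (rfl | rfl)
        · exact ⟨hxA.2, haQ⟩
        · exact ⟨hjx', (ε.symm j).2⟩
      have h1 := Set.ncard_le_ncard hsub (Set.toFinite _)
      rw [Set.ncard_pair hja'.symm] at h1
      have h2 := Set.ncard_inter_add_ncard_sdiff_eq_ncard (fixedBy Ω x) Q (Set.toFinite _)
      omega
    obtain ⟨c, hc, hcQ⟩ : ∃ c ∈ fixedBy Ω x, c ∉ Q := by
      by_contra hcon
      push Not at hcon
      have heq : fixedBy Ω x = Q := Set.eq_of_subset_of_ncard_le hcon (by omega) (Set.toFinite _)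
      exact hx0 ⟨hxA, (mem_fixingSubgroup_iff G).2 fun d hd =>
        (heq ▸ hd : d ∈ fixedBy Ω x)⟩
    have hC0 : Nat.card ↥(A0 ⊓ Subgroup.centralizer ({x} : Set G)) ≤ 2 := by
      refine (card_le_of_injOn _ c (fixedBy Ω x \ Q) (fun k hk => ⟨?_, ?_⟩) ?_).trans hout2
      · rw [← smul_eq_self_of_commute (Ω := Ω) (SelfCentEight.mem_cent.1 hk.2)]
        exact Set.smul_mem_smul_set hc
      · intro hkc
        have hfix := (mem_fixingSubgroup_iff G).1 hk.1.2 _ hkc
        exact hcQ (by rwa [← smul_left_cancel k hfix])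
      · intro k hk hkc
        by_contra hk1
        exact hA0fix k hk.1 hk1 c hcQ hkc
    set CA := A ⊓ Subgroup.centralizer ({x} : Set G)
    have hCA : Nat.card CA ≤ 4 := by
      let f : CA →* Equiv.Perm (Fin 4) := ρA.comp (Subgroup.inclusion inf_le_left)
      have h1 := f.ker.card_mul_index
      have h2 : f.ker.index ≤ 2 := by
        rw [Subgroup.index_ker]
        calc Nat.card f.range ≤ Nat.card ({1, ρA ⟨x₀, hx₀S, hx₀a⟩} : Set (Equiv.Perm (Fin 4))) := by
              refine Nat.card_mono (Set.toFinite _) ?_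
              rintro _ ⟨y, rfl⟩
              exact (himg _).imp id id
          _ ≤ 2 := by
            rw [Nat.card_coe_set_eq]
            exact (Set.ncard_insert_le _ _).trans (by rw [Set.ncard_singleton])
      have h3 : Nat.card f.ker ≤ Nat.card ↥(A0 ⊓ Subgroup.centralizer ({x} : Set G)) :=
        Nat.card_le_card_of_injective
          (fun y => (⟨(y.1 : G), (hA0mem _).1 y.2, y.1.2.2⟩ :
            ↥(A0 ⊓ Subgroup.centralizer ({x} : Set G))))
          fun y z hyz => by
            have hh := congrArg Subtype.val hyz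
            exact Subtype.ext (Subtype.ext hh)
      rw [← h1]
      calc Nat.card f.ker * f.ker.index ≤ 2 * 2 := Nat.mul_le_mul (h3.trans hC0) h2
        _ = 4 := rfl
    have hcent : Nat.card (Subgroup.centralizer ({(⟨x, hxA⟩ : A)} : Set A)) ≤ 4 := by
      refine le_trans ?_ hCA
      exact Nat.card_le_card_of_injective
        (fun y => (⟨((y.1 : A) : G), y.1.2,
          SelfCentEight.mem_cent.2 (congrArg Subtype.val (SelfCentEight.mem_cent.1 y.2))⟩ : CA))
        fun y z hyz => by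
          have hh := congrArg Subtype.val hyz
          exact Subtype.ext (Subtype.ext hh)
    rcases SelfCentEight.exists_cyclic hAp _ hcent with h4 | ⟨y, hy⟩
    · exact sectional_of_card_le (by rw [hcard]; omega)
    · let C : Subgroup (S : Subgroup G) := Subgroup.zpowers ⟨(y : G), y.2.1⟩
      refine sectional_of_cyclic C ?_
      have h1 := C.card_mul_index
      have h2 := (Subgroup.zpowers y).card_mul_index
      rw [Nat.card_zpowers] at h1 h2
      rw [Subgroup.orderOf_mk, hcard, ← h2, Subgroup.orderOf_coe] at h1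
      have hpos := orderOf_pos y
      by_contra hgt
      push Not at hgt
      have := Nat.mul_lt_mul_of_pos_left (show 4 * (Subgroup.zpowers y).index < C.index by omega) hpos
      nlinarith
  · push Not at hinv
    obtain ⟨x, hxA, hx0⟩ : ∃ x ∈ A, x ∉ A0 :=
      ⟨x₀, ⟨hx₀S, hx₀a⟩, fun hc => hx₀ ((hA0mem _).2 hc)⟩
    have hx1 : x ≠ 1 := fun h0 => hx0 (h0 ▸ one_mem _)
    obtain ⟨e, he⟩ := exists_two_power hS hxA.1 hx1
    have hxst := hst x hxA
    have hsq : x * x ∈ A0 := (hA0mem (⟨x, hxA⟩ * ⟨x, hxA⟩)).1 (by rw [map_mul]; exact hρ2 _)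
    have he1 : 1 ≤ e := by
      by_contra he0
      refine hinv x hxA hx0 ?_
      rw [← pow_two, show 2 = 2 ^ (e + 1) by rw [show e = 0 by omega]; rfl, ← he]
      exact pow_orderOf_eq_one x
    have hpA0 : x ^ 2 ^ e ∈ A0 := by
      obtain ⟨c, hc⟩ := dvd_pow_self 2 (show e ≠ 0 by omega)
      rw [hc, pow_mul, pow_two]
      exact pow_mem hsq c
    have hfree : ∀ c ∉ Q, x ^ 2 ^ e • c ≠ c :=
      hA0fix _ hpA0 (Invol.ne_one_of_invol (invol_pow he))
    have hsplit := sign_split h.hna x Q (hAQ x hxA.1 hxA.2) (2 ^ (e + 1)) 2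
      ((Nat.even_pow).2 ⟨even_two, by omega⟩) (by positivity) even_two two_pos
      (period_of_involution_free he hfree) (fun c hc hne j => by
        have hfix2 : x • x • c = c := by
          rw [← mul_smul]
          exact (mem_fixingSubgroup_iff G).1 hsq.2 c hc
        rcases Nat.even_or_odd' j with ⟨i, rfl | rfl⟩
        · refine ⟨fun _ => dvd_mul_right 2 i, fun _ => ?_⟩
          rw [pow_mul, pow_two]
          exact fixedBy_pow_subset i (by rw [MulAction.mem_fixedBy, mul_smul, hfix2])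
        · refine ⟨fun hh => ?_, fun hh => by omega⟩
          exfalso
          apply hne
          rwa [pow_succ', mul_smul, pow_mul, pow_two,
            show (x * x) ^ i • c = c from
              fixedBy_pow_subset i (by rw [MulAction.mem_fixedBy, mul_smul, hfix2])] at hh)
    have hQx : (Q ∩ fixedBy Ω x).ncard = 2 := by
      obtain ⟨j, hja, hjx⟩ := perm_four_fix_other _ _ (hρa ⟨x, hxA⟩) (hρ2 _)
      have hjx' : x • ((ε.symm j : Q) : Ω) = ((ε.symm j : Q) : Ω) :=
        (hρ ⟨x, hxst⟩ (ε.symm j) (ε.symm j)).1 (by rw [Equiv.apply_symm_apply]; exact hjx)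
      have hja' : ((ε.symm j : Q) : Ω) ≠ a := fun hh => hja (by
        rw [← (Subtype.ext hh : ε.symm j = (⟨a, haQ⟩ : Q)), Equiv.apply_symm_apply])
      have hsub : ({a, ((ε.symm j : Q) : Ω)} : Set Ω) ⊆ Q ∩ fixedBy Ω x := by
        rintro c (rfl | rfl)
        · exact ⟨haQ, hxA.2⟩
        · exact ⟨(ε.symm j).2, hjx'⟩
      have h1 := Set.ncard_le_ncard hsub (Set.toFinite _)
      rw [Set.ncard_pair hja'.symm] at h1
      have h4 : (Q ∩ fixedBy Ω x).ncard ≤ 4 := hQ ▸ Set.ncard_le_ncard Set.inter_subset_left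
      by_contra hne2
      have h3 : 3 ≤ (Q ∩ fixedBy Ω x).ncard := by omega
      have hdiff : (Q \ fixedBy Ω x).ncard ≤ 1 := by
        have := Set.ncard_inter_add_ncard_sdiff_eq_ncard Q (fixedBy Ω x) (Set.toFinite _)
        omega
      obtain ⟨q', hq'Q, hq'⟩ : ∃ q' ∈ Q, x • q' ≠ q' := by
        by_contra hall
        push Not at hall
        exact hx0 ⟨hxA, (mem_fixingSubgroup_iff G).2 hall⟩
      have hxq : x • q' ∈ Q := by
        have := Set.smul_mem_smul_set (a := x) hq'Q
        rwa [hAQ x hxA.1 hxA.2] at this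
      have hsub2 : ({q', x • q'} : Set Ω) ⊆ Q \ fixedBy Ω x := by
        rintro c (rfl | rfl)
        · exact ⟨hq'Q, hq'⟩
        · exact ⟨hxq, fun hfx => hq' (smul_left_cancel x hfx)⟩
      have h5 := Set.ncard_le_ncard hsub2 (Set.toFinite _)
      rw [Set.ncard_pair (Ne.symm hq')] at h5
      omega
    obtain ⟨⟨c, hc⟩, d, hd⟩ := hsplit
    rw [hQ, hQx] at hd
    rw [hQ] at hc
    rw [hc, Nat.mul_div_cancel_left _ (by positivity)] at hd
    have hA0c : Nat.card A0 ≤ 2 ^ (e + 1) := by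
      have hdvd := card_dvd_of_semiregular A0 Q (fun k hk c => by
        refine ⟨fun hcc => ?_, fun hcc => by
          rw [(mem_fixingSubgroup_iff G).1 hk.2 c hcc]; exact hcc⟩
        have hfix := (mem_fixingSubgroup_iff G).1 hk.2 _ hcc
        rwa [← smul_left_cancel k hfix]) hA0fix
      rw [hQ, hc] at hdvd
      obtain ⟨i, hi⟩ := (hS.to_le (inf_le_left.trans inf_le_left : A0 ≤ S)).exists_card_eq
      rw [hi] at hdvd ⊢
      refine Nat.le_of_dvd (by positivity) ?_
      refine (Nat.Coprime.dvd_of_dvd_mul_right ?_ hdvd)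
      refine Nat.Coprime.pow_left _ (Nat.coprime_two_left.2 ?_)
      exact Nat.odd_iff.2 (by omega)
    let C : Subgroup (S : Subgroup G) := Subgroup.zpowers ⟨x, hxA.1⟩
    refine sectional_of_cyclic C ?_
    have h1 := C.card_mul_index
    rw [Nat.card_zpowers, Subgroup.orderOf_mk, he, hcard] at h1
    refine Nat.le_of_mul_le_mul_left ?_ (show 0 < 2 ^ (e + 1) by positivity)
    omega

end CfsgLib.FixityFour
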