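import Mathlib
import Cfsg.Prelude.Def_Involutions
import Cfsg.Prelude.Def_CaseTheorems
import Cfsg.Agent.Lib.FusionMetacyclic.TwoGroups
import Cfsg.Agent.Lib.TwoFusion.AlperinRankTwo.TwoGroup
import Cfsg.Agent.Lib.TwoFusion.FourSelfCent

/-!
Simple groups in which involutions fix at most three points: strongly embedded subgroup, or dihedral or
semidihedral Sylow 2-subgroups.
-/

set_option autoImplicit false
set_option linter.style.haveILetI false

namespace CfsgLib.FixityFour

open Subgroup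

variable {G Ω : Type*} [Group G] [Finite G] [MulAction G Ω] [Finite Ω]

omit [Finite G] [Finite Ω] in
theorem mem_fixedBy_of_smul_invariant {t s : G} (h : t * s = s * t) {x : Ω}
    (hx : x ∈ MulAction.fixedBy Ω t) : s • x ∈ MulAction.fixedBy Ω t := by
  rw [MulAction.mem_fixedBy] at hx ⊢
  rw [← mul_smul, h, mul_smul, hx]

/-- In a simple nonabelian group an involution moves a multiple of four points. -/
theorem four_dvd_moved [IsSimpleGroup G] (hna : ¬ IsMulCommutative G) {t : G} (ht : t * t = 1) :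
    ∃ k : ℕ, Nat.card (MulAction.fixedBy Ω t) + 4 * k = Nat.card Ω := by
  classical
  letI := Fintype.ofFinite Ω
  set ρ := MulAction.toPermHom G Ω with hρ
  have hsign : Equiv.Perm.sign (ρ t) = 1 := by
    set f := (Equiv.Perm.sign).comp ρ with hf
    rcases Subgroup.Normal.eq_bot_or_eq_top (inferInstance : f.ker.Normal) with h | h
    · exfalso
      refine hna ⟨⟨fun a b => (MonoidHom.ker_eq_bot_iff f).1 h ?_⟩⟩
      rw [map_mul, map_mul, mul_comm]
    · exact MonoidHom.mem_ker.1 (show t ∈ f.ker by rw [h]; exact mem_top t)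
  have hinvol : ρ t ^ 2 = 1 := by rw [← map_pow, pow_two, ht, map_one]
  obtain ⟨m, hm⟩ : ∃ m, (ρ t).cycleType = Multiset.replicate m 2 :=
    ⟨_, Multiset.eq_replicate_card.2 fun k hk => by
      have h1 := Equiv.Perm.two_le_of_mem_cycleType hk
      have h2 := (Equiv.Perm.dvd_of_mem_cycleType hk).trans (orderOf_dvd_of_pow_eq_one hinvol)
      have := Nat.le_of_dvd (by norm_num) h2
      omega⟩
  have hsq := Equiv.Perm.sign_of_cycleType (ρ t)
  rw [hsign, hm, Multiset.sum_replicate, Multiset.card_replicate, smul_eq_mul] at hsq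
  have hm2 : Even m := by
    have : Even (m * 2 + m) := neg_one_pow_eq_one_iff_even (by decide) |>.1 hsq.symm
    rwa [Nat.even_add, iff_true_left (even_two.mul_left m)] at this
  have hs' : (ρ t).support.card = m * 2 := by
    rw [← Equiv.Perm.sum_cycleType, hm, Multiset.sum_replicate, smul_eq_mul]
  obtain ⟨k, hk⟩ := hm2
  refine ⟨k, ?_⟩
  have hfix : Nat.card (MulAction.fixedBy Ω t) = (Finset.univ.filter fun x => ρ t x = x).card := by
    rw [← Fintype.card_subtype, ← Nat.card_eq_fintype_card]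
    rfl
  have hsum := Finset.card_filter_add_card_filter_not (s := (Finset.univ : Finset Ω)) (fun x => ρ t x = x)
  rw [Finset.card_univ, ← Nat.card_eq_fintype_card, ← hfix] at hsum
  have hsupp : (ρ t).support.card = (Finset.univ.filter fun x => ¬ ρ t x = x).card := by
    congr 1
  omega

/-- All involutions fix the same number of points. -/
theorem card_fixedBy_eq [IsSimpleGroup G] (hna : ¬ IsMulCommutative G) {f : ℕ}
    (hf : ∀ g : G, orderOf g = 2 → Nat.card (MulAction.fixedBy Ω g) ≤ f)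
    (hf' : ∃ g : G, orderOf g = 2 ∧ Nat.card (MulAction.fixedBy Ω g) = f) (h3 : f ≤ 3) {t : G}
    (ht : orderOf t = 2) : Nat.card (MulAction.fixedBy Ω t) = f := by
  obtain ⟨g, hg, hgf⟩ := hf'
  obtain ⟨k, hk⟩ := four_dvd_moved (Ω := Ω) hna (t := t) (by rw [← pow_two, ← ht, pow_orderOf_eq_one])
  obtain ⟨l, hl⟩ := four_dvd_moved (Ω := Ω) hna (t := g) (by rw [← pow_two, ← hg, pow_orderOf_eq_one])
  have := hf t ht
  omega

/-- The case of a Sylow 2-subgroup all whose involutions fix the same points as a central one. -/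
theorem exists_stronglyEmbedded (htrans : MulAction.IsPretransitive G Ω) {f : ℕ} (h1 : 1 ≤ f)
    (hn : f < Nat.card Ω) (S : Sylow 2 G) {t : G} (htS : t ∈ (S : Subgroup G)) (ht : orderOf t = 2)
    (htc : ∀ s ∈ (S : Subgroup G), t * s = s * t)
    (hcard : ∀ g : G, orderOf g = 2 → Nat.card (MulAction.fixedBy Ω g) = f)
    (hall : ∀ u ∈ (S : Subgroup G), orderOf u = 2 → MulAction.fixedBy Ω t ⊆ MulAction.fixedBy Ω u) :
    ∃ H : Subgroup G, Cfsg.IsStronglyEmbedded H := by
  haveI : Fact (Nat.Prime 2) := ⟨Nat.prime_two⟩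
  haveI := htrans
  set F := MulAction.fixedBy Ω t with hF
  let M : Subgroup G :=
    { carrier := {g | ∀ x, g • x ∈ F ↔ x ∈ F}
      one_mem' := fun x => by rw [one_smul]
      mul_mem' := fun {a b} ha hb x => by rw [mul_smul, ha, hb]
      inv_mem' := fun {a} ha x => by rw [← ha (a⁻¹ • x), smul_inv_smul] }
  have hSM : (S : Subgroup G) ≤ M := fun s hs x =>
    ⟨fun h => by
      have := mem_fixedBy_of_smul_invariant (htc s⁻¹ (inv_mem hs)) h
      rwa [inv_smul_smul] at this,
      fun h => mem_fixedBy_of_smul_invariant (htc s hs) h⟩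
  have hFne : F.Nonempty := by
    obtain ⟨x⟩ : Nonempty F := by
      refine (Nat.card_pos_iff.1 ?_).1
      rw [hF, hcard t ht]
      omega
    exact ⟨x, x.2⟩
  have hMw : ∀ w ∈ M, orderOf w = 2 → MulAction.fixedBy Ω w = F := by
    intro w hw hw2
    let S' : Sylow 2 ↥M := S.subtype hSM
    have hwp : IsPGroup 2 ↥(zpowers (⟨w, hw⟩ : ↥M)) :=
      IsPGroup.of_card (n := 1) (by rw [Nat.card_zpowers, Subgroup.orderOf_mk, hw2, pow_one])
    obtain ⟨Q, hQ⟩ := hwp.exists_le_sylow
    obtain ⟨m, hm⟩ := MulAction.exists_smul_eq ↥M Q S'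
    have hmw : (m * ⟨w, hw⟩ * m⁻¹ : ↥M) ∈ (S' : Subgroup ↥M) := by
      rw [← hm]
      exact ⟨_, hQ (mem_zpowers _), rfl⟩
    have hmwS : (m : G) * w * (m : G)⁻¹ ∈ (S : Subgroup G) := hmw
    have ho : orderOf ((m : G) * w * (m : G)⁻¹) = 2 := by
      rw [← hw2]; exact (MulAut.conj (m : G)).orderOf_eq w
    have hsub := hall _ hmwS ho
    have hle : F ⊆ MulAction.fixedBy Ω w := fun x hx => by
      have h := hsub ((m.2 x).2 hx)
      rw [MulAction.mem_fixedBy, mul_smul, mul_smul, inv_smul_smul] at h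
      exact MulAction.mem_fixedBy.2 (smul_left_cancel _ h)
    refine (Set.eq_of_subset_of_ncard_le hle ?_ (Set.toFinite _)).symm
    rw [← Nat.card_coe_set_eq, ← Nat.card_coe_set_eq, hF, hcard w hw2, hcard t ht]
  refine ⟨M, ?_, ?_, ?_⟩
  · intro hM
    obtain ⟨x, hx⟩ := hFne
    have huniv : F = Set.univ := Set.eq_univ_of_forall fun y => by
      obtain ⟨g, rfl⟩ := MulAction.exists_smul_eq G x y
      exact ((hM ▸ mem_top g : g ∈ M) x).2 hx
    have := hcard t ht
    rw [← hF, huniv, Nat.card_congr (Equiv.Set.univ Ω)] at this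
    omega
  · exact even_iff_two_dvd.2 (ht ▸ M.orderOf_dvd_natCard (hSM htS))
  · intro g hg
    by_contra hodd
    rw [Nat.not_odd_iff_even, even_iff_two_dvd] at hodd
    obtain ⟨w, hw⟩ := exists_prime_orderOf_dvd_card' 2 hodd
    have hw2 : orderOf (w : G) = 2 := by rw [Subgroup.orderOf_coe, hw]
    obtain ⟨hwM, v, hv, hvw⟩ := Subgroup.mem_inf.1 w.2
    simp only [MulEquiv.coe_toMonoidHom, MulAut.conj_apply] at hvw
    have hv2 : orderOf v = 2 := by
      rw [← hw2, ← hvw]; exact ((MulAut.conj g).orderOf_eq v).symm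
    have e1 := hMw _ hwM hw2
    have e2 := hMw v hv hv2
    refine hg fun x => ?_
    have : g • x ∈ MulAction.fixedBy Ω (w : G) ↔ x ∈ MulAction.fixedBy Ω v := by
      rw [MulAction.mem_fixedBy, MulAction.mem_fixedBy, ← hvw, mul_smul, mul_smul, inv_smul_smul,
        smul_left_cancel_iff]
    rwa [e1, e2] at this

/-- An involution moving a fixed point of the central involution gives maximal class. -/
theorem card_centralizer_le {f : ℕ} (h1 : 1 ≤ f) (h3 : f ≤ 3) (S : Sylow 2 G) {t u : G}
    (ht : orderOf t = 2) (huS : u ∈ (S : Subgroup G)) (hu : orderOf u = 2)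
    (htc : ∀ s ∈ (S : Subgroup G), t * s = s * t)
    (hcard : ∀ g : G, orderOf g = 2 → Nat.card (MulAction.fixedBy Ω g) = f)
    [FaithfulSMul G Ω]
    {p : Ω} (hp : p ∈ MulAction.fixedBy Ω t) (hup : p ∉ MulAction.fixedBy Ω u) :
    Nat.card (centralizer ({(⟨u, huS⟩ : ↥(S : Subgroup G))} : Set ↥(S : Subgroup G))) ≤ 4 := by
  classical
  haveI : Fact (Nat.Prime 2) := ⟨Nat.prime_two⟩
  set F := MulAction.fixedBy Ω t with hF
  set Fu := MulAction.fixedBy Ω u with hFu
  have hu2 : u * u = 1 := by rw [← pow_two, ← hu, pow_orderOf_eq_one]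
  have hupF : u • p ∈ F := mem_fixedBy_of_smul_invariant (htc u huS) hp
  have hne : u • p ≠ p := fun h => hup (MulAction.mem_fixedBy.2 h)
  have hupu : u • p ∉ Fu := fun h => hne (by
    have h' : u • (u • p) = u • p := h
    rw [← mul_smul, hu2, one_smul] at h'
    exact h'.symm)
  have hFcard : F.ncard = f := by rw [← Nat.card_coe_set_eq, hF, hcard t ht]
  have hFucard : Fu.ncard = f := by rw [← Nat.card_coe_set_eq, hFu, hcard u hu]
  have hpair : ({p, u • p} : Set Ω) ⊆ F \ Fu := by
    intro y hy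
    rcases hy with rfl | rfl
    · exact ⟨hp, hup⟩
    · exact ⟨hupF, hupu⟩
  have h2 : 2 ≤ (F \ Fu).ncard := by
    have := Set.ncard_le_ncard hpair
    rwa [Set.ncard_pair hne.symm] at this
  have hA : (F \ Fu).ncard ≤ 3 := (Set.ncard_le_ncard Set.sdiff_subset).trans (hFcard.le.trans h3)
  have hsplit : (F ∩ Fu).ncard + (F \ Fu).ncard = f := by rw [Set.ncard_inter_add_ncard_sdiff_eq_ncard _ _ (Set.toFinite _), hFcard]
  have hsplit' : (Fu ∩ F).ncard + (Fu \ F).ncard = f := by rw [Set.ncard_inter_add_ncard_sdiff_eq_ncard _ _ (Set.toFinite _), hFucard]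
  -- `u` permutes the points of `F` it moves without fixed point
  have hAeq : F \ Fu = {p, u • p} := by
    refine (Set.eq_of_subset_of_ncard_le hpair ?_).symm
    rw [Set.ncard_pair hne.symm]
    by_contra hgt
    obtain ⟨q, hq, hq'⟩ : ∃ q ∈ F \ Fu, q ∉ ({p, u • p} : Set Ω) := by
      by_contra hcon
      push Not at hcon
      have := Set.ncard_le_ncard (show F \ Fu ⊆ {p, u • p} from hcon)
      rw [Set.ncard_pair hne.symm] at this
      omega
    have huq : u • q ∈ F \ Fu := ⟨mem_fixedBy_of_smul_invariant (htc u huS) hq.1, fun h => hq.2 (by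
      have h' : u • (u • q) = u • q := h
      rw [← mul_smul, hu2, one_smul] at h'
      exact MulAction.mem_fixedBy.2 h'.symm)⟩
    have hq1 : q ≠ p := fun h => hq' (Or.inl h)
    have hq2 : q ≠ u • p := fun h => hq' (Or.inr h)
    have huq1 : u • q ≠ p := fun h => hq2 (by rw [← h, ← mul_smul, hu2, one_smul])
    have huq2 : u • q ≠ u • p := fun h => hq1 (smul_left_cancel _ h)
    have huq3 : u • q ≠ q := fun h => hq.2 (MulAction.mem_fixedBy.2 h)
    have h4 : ({p, u • p, q, u • q} : Set Ω) ⊆ F \ Fu := by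
      rintro y (rfl | rfl | rfl | rfl)
      exacts [⟨hp, hup⟩, ⟨hupF, hupu⟩, hq, huq]
    have := Set.ncard_le_ncard h4
    rw [Set.ncard_insert_of_notMem (by simp [hne.symm, hq1.symm, huq1.symm]),
      Set.ncard_insert_of_notMem (by simp [hq2.symm, huq2.symm]), Set.ncard_pair huq3.symm] at this
    omega
  rw [hAeq, Set.ncard_pair hne.symm] at hsplit
  rw [Set.inter_comm] at hsplit'
  obtain ⟨x, hx⟩ : (Fu \ F).Nonempty := Set.nonempty_of_ncard_ne_zero (by omega)
  set C := centralizer ({(⟨u, huS⟩ : ↥(S : Subgroup G))} : Set ↥(S : Subgroup G)) with hC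
  have hcu : ∀ c : ↥C, ((c : ↥(S : Subgroup G)) : G) * u = u * ((c : ↥(S : Subgroup G)) : G) := fun c =>
    congrArg Subtype.val (mem_centralizer_singleton_iff.1 c.2)
  have hmapF : ∀ c : ↥C, ∀ y, ((c : ↥(S : Subgroup G)) : G) • y ∈ F ↔ y ∈ F := fun c y =>
    ⟨fun h => by
      have := mem_fixedBy_of_smul_invariant (htc _ (inv_mem (c : ↥(S : Subgroup G)).2)) h
      rwa [inv_smul_smul] at this,
      fun h => mem_fixedBy_of_smul_invariant (htc _ (c : ↥(S : Subgroup G)).2) h⟩
  have hmapFu : ∀ c : ↥C, ∀ y, y ∈ Fu → ((c : ↥(S : Subgroup G)) : G) • y ∈ Fu := fun c y h =>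
    mem_fixedBy_of_smul_invariant (hcu c).symm h
  have hmapFu' : ∀ c : ↥C, ∀ y, y ∉ Fu → ((c : ↥(S : Subgroup G)) : G) • y ∉ Fu := fun c y h h' => h (by
    have := hmapFu c⁻¹ _ h'
    rw [InvMemClass.coe_inv, InvMemClass.coe_inv, inv_smul_smul] at this
    exact this)
  let φ : ↥C → ↥({p, u • p} : Set Ω) × ↥(Fu \ F) := fun c =>
    (⟨((c : ↥(S : Subgroup G)) : G) • p, hAeq ▸ ⟨(hmapF c p).2 hp, hmapFu' c p hup⟩⟩,
     ⟨((c : ↥(S : Subgroup G)) : G) • x, hmapFu c x hx.1, fun h => hx.2 ((hmapF c x).1 h)⟩)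
  have hφ : Function.Injective φ := by
    intro c c' h
    simp only [φ, Prod.mk.injEq, Subtype.ext_iff] at h
    by_contra hcc
    set d : G := ((c' : ↥(S : Subgroup G)) : G)⁻¹ * ((c : ↥(S : Subgroup G)) : G) with hd
    have hdS : d ∈ (S : Subgroup G) := mul_mem (inv_mem (c' : ↥(S : Subgroup G)).2) (c : ↥(S : Subgroup G)).2
    have hd1 : d ≠ 1 := fun h1 => hcc (Subtype.ext (Subtype.ext (inv_mul_eq_one.1 h1).symm))
    have hdp : d • p = p := by rw [hd, mul_smul, h.1, inv_smul_smul]
    have hdx : d • x = x := by rw [hd, mul_smul, h.2, inv_smul_smul]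
    have hdu : d * u = u * d := by
      rw [hd, mul_assoc, hcu c, ← mul_assoc, ← mul_assoc]
      have := congrArg (fun z => ((c' : ↥(S : Subgroup G)) : G)⁻¹ * z * ((c' : ↥(S : Subgroup G)) : G)⁻¹) (hcu c')
      simp only [mul_assoc, inv_mul_cancel_left, mul_inv_cancel, mul_one] at this
      rw [show ((c' : ↥(S : Subgroup G)) : G)⁻¹ * u = u * ((c' : ↥(S : Subgroup G)) : G)⁻¹ from this.symm]
    have hdup : d • (u • p) = u • p := by rw [← mul_smul, hdu, mul_smul, hdp]
    have hdF : ∀ y ∈ F, d • y = y := by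
      intro y hy
      have hdy : d • y ∈ F := mem_fixedBy_of_smul_invariant (htc d hdS) hy
      by_contra hne'
      have hy1 : y ≠ p := fun e => hne' (e.symm ▸ hdp)
      have hy2 : y ≠ u • p := fun e => hne' (e.symm ▸ hdup)
      have hy3 : d • y ≠ p := fun e => hy1 (smul_left_cancel d (e.trans hdp.symm))
      have hy4 : d • y ≠ u • p := fun e => hy2 (smul_left_cancel d (e.trans hdup.symm))
      have h4 : ({p, u • p, y, d • y} : Set Ω) ⊆ F := by
        rintro z (rfl | rfl | rfl | rfl)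
        exacts [hp, hupF, hy, hdy]
      have := Set.ncard_le_ncard h4
      rw [Set.ncard_insert_of_notMem (by simp [hne.symm, hy1.symm, hy3.symm]),
        Set.ncard_insert_of_notMem (by simp [hy2.symm, hy4.symm]), Set.ncard_pair (Ne.symm hne'), hFcard] at this
      omega
    obtain ⟨k, hk⟩ := (IsPGroup.iff_orderOf.1 S.2) ⟨d, hdS⟩
    rw [Subgroup.orderOf_mk] at hk
    obtain ⟨j, rfl⟩ : ∃ j, k = j + 1 := ⟨k - 1, by
      have : k ≠ 0 := fun h0 => hd1 (orderOf_eq_one_iff.1 (by rw [hk, h0, pow_zero]))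
      omega⟩
    have hdpow : ∀ (n : ℕ) (y : Ω), d • y = y → d ^ n • y = y := fun n y hy => by
      induction n with
      | zero => rw [pow_zero, one_smul]
      | succ n ih => rw [pow_succ, mul_smul, hy, ih]
    have hw : orderOf (d ^ 2 ^ j) = 2 := by
      rw [orderOf_pow' d (by positivity), hk, Nat.gcd_eq_right (by exact Dvd.intro 2 (by rw [pow_succ])),
        pow_succ, Nat.mul_div_cancel_left _ (by positivity)]
    have hsub : insert x F ⊆ MulAction.fixedBy Ω (d ^ 2 ^ j) := by
      rintro y (rfl | hy)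
      · exact MulAction.mem_fixedBy.2 (hdpow _ _ hdx)
      · exact MulAction.mem_fixedBy.2 (hdpow _ _ (hdF y hy))
    have := Set.ncard_le_ncard hsub
    rw [Set.ncard_insert_of_notMem hx.2, hFcard, ← Nat.card_coe_set_eq, hcard _ hw] at this
    omega
  have := Nat.card_le_card_of_injective φ hφ
  rw [Nat.card_prod, Nat.card_coe_set_eq, Nat.card_coe_set_eq, Set.ncard_pair hne.symm] at this
  have hB : (Fu \ F).ncard = 2 := by omega
  rw [hB] at this
  exact this

/-- Simple groups with involutions fixing at most three points. -/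
theorem low_fix [IsSimpleGroup G] [FaithfulSMul G Ω] (hna : ¬ IsMulCommutative G)
    (htrans : MulAction.IsPretransitive G Ω)
    (_hfix : ∀ g : G, g ≠ 1 → Nat.card (MulAction.fixedBy Ω g) ≤ 4) (S : Sylow 2 G) (f : ℕ)
    (hf1 : 1 ≤ f) (hf3 : f ≤ 3) (hf : ∀ g : G, orderOf g = 2 → Nat.card (MulAction.fixedBy Ω g) ≤ f)
    (hf' : ∃ g : G, orderOf g = 2 ∧ Nat.card (MulAction.fixedBy Ω g) = f) :
    (∃ H : Subgroup G, Cfsg.IsStronglyEmbedded H) ∨
      ((∃ n : ℕ, Nonempty ((S : Subgroup G) ≃* DihedralGroup n)) ∨ Cfsg.IsQuasiDihedral (S : Subgroup G)) := by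
  have h1 := hf1
  have h3 := hf3
  have hn : f < Nat.card Ω := by
    obtain ⟨g, hg, hgf⟩ := hf'
    refine lt_of_le_of_ne (hgf ▸ Nat.card_le_card_of_injective _ Subtype.val_injective) fun h => ?_
    have huniv : MulAction.fixedBy Ω g = Set.univ := Set.eq_of_subset_of_ncard_le (Set.subset_univ _)
      (by rw [Set.ncard_univ, ← Nat.card_coe_set_eq, hgf, h]) (Set.toFinite _)
    have hg1 : g = 1 := FaithfulSMul.eq_of_smul_eq_smul (α := Ω) fun x => by
      rw [one_smul]
      exact MulAction.mem_fixedBy.1 (huniv ▸ Set.mem_univ x)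
    rw [hg1, orderOf_one] at hg
    omega
  haveI : Fact (Nat.Prime 2) := ⟨Nat.prime_two⟩
  have hcard : ∀ g : G, orderOf g = 2 → Nat.card (MulAction.fixedBy Ω g) = f := fun g hg =>
    card_fixedBy_eq hna hf hf' h3 hg
  haveI : Nontrivial ↥(S : Subgroup G) := by
    obtain ⟨g, hg, -⟩ := hf'
    have hd : 2 ∣ Nat.card G := hg ▸ orderOf_dvd_natCard g
    have h := S.dvd_card_of_dvd_card hd
    exact Finite.one_lt_card_iff_nontrivial.1 (Nat.le_of_dvd Nat.card_pos h)
  obtain ⟨z, hz⟩ := exists_prime_orderOf_dvd_card' (G := Subgroup.center ↥(S : Subgroup G)) 2 (by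
    haveI : Nontrivial (Subgroup.center ↥(S : Subgroup G)) := S.2.center_nontrivial
    obtain ⟨k, hk⟩ := (S.2.to_subgroup (Subgroup.center ↥(S : Subgroup G))).exists_card_eq
    rw [hk]
    refine dvd_pow_self 2 fun h0 => ?_
    rw [h0, pow_zero] at hk
    have := (Nat.card_eq_one_iff_unique.1 hk).1
    exact false_of_nontrivial_of_subsingleton (Subgroup.center ↥(S : Subgroup G)))
  set t : G := ((z : ↥(S : Subgroup G)) : G) with htdef
  have ht : orderOf t = 2 := by rw [htdef, Subgroup.orderOf_coe, Subgroup.orderOf_coe, hz]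
  have htS : t ∈ (S : Subgroup G) := (z : ↥(S : Subgroup G)).2
  have htc : ∀ s ∈ (S : Subgroup G), t * s = s * t := fun s hs =>
    (congrArg Subtype.val (Subgroup.mem_center_iff.1 z.2 ⟨s, hs⟩)).symm
  by_cases hall : ∀ u ∈ (S : Subgroup G), orderOf u = 2 → MulAction.fixedBy Ω t ⊆ MulAction.fixedBy Ω u
  · exact Or.inl (exists_stronglyEmbedded htrans h1 hn S htS ht htc hcard hall)
  · right
    push Not at hall
    obtain ⟨u, huS, hu, hsub⟩ := hall
    obtain ⟨p, hp, hup⟩ := Set.not_subset.1 hsub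
    have h4 := card_centralizer_le h1 h3 S ht huS hu htc hcard hp hup
    set T : ↥(S : Subgroup G) := ⟨t, htS⟩ with hT
    set U : ↥(S : Subgroup G) := ⟨u, huS⟩ with hU
    set C := centralizer ({U} : Set ↥(S : Subgroup G)) with hC
    have hTo : orderOf T = 2 := by rw [hT, Subgroup.orderOf_mk, ht]
    have hUo : orderOf U = 2 := by rw [hU, Subgroup.orderOf_mk, hu]
    have hT2 : T * T = 1 := by rw [← pow_two]; exact orderOf_dvd_iff_pow_eq_one.1 hTo.dvd
    have hU2 : U * U = 1 := by rw [← pow_two]; exact orderOf_dvd_iff_pow_eq_one.1 hUo.dvd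
    have hTU : T ≠ U := fun h => hup ((show t = u from congrArg Subtype.val h) ▸ hp)
    have hcomm : T * U = U * T := Subtype.ext (htc u huS)
    have hTC : T ∈ C := mem_centralizer_singleton_iff.2 hcomm
    have hUC : U ∈ C := mem_centralizer_singleton_iff.2 rfl
    obtain ⟨k, hk⟩ := (S.2.to_subgroup C).exists_card_eq
    have hk2 : 2 ≤ k := by
      by_contra hlt
      have hle : Nat.card C ≤ 2 := by rw [hk]; exact le_trans (Nat.pow_le_pow_right (by norm_num) (by omega : k ≤ 1)) le_rfl
      have h3' : 3 ≤ Nat.card C := by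
        have hT1 : T ≠ 1 := fun h => by rw [h, orderOf_one] at hTo; omega
        have hU1 : U ≠ 1 := fun h => by rw [h, orderOf_one] at hUo; omega
        have hsub : ({1, T, U} : Set ↥(S : Subgroup G)) ⊆ (C : Set ↥(S : Subgroup G)) := by
          rintro y (rfl | rfl | rfl)
          exacts [C.one_mem, hTC, hUC]
        have := Set.ncard_le_ncard hsub (Set.toFinite _)
        rw [Set.ncard_insert_of_notMem (by simp only [Set.mem_insert_iff, Set.mem_singleton_iff, not_or]; exact ⟨hT1.symm, hU1.symm⟩),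
          Set.ncard_pair hTU, ← Nat.card_coe_set_eq] at this
        exact this
      omega
    have hC4 : Nat.card C = 4 := by
      have : k = 2 := by
        by_contra hne
        have : 2 ^ 3 ≤ 2 ^ k := Nat.pow_le_pow_right (by norm_num) (by omega)
        rw [← hk] at this
        omega
      rw [hk, this]
      norm_num
    have hCC : centralizer (C : Set ↥(S : Subgroup G)) = C := by
      refine le_antisymm (fun c hc => mem_centralizer_singleton_iff.2 (mem_centralizer_iff.1 hc U hUC).symm) ?_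
      haveI := IsPGroup.isMulCommutative_of_card_eq_prime_sq (p := 2) (G := ↥C) (by rw [hC4]; norm_num)
      intro c hc
      rw [mem_centralizer_iff]
      exact fun y hy => congrArg Subtype.val (mul_comm' (⟨y, hy⟩ : ↥C) ⟨c, hc⟩)
    by_cases h8 : 8 ≤ Nat.card ↥(S : Subgroup G)
    · rcases CfsgLib.FusionMetacyclic.forms_of_self_centralizing S.2 h8 hC4 hCC with ⟨m, hm⟩ | h | ⟨m, ⟨e⟩⟩
      · exact Or.inl ⟨_, hm⟩
      · exact Or.inr h
      · exfalso
        rcases CfsgLib.TwoFusion.AlperinRankTwo.quaternion_invol _ (e T) (e U) (by rw [e.orderOf_eq, hTo])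
          (by rw [e.orderOf_eq, hUo]) with h | h
        · have := Nat.pow_pos (a := 2) (n := m + 1) (by norm_num)
          omega
        · exact hTU (e.injective h)
    · left
      refine ⟨2, ?_⟩
      have hCtop : C = ⊤ := by
        refine Subgroup.eq_top_of_le_card C ?_
        obtain ⟨j, hj⟩ := S.2.exists_card_eq
        rw [hj] at h8 ⊢
        rw [hC4]
        have : j ≤ 2 := by
          by_contra hgt
          exact h8 (le_trans (by norm_num) (Nat.pow_le_pow_right (by norm_num : 1 ≤ 2) (show 3 ≤ j by omega)))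
        exact le_trans (Nat.pow_le_pow_right (by norm_num) this) (by norm_num)
      haveI hklein : IsKleinFour ↥(S : Subgroup G) := by
        have hcard4 : Nat.card ↥(S : Subgroup G) = 4 := by rw [← Subgroup.card_top, ← hCtop, hC4]
        haveI := IsPGroup.isMulCommutative_of_card_eq_prime_sq (p := 2) (G := ↥(S : Subgroup G))
          (by rw [hcard4]; norm_num)
        refine ⟨hcard4, Monoid.exponent_eq_prime_iff (by norm_num) |>.2 fun g hg => ?_⟩
        rcases (Nat.dvd_prime_pow Nat.prime_two (i := orderOf g) (m := 2)).1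
          (by rw [show (2 : ℕ) ^ 2 = 4 by norm_num, ← hcard4]; exact orderOf_dvd_natCard g) with ⟨i, hi, hgi⟩
        interval_cases i
        · exact absurd (orderOf_eq_one_iff.1 (by rw [hgi, pow_zero])) hg
        · rw [hgi, pow_one]
        · exfalso
          haveI : IsCyclic ↥(S : Subgroup G) := isCyclic_of_orderOf_eq_card g (by rw [hgi, hcard4]; norm_num)
          obtain ⟨w, hw⟩ := IsCyclic.exists_generator (α := ↥(S : Subgroup G))
          exact hTU (CfsgLib.TwoFusion.FourSelfCent.sq_eq_one_cyclic_unique (hw T) (hw U) (by rw [pow_two, hT2])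
            (by rw [pow_two, hU2]) (fun h => by rw [h, orderOf_one] at hTo; omega)
            (fun h => by rw [h, orderOf_one] at hUo; omega))
      exact IsKleinFour.nonempty_mulEquiv

end CfsgLib.FixityFour
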