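import Cfsg.Agent.Lib.FixityFour.OddSmall

/-!
Fixity four, odd stabilisers, a Sylow 3-subgroup keeping the fixed set: it has order nine and exponent three.
-/

set_option autoImplicit false
set_option maxHeartbeats 400000
set_option linter.style.haveILetI false
set_option linter.unusedSectionVars false

open MulAction
open scoped Pointwise

namespace CfsgLib.FixityFour

variable {G Ω : Type*} [Group G] [MulAction G Ω] [Finite G] [Finite Ω] {F : Set Ω}

/-- The cube of a 3-element keeping `F` fixes `F` pointwise. -/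
theorem OddSetting.cube_mem (h : OddSetting (G := G) F) {x : G} {i : ℕ} (hxF : x • F = F)
    (hx : x ^ (3 ^ i) = 1) : x ^ 3 ∈ fixingSubgroup G F := by
  obtain ⟨ρ, e, -, hker, -⟩ := h.exists_perm
  set X : MulAction.stabilizer G F := ⟨x, hxF⟩
  refine (hker (X ^ 3)).1 ?_
  rw [map_pow]
  have h1 : orderOf (ρ X) ∣ 3 ^ i :=
    (orderOf_map_dvd ρ X).trans (orderOf_dvd_of_pow_eq_one (Subtype.ext hx))
  have h2 : orderOf (ρ X) ∣ 24 := by
    have := orderOf_dvd_natCard (ρ X)
    rwa [Nat.card_perm, Nat.card_fin] at this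
  obtain ⟨j, hj, he⟩ := (Nat.dvd_prime_pow Nat.prime_three).1 h1
  refine orderOf_dvd_iff_pow_eq_one.1 ?_
  rw [he] at h2 ⊢
  rcases Nat.lt_or_ge j 2 with h4 | h4
  · calc 3 ^ j ∣ 3 ^ 1 := pow_dvd_pow 3 (by omega)
      _ = 3 := pow_one 3
  · exact absurd ((pow_dvd_pow 3 h4).trans h2) (by decide)

theorem mem_stabilizer_of_fix {x g : G} (hx : fixedBy Ω x = F)
    (hg : fixedBy Ω (g * x * g⁻¹) = F) : g • F = F := by
  conv_lhs => rw [← hx]
  rw [smul_fixedBy, hg]

/-- An element keeping `F` conjugates inside the stabiliser of `F` into the Sylow subgroup `P`,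
with the largest possible centraliser there. -/
theorem OddSetting.exists_conj (P : Sylow 3 G) (hPF : ∀ g ∈ (P : Subgroup G), g • F = F)
    {y : G} {i : ℕ} (hy : y ^ (3 ^ i) = 1) (hyF : y • F = F) :
    ∃ k : G, k • F = F ∧ k * y * k⁻¹ ∈ (P : Subgroup G) ∧
      ∀ L : Subgroup G, IsPGroup 3 L → (∀ a ∈ L, a • F = F ∧ a * (k * y * k⁻¹) = k * y * k⁻¹ * a) →
        Nat.card L ≤ Nat.card ↥((P : Subgroup G) ⊓ Subgroup.centralizer ({k * y * k⁻¹} : Set G)) := by
  haveI := Fact.mk Nat.prime_three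
  set H := MulAction.stabilizer G F with hHdef
  have hPH : (P : Subgroup G) ≤ H := hPF
  set C := H ⊓ Subgroup.centralizer ({y} : Set G) with hCdef
  obtain ⟨j, hj, hoj⟩ := (Nat.dvd_prime_pow Nat.prime_three).1 (orderOf_dvd_of_pow_eq_one hy)
  have hyC : y ∈ C := ⟨hyF, SelfCentEight.mem_cent.2 rfl⟩
  obtain ⟨D, hD⟩ := (IsPGroup.of_card (n := j) (show Nat.card (Subgroup.zpowers (⟨y, hyC⟩ : C)) = 3 ^ j by
    rw [Nat.card_zpowers, Subgroup.orderOf_mk, hoj])).exists_le_sylow
  set D' : Subgroup G := (D : Subgroup C).map C.subtype with hD'def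
  have hD'H : D' ≤ H := by
    rintro _ ⟨d, -, rfl⟩
    exact d.2.1
  have hD'p : IsPGroup 3 D' := D.isPGroup'.map _
  obtain ⟨R, hR⟩ := (show IsPGroup 3 (D'.subgroupOf H) from
    hD'p.of_equiv (Subgroup.subgroupOfEquivOfLe hD'H).symm).exists_le_sylow
  obtain ⟨k, hk⟩ := MulAction.exists_smul_eq H R (P.subtype hPH)
  have hmem : ∀ d ∈ D', (k : G) * d * (k : G)⁻¹ ∈ (P : Subgroup G) := by
    intro d hd
    have h1 : k * ⟨d, hD'H hd⟩ * k⁻¹ ∈ ((k • R : Sylow 3 H) : Subgroup H) :=
      ⟨⟨d, hD'H hd⟩, hR hd, rfl⟩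
    rw [hk] at h1
    exact h1
  have hyD : y ∈ D' := ⟨⟨y, hyC⟩, hD (Subgroup.mem_zpowers _), rfl⟩
  refine ⟨k, k.2, hmem y hyD, fun L hL hLc => ?_⟩
  have h1 : Nat.card L ≤ Nat.card D' := by
    set L' : Subgroup G := L.map (MulAut.conj (k : G)⁻¹).toMonoidHom with hL'def
    have hL'C : L' ≤ C := by
      rintro _ ⟨a, ha, rfl⟩
      obtain ⟨haF, hac⟩ := hLc a ha
      refine ⟨?_, SelfCentEight.mem_cent.2 ?_⟩
      · show ((k : G)⁻¹ * a * ((k : G)⁻¹)⁻¹) • F = F
        rw [inv_inv, mul_smul, mul_smul, show (k : G) • F = F from k.2, haF,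
          inv_smul_eq_iff, show (k : G) • F = F from k.2]
      · show (k : G)⁻¹ * a * ((k : G)⁻¹)⁻¹ * y = y * ((k : G)⁻¹ * a * ((k : G)⁻¹)⁻¹)
        calc (k : G)⁻¹ * a * ((k : G)⁻¹)⁻¹ * y = (k : G)⁻¹ * (a * ((k : G) * y * (k : G)⁻¹)) * k := by group
          _ = _ := by rw [hac]; group
    obtain ⟨D₂, hD₂⟩ := (show IsPGroup 3 (L'.subgroupOf C) from
      (hL.map _).of_equiv (Subgroup.subgroupOfEquivOfLe hL'C).symm).exists_le_sylow
    calc Nat.card L = Nat.card L' :=
          (Nat.card_congr (L.equivMapOfInjective _ (MulAut.conj (k : G)⁻¹).injective).toEquiv)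
      _ = Nat.card (L'.subgroupOf C) := (Nat.card_congr (Subgroup.subgroupOfEquivOfLe hL'C).toEquiv).symm
      _ ≤ Nat.card D₂ := Subgroup.card_le_of_le hD₂
      _ = Nat.card D := D₂.card_eq_multiplicity.trans D.card_eq_multiplicity.symm
      _ = Nat.card D' := (Nat.card_congr
          ((D : Subgroup C).equivMapOfInjective C.subtype C.subtype_injective).toEquiv)
  refine h1.trans (Nat.card_le_card_of_injective
    (fun d : D' => (⟨(k : G) * d * (k : G)⁻¹, hmem d d.2, SelfCentEight.mem_cent.2 (by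
      obtain ⟨d₀, -, hd₀⟩ := d.2
      have hc : (d : G) * y = y * d := by rw [← hd₀]; exact SelfCentEight.mem_cent.1 d₀.2.2
      calc (k : G) * d * (k : G)⁻¹ * ((k : G) * y * (k : G)⁻¹) = (k : G) * (d * y) * (k : G)⁻¹ := by group
        _ = _ := by rw [hc]; group)⟩ :
      ↥((P : Subgroup G) ⊓ Subgroup.centralizer ({(k : G) * y * (k : G)⁻¹} : Set G)))) ?_)
  intro a b hab
  have hh := congrArg Subtype.val hab
  exact Subtype.ext (mul_left_cancel (mul_right_cancel hh))

variable [IsSimpleGroup G] [FaithfulSMul G Ω]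

/-- If `P` keeps `F` then it has order nine and exponent three. -/
theorem OddSetting.case_A (h : OddSetting (G := G) F) (P : Sylow 3 G)
    (hPF : ∀ g ∈ (P : Subgroup G), g • F = F) :
    Nat.card P = 9 ∧ ∀ x ∈ (P : Subgroup G), x ^ 3 = 1 := by
  haveI := Fact.mk Nat.prime_three
  set H := MulAction.stabilizer G F with hHdef
  set K := fixingSubgroup G F with hKdef
  have hP := P.isPGroup'
  obtain ⟨ψ, hψ⟩ := h.exists_psi
  have hψconj : ∀ a b : H, ψ (a * b * a⁻¹) = ψ b := fun a b => by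
    rw [map_mul, map_mul, map_inv, mul_comm (ψ a), mul_inv_cancel_right]
  have hPpow : ∀ x ∈ (P : Subgroup G), ∃ i, x ^ (3 ^ i) = 1 := fun x hx => by
    obtain ⟨i, hi⟩ := hP ⟨x, hx⟩
    exact ⟨i, congrArg Subtype.val hi⟩
  have hindex : ¬ 3 ∣ H.index := fun hd =>
    P.not_dvd_index (hd.trans (Subgroup.index_dvd_of_le (show (P : Subgroup G) ≤ H from hPF)))
  have hfixcount : ∀ x : G, ∀ i, x ^ (3 ^ i) = 1 → ¬ 3 ∣ (fixedBy (G ⧸ H) x).ncard := by
    intro x i hx hd
    apply hindex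
    have := three_element_fix_mod (Ω := G ⧸ H) hx
    rw [← Subgroup.index_eq_card] at this
    omega
  have hpow3 : ∀ (x : G) (hxF : x • F = F) (i : ℕ), x ^ (3 ^ i) = 1 → ψ ⟨x, hxF⟩ ^ 3 = 1 := by
    intro x hxF i hx
    rw [← map_pow]
    exact (hψ (⟨x, hxF⟩ ^ 3) i (Subtype.ext (by
      show (x ^ 3) ^ (3 ^ i) = 1
      rw [← pow_mul, mul_comm, pow_mul, hx, one_pow]))).2 (h.cube_mem hxF hx)
  obtain ⟨y₀, hy₀, hy₀F, hy₀K⟩ := h.exists_move
  obtain ⟨k₀, hk₀F, hk₀P, hk₀max⟩ := OddSetting.exists_conj P hPF (i := 1)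
    (by rw [pow_one, ← hy₀, pow_orderOf_eq_one]) hy₀F
  obtain ⟨w, hwP, hwK, hw, hwc⟩ := h.exists_central P hPF
  have hwfix : fixedBy Ω w = F := h.exact (i := 1) (by rw [pow_one, ← hw, pow_orderOf_eq_one])
    (fun h1 => by rw [h1, orderOf_one] at hw; omega) hwK
  set x := k₀ * y₀ * k₀⁻¹ with hxdef
  have hx : orderOf x = 3 := by rw [hxdef, Invol.orderOf_conj, hy₀]
  have hxF : x • F = F := hPF x hk₀P
  have hx31 : x ^ (3 ^ 1) = 1 := by rw [pow_one, ← hx, pow_orderOf_eq_one]
  have hxK : x ∉ K := by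
    intro hc
    apply hy₀K
    refine (mem_fixingSubgroup_iff G).2 fun b hb => ?_
    have hkb : k₀ • b ∈ F := by rw [← hk₀F]; exact Set.smul_mem_smul_set hb
    have := (mem_fixingSubgroup_iff G).1 hc _ hkb
    rw [hxdef, mul_smul, mul_smul, inv_smul_smul] at this
    exact smul_left_cancel k₀ this
  -- some element outside `K` has order three, so `P` has order at least nine
  have h9 : 9 ≤ Nat.card P := by
    obtain ⟨j, hj⟩ := hP.exists_card_eq
    rcases Nat.lt_or_ge j 2 with hj2 | hj2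
    · exfalso
      have hle : Nat.card (Subgroup.zpowers w) = Nat.card (P : Subgroup G) := by
        refine le_antisymm (Subgroup.card_le_of_le (Subgroup.zpowers_le.2 hwP)) ?_
        rw [Nat.card_zpowers, hw, hj]
        calc 3 ^ j ≤ 3 ^ 1 := Nat.pow_le_pow_right (by norm_num) (by omega)
          _ = 3 := pow_one 3
      have heq := Subgroup.eq_of_le_of_card_ge (Subgroup.zpowers_le.2 hwP) hle.ge
      exact hxK ((Subgroup.zpowers_le.2 hwK) (heq ▸ hk₀P))
    · rw [show Nat.card P = Nat.card ↥(P : Subgroup G) from rfl, hj]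
      calc 9 = 3 ^ 2 := rfl
        _ ≤ 3 ^ j := Nat.pow_le_pow_right (by norm_num) hj2
  -- outside `K` every element of `P` has order three
  have hexp : ∀ z ∈ (P : Subgroup G), z ∉ K → z ^ 3 = 1 := by
    intro z hzP hzK
    by_contra hz3
    obtain ⟨i, hi⟩ := hPpow z hzP
    have hzF : z • F = F := hPF z hzP
    have hc3 : (z ^ 3) ^ (3 ^ i) = 1 := by rw [← pow_mul, mul_comm, pow_mul, hi, one_pow]
    have hz3fix : fixedBy Ω (z ^ 3) = F := h.exact hc3 hz3 (h.cube_mem hzF hi)
    have hone := transfer_pow_fixed h.hyp.hna ψ z (ψ ⟨z, hzF⟩) (fun g hg => ?_) (fun g l hl hl1 hper => ?_)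
    · refine hzK ((hψ ⟨z, hzF⟩ i (Subtype.ext hi)).1 ?_)
      have hord : orderOf (ψ ⟨z, hzF⟩) ∣ 3 := orderOf_dvd_of_pow_eq_one (hpow3 z hzF i hi)
      rcases (Nat.dvd_prime Nat.prime_three).1 hord with h1 | h3
      · exact orderOf_eq_one_iff.1 h1
      · exact absurd (h3 ▸ orderOf_dvd_of_pow_eq_one hone) (hfixcount z i hi)
    · have h1 : (g⁻¹ * z * g) ^ 3 = g⁻¹ * z ^ 3 * g := by simp [pow_succ, mul_assoc]
      have hg' : (g⁻¹ * z * g) ^ (3 ^ i) = 1 := by
        have := conj_pow (i := 3 ^ i) (a := g⁻¹) (b := z)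
        rw [inv_inv, hi, mul_one, inv_mul_cancel] at this
        exact this
      have hfix3 : fixedBy Ω (g⁻¹ * z ^ 3 * g⁻¹⁻¹) = F := by
        rw [inv_inv, ← h1]
        refine h.exact (i := i) ?_ ?_ (h.cube_mem hg hg')
        · rw [← pow_mul, mul_comm, pow_mul, hg', one_pow]
        · rw [h1]
          intro hh
          exact hz3 (by simpa [mul_eq_one_iff_eq_inv, mul_assoc] using hh)
      have hgH : g ∈ H := (inv_mem_iff (H := H)).1 (mem_stabilizer_of_fix hz3fix hfix3)
      rw [show (⟨g⁻¹ * z * g, hg⟩ : H) = ⟨g, hgH⟩⁻¹ * ⟨z, hzF⟩ * (⟨g, hgH⟩⁻¹)⁻¹ from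
        Subtype.ext (by simp), hψconj]
    · by_cases hzl : z ^ l = 1
      · rw [show (⟨g⁻¹ * z ^ l * g, hl⟩ : H) = 1 from Subtype.ext (by simp [hzl]), map_one]
      have hy' : (g⁻¹ * z ^ l * g) ^ (3 ^ i) = 1 := by
        have := conj_pow (i := 3 ^ i) (a := g⁻¹) (b := z ^ l)
        rw [inv_inv, ← pow_mul, mul_comm l, pow_mul, hi, one_pow, mul_one, inv_mul_cancel] at this
        exact this
      by_cases hyK : g⁻¹ * z ^ l * g ∈ K
      · exact (hψ ⟨_, hl⟩ i (Subtype.ext hy')).2 hyK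
      exfalso
      have hl3 : 3 ∣ l := by
        have hd : l ∣ 3 ^ i := by
          rw [← hper]
          refine Function.IsPeriodicPt.minimalPeriod_dvd ?_
          show (z • ·)^[3 ^ i] (g : G ⧸ H) = (g : G ⧸ H)
          rw [smul_iterate, hi]
          exact one_smul G _
        obtain ⟨j, hj, rfl⟩ := (Nat.dvd_prime_pow Nat.prime_three).1 hd
        exact dvd_pow_self 3 (fun h0 => hl1 (by rw [h0, pow_zero]))
      obtain ⟨q, rfl⟩ := hl3
      have hzlK : z ^ (3 * q) ∈ K := by rw [pow_mul]; exact pow_mem (h.cube_mem hzF hi) q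
      have hzlfix : fixedBy Ω (z ^ (3 * q)) = F :=
        h.exact (i := i) (by rw [← pow_mul, mul_comm, pow_mul, hi, one_pow]) hzl hzlK
      by_cases hl3' : (z ^ (3 * q)) ^ 3 = 1
      · have hyo : orderOf (g⁻¹ * z ^ (3 * q) * g) = 3 := by
          refine orderOf_eq_prime ?_ ?_
          · have := conj_pow (i := 3) (a := g⁻¹) (b := z ^ (3 * q))
            rw [inv_inv, hl3', mul_one, inv_mul_cancel] at this
            exact this
          · intro hh
            exact hzl (by simpa [mul_eq_one_iff_eq_inv, mul_assoc] using hh)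
        have hyfix : fixedBy Ω (g⁻¹ * z ^ (3 * q) * g) = g⁻¹ • F := by
          rw [← hzlfix, smul_fixedBy, inv_inv]
        have h27 : 27 ≤ Nat.card P := by
          obtain ⟨j, hj⟩ := hP.exists_card_eq
          rcases Nat.lt_or_ge j 3 with hj3 | hj3
          · exfalso
            -- then `P` is cyclic, generated by `z`
            have hzle : Subgroup.zpowers z = (P : Subgroup G) := by
              refine Subgroup.eq_of_le_of_card_ge (Subgroup.zpowers_le.2 hzP) ?_
              obtain ⟨o, -, ho⟩ := (Nat.dvd_prime_pow Nat.prime_three).1 (orderOf_dvd_of_pow_eq_one hi)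
              rw [Nat.card_zpowers, ho, hj]
              refine Nat.pow_le_pow_right (by norm_num) ?_
              by_contra ho2
              push Not at ho2
              refine hz3 (orderOf_dvd_iff_pow_eq_one.1 ?_)
              rw [ho]
              calc 3 ^ o ∣ 3 ^ 1 := pow_dvd_pow 3 (by omega)
                _ = 3 := pow_one 3
            obtain ⟨m, hm⟩ : ∃ m : ℤ, z ^ m = x := by
              have : x ∈ Subgroup.zpowers z := hzle ▸ hk₀P
              exact Subgroup.mem_zpowers_iff.1 this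
            apply hxK
            rw [← hm]
            have hx3 : x ^ 3 = 1 := by rw [← hx, pow_orderOf_eq_one]
            rw [← hm, ← zpow_natCast, ← zpow_mul] at hx3
            by_cases hm3 : (3 : ℤ) ∣ m
            · obtain ⟨c, rfl⟩ := hm3
              rw [zpow_mul]
              exact zpow_mem (by simpa using h.cube_mem hzF hi) c
            · exfalso
              have hd := orderOf_dvd_iff_zpow_eq_one.2 hx3
              obtain ⟨o, -, ho⟩ := (Nat.dvd_prime_pow Nat.prime_three).1 (orderOf_dvd_of_pow_eq_one hi)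
              rw [ho] at hd
              have ho2 : 2 ≤ o := by
                by_contra ho2
                refine hz3 (orderOf_dvd_iff_pow_eq_one.1 ?_)
                rw [ho]
                calc 3 ^ o ∣ 3 ^ 1 := pow_dvd_pow 3 (by omega)
                  _ = 3 := pow_one 3
              have h9d : (9 : ℤ) ∣ m * (3 : ℕ) := by
                refine dvd_trans ?_ hd
                exact_mod_cast (show (9 : ℕ) ∣ 3 ^ o from pow_dvd_pow 3 ho2)
              omega
          · rw [show Nat.card P = Nat.card ↥(P : Subgroup G) from rfl, hj]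
            calc 27 = 3 ^ 3 := rfl
              _ ≤ 3 ^ j := Nat.pow_le_pow_right (by norm_num) hj3
        obtain ⟨o, -, ho⟩ := (Nat.dvd_prime_pow Nat.prime_three).1 (orderOf_dvd_of_pow_eq_one hi)
        have ho2 : 2 ≤ o := by
          by_contra ho2
          refine hz3 (orderOf_dvd_iff_pow_eq_one.1 ?_)
          rw [ho]
          calc 3 ^ o ∣ 3 ^ 1 := pow_dvd_pow 3 (by omega)
            _ = 3 := pow_one 3
        have h2 := (h.fixer_centralizer P hPF h27 hl hyo hyK (by
          rw [hyfix, Set.ncard_smul_set]; rcases h.card with hc | hc <;> omega)).2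
          (g⁻¹ * z ^ (3 ^ (o - 2)) * g⁻¹⁻¹) (by
            rw [inv_inv]
            calc g⁻¹ * z ^ (3 ^ (o - 2)) * g * (g⁻¹ * z ^ (3 * q) * g)
                = g⁻¹ * (z ^ (3 ^ (o - 2)) * z ^ (3 * q)) * g := by group
              _ = g⁻¹ * (z ^ (3 * q) * z ^ (3 ^ (o - 2))) * g := by
                rw [(Commute.pow_pow_self z _ _).eq]
              _ = _ := by group)
        apply h2
        rw [Invol.orderOf_conj, orderOf_pow' z (by positivity), ho,
          Nat.gcd_eq_right (pow_dvd_pow 3 (by omega)), Nat.pow_div (by omega) (by norm_num),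
          show o - (o - 2) = 2 by omega]
      · have hfix3 : fixedBy Ω (g⁻¹ * (z ^ (3 * q)) ^ 3 * g⁻¹⁻¹) = F := by
          rw [← conj_pow, inv_inv]
          refine h.exact (i := i) ?_ ?_ (h.cube_mem hl hy')
          · rw [← pow_mul, mul_comm 3 (3 ^ i), pow_mul, hy', one_pow]
          · intro hh
            have hc := conj_pow (i := 3) (a := g⁻¹) (b := z ^ (3 * q))
            rw [inv_inv, hh] at hc
            refine hl3' ?_
            calc (z ^ (3 * q)) ^ 3 = g * (g⁻¹ * (z ^ (3 * q)) ^ 3 * g) * g⁻¹ := by group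
              _ = 1 := by rw [← hc, mul_one, mul_inv_cancel]
        have hfix' : fixedBy Ω ((z ^ (3 * q)) ^ 3) = F :=
          h.exact (i := i) (by rw [← pow_mul, ← pow_mul, show 3 * q * (3 * 3 ^ i) = 3 ^ i * (3 * q * 3) by ring, pow_mul, hi, one_pow]) hl3' (pow_mem hzlK 3)
        have hgH : g ∈ H := (inv_mem_iff (H := H)).1 (mem_stabilizer_of_fix hfix' hfix3)
        refine hl1 (hper.symm.trans ?_)
        refine Function.minimalPeriod_eq_one_iff_isFixedPt.2 ?_
        show z • (g : G ⧸ H) = g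
        rw [MulAction.Quotient.smul_coe, QuotientGroup.eq]
        show (z * g)⁻¹ * g ∈ H
        exact mul_mem (inv_mem (mul_mem hzF hgH)) hgH
  -- the order is nine
  by_cases h27 : Nat.card P ≤ 9
  · refine ⟨le_antisymm h27 h9, fun z hz => ?_⟩
    by_cases hzK : z ∈ K
    · set T := (P : Subgroup G) ⊓ K
      have hTP : T < (P : Subgroup G) :=
        lt_of_le_of_ne inf_le_left fun heq => hxK (heq ▸ hk₀P : x ∈ T).2
      obtain ⟨j, hj⟩ : ∃ j, Nat.card T = 3 ^ j := (hP.to_le (inf_le_left : T ≤ P)).exists_card_eq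
      have hlt : Nat.card T < 9 := by
        refine lt_of_lt_of_le ?_ (le_of_eq (le_antisymm h27 h9))
        exact lt_of_le_of_ne (Subgroup.card_le_of_le hTP.le) fun heq =>
          hTP.ne (Subgroup.eq_of_le_of_card_ge hTP.le heq.ge)
      have hj1 : j ≤ 1 := by
        by_contra hj1
        have := Nat.pow_le_pow_right (show 3 > 0 by norm_num) (show 2 ≤ j by omega)
        norm_num at this
        omega
      refine orderOf_dvd_iff_pow_eq_one.1 ((Subgroup.orderOf_dvd_natCard T ⟨hz, hzK⟩).trans ?_)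
      rw [hj]
      calc 3 ^ j ∣ 3 ^ 1 := pow_dvd_pow 3 hj1
        _ = 3 := pow_one 3
    · exact hexp z hz hzK
  exfalso
  have h27' : 27 ≤ Nat.card P := by
    obtain ⟨j, hj⟩ := hP.exists_card_eq
    rw [show Nat.card P = Nat.card ↥(P : Subgroup G) from rfl, hj] at h27 ⊢
    have hj3 : 3 ≤ j := by
      by_contra hj3
      have := Nat.pow_le_pow_right (show 3 > 0 by norm_num) (show j ≤ 2 by omega)
      omega
    calc 27 = 3 ^ 3 := rfl
      _ ≤ 3 ^ j := Nat.pow_le_pow_right (by norm_num) hj3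
  -- conjugates of `w` inside the stabiliser fix `F`
  have hwimg : ∀ g : G, (g * w * g⁻¹) • F = F → g • F = F := by
    intro g hgF
    refine mem_stabilizer_of_fix hwfix ?_
    have hgw : orderOf (g * w * g⁻¹) = 3 := by rw [Invol.orderOf_conj, hw]
    by_cases hgK : g * w * g⁻¹ ∈ K
    · exact h.exact (i := 1) (by rw [pow_one, ← hgw, pow_orderOf_eq_one])
        (fun h1 => by rw [h1, orderOf_one] at hgw; omega) hgK
    exfalso
    refine (h.fixer_centralizer P hPF h27' hgF hgw hgK ?_).1 ?_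
    · rw [← smul_fixedBy, hwfix, Set.ncard_smul_set]; rcases h.card with hc | hc <;> omega
    · have h1 : 27 ∣ Nat.card P := by
        obtain ⟨j, hj⟩ := hP.exists_card_eq
        rw [show Nat.card P = Nat.card ↥(P : Subgroup G) from rfl, hj] at h27' ⊢
        refine (pow_dvd_pow 3 (?_ : 3 ≤ j) : 3 ^ 3 ∣ 3 ^ j)
        by_contra hj3
        have := Nat.pow_le_pow_right (show 3 > 0 by norm_num) (show j ≤ 2 by omega)
        omega
      refine h1.trans ?_
      rw [show Nat.card P = Nat.card ↥(P : Subgroup G) from rfl,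
        Nat.card_congr ((P : Subgroup G).equivMapOfInjective (MulAut.conj g).toMonoidHom
          (MulAut.conj g).injective).toEquiv]
      refine Subgroup.card_dvd_of_le ?_
      rintro _ ⟨p, hp, rfl⟩
      refine SelfCentEight.mem_cent.2 ?_
      show g * p * g⁻¹ * (g * w * g⁻¹) = g * w * g⁻¹ * (g * p * g⁻¹)
      calc g * p * g⁻¹ * (g * w * g⁻¹) = g * (p * w) * g⁻¹ := by group
        _ = _ := by rw [hwc p hp]; group
  -- centralisers of well placed elements
  have hsyl : ∀ z ∈ (P : Subgroup G),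
      (∀ L : Subgroup G, IsPGroup 3 L → (∀ a ∈ L, a • F = F ∧ a * z = z * a) →
        Nat.card L ≤ Nat.card ↥((P : Subgroup G) ⊓ Subgroup.centralizer ({z} : Set G))) →
      ∃ R : Sylow 3 (Subgroup.centralizer ({z} : Set G)),
        (R : Subgroup (Subgroup.centralizer ({z} : Set G))).map (Subgroup.centralizer ({z} : Set G)).subtype =
          (P : Subgroup G) ⊓ Subgroup.centralizer ({z} : Set G) := by
    intro z hzP hmax
    set C := Subgroup.centralizer ({z} : Set G)
    set D := (P : Subgroup G) ⊓ C with hDdef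
    have hDC : D ≤ C := inf_le_right
    obtain ⟨R, hR⟩ := (show IsPGroup 3 (D.subgroupOf C) from
      (hP.to_le inf_le_left).of_equiv (Subgroup.subgroupOfEquivOfLe hDC).symm).exists_le_sylow
    refine ⟨R, ?_⟩
    set R' := (R : Subgroup C).map C.subtype with hR'def
    have hDR : D ≤ R' := fun d hd => ⟨⟨d, hDC hd⟩, hR hd, rfl⟩
    have hR'p : IsPGroup 3 R' := R.isPGroup'.map _
    by_contra hne
    have hlt : D.subgroupOf R' < ⊤ := lt_top_iff_ne_top.2 fun htop => hne (le_antisymm (fun r hr => by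
      have : (⟨r, hr⟩ : R') ∈ D.subgroupOf R' := htop ▸ Subgroup.mem_top _
      exact this) hDR)
    haveI := hR'p.isNilpotent
    obtain ⟨n, hn, hnD⟩ := SetLike.exists_of_lt (Group.normalizerCondition_of_isNilpotent _ hlt)
    have hnC : (n : G) * z = z * n := by
      obtain ⟨r, -, hr⟩ := n.2
      rw [← hr]
      exact SelfCentEight.mem_cent.1 r.2
    have hnH : (n : G) • F = F := by
      refine hwimg n (hPF _ ?_)
      have hw' : (⟨w, hDR ⟨hwP, SelfCentEight.mem_cent.2 (hwc z hzP).symm⟩⟩ : R') ∈ D.subgroupOf R' :=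
        ⟨hwP, SelfCentEight.mem_cent.2 (hwc z hzP).symm⟩
      exact ((Subgroup.mem_normalizer_iff.1 hn _).1 hw').1
    set L := D ⊔ Subgroup.zpowers (n : G)
    have hLR : L ≤ R' := sup_le hDR (Subgroup.zpowers_le.2 n.2)
    have hDL : D ≤ L := le_sup_left
    have h1 : Nat.card L ≤ Nat.card D := by
      refine hmax L (hR'p.to_le hLR) fun a ha => ?_
      have hLS : L ≤ MulAction.stabilizer G F ⊓ C :=
        sup_le (fun d hd => ⟨hPF d hd.1, hd.2⟩)
          (Subgroup.zpowers_le.2 ⟨hnH, SelfCentEight.mem_cent.2 hnC⟩)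
      exact ⟨(hLS ha).1, SelfCentEight.mem_cent.1 (hLS ha).2⟩
    exact hnD (show (n : G) ∈ D from
      (Subgroup.eq_of_le_of_card_ge hDL h1).symm ▸ Subgroup.mem_sup_right (Subgroup.mem_zpowers _))
  have hone := transfer_pow_fixed h.hyp.hna ψ x (ψ ⟨x, hxF⟩) (fun g hg => ?_) (fun g l hl hl1 hper => ?_)
  · refine hxK ((hψ ⟨x, hxF⟩ 1 (Subtype.ext hx31)).1 ?_)
    have hord : orderOf (ψ ⟨x, hxF⟩) ∣ 3 := orderOf_dvd_of_pow_eq_one (hpow3 x hxF 1 hx31)
    rcases (Nat.dvd_prime Nat.prime_three).1 hord with h1 | h3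
    · exact orderOf_eq_one_iff.1 h1
    · exact absurd (h3 ▸ orderOf_dvd_of_pow_eq_one hone) (hfixcount x 1 hx31)
  · set x' := g⁻¹ * x * g with hx'def
    have hx' : orderOf x' = 3 := by
      rw [hx'def, show g⁻¹ * x * g = g⁻¹ * x * g⁻¹⁻¹ by rw [inv_inv], Invol.orderOf_conj, hx]
    obtain ⟨k, hkF, hkP, hkmax⟩ := OddSetting.exists_conj P hPF (i := 1)
      (by rw [pow_one, ← hx', pow_orderOf_eq_one] : x' ^ (3 ^ 1) = 1) hg
    set x'' := k * x' * k⁻¹ with hx''def
    set u := k * g⁻¹ with hudef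
    have hux : u * x * u⁻¹ = x'' := by rw [hudef, hx''def, hx'def]; group
    obtain ⟨R, hRD⟩ := hsyl x hk₀P hk₀max
    -- carry the Sylow subgroup of the centraliser of `x` to that of `x''`
    set C'' := Subgroup.centralizer ({x''} : Set G)
    obtain ⟨R', hR'D⟩ : ∃ R : Sylow 3 C'',
        (R : Subgroup C'').map C''.subtype = (P : Subgroup G) ⊓ C'' := hsyl x'' hkP hkmax
    set D := (P : Subgroup G) ⊓ Subgroup.centralizer ({x} : Set G) with hDdef
    set D₁ := D.map (MulAut.conj u).toMonoidHom with hD₁def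
    have hD₁C : D₁ ≤ C'' := by
      rintro _ ⟨d, hd, rfl⟩
      refine SelfCentEight.mem_cent.2 ?_
      show u * d * u⁻¹ * x'' = x'' * (u * d * u⁻¹)
      rw [← hux]
      calc u * d * u⁻¹ * (u * x * u⁻¹) = u * (d * x) * u⁻¹ := by group
        _ = _ := by rw [SelfCentEight.mem_cent.1 hd.2]; group
    obtain ⟨R₁, hR₁⟩ := (show IsPGroup 3 (D₁.subgroupOf C'') from
      ((hP.to_le inf_le_left).map _).of_equiv (Subgroup.subgroupOfEquivOfLe hD₁C).symm).exists_le_sylow
    obtain ⟨c, hc⟩ := MulAction.exists_smul_eq C'' R₁ R'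
    have hcu : ((c : G) * u) • F = F := by
      refine hwimg _ (hPF _ ?_)
      have hwD : u * w * u⁻¹ ∈ D₁ := ⟨w, ⟨hwP, SelfCentEight.mem_cent.2 (hwc x hk₀P).symm⟩, rfl⟩
      have h1 : c * ⟨u * w * u⁻¹, hD₁C hwD⟩ * c⁻¹ ∈ ((c • R₁ : Sylow 3 C'') : Subgroup C'') :=
        ⟨⟨u * w * u⁻¹, hD₁C hwD⟩, hR₁ hwD, rfl⟩
      rw [hc] at h1
      have h2 : (c : G) * (u * w * u⁻¹) * (c : G)⁻¹ ∈
          (R' : Subgroup C'').map C''.subtype := ⟨_, h1, rfl⟩
      rw [(hR'D : (R' : Subgroup C'').map C''.subtype = _)] at h2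
      rw [show (c : G) * u * w * ((c : G) * u)⁻¹ = (c : G) * (u * w * u⁻¹) * (c : G)⁻¹ by group]
      exact h2.1
    have hxx'' : (c : G) * u * x * ((c : G) * u)⁻¹ = x'' := by
      calc (c : G) * u * x * ((c : G) * u)⁻¹ = (c : G) * (u * x * u⁻¹) * (c : G)⁻¹ := by group
        _ = x'' := by rw [hux, SelfCentEight.mem_cent.1 c.2, mul_inv_cancel_right]
    have hx''F : x'' • F = F := hPF _ hkP
    have e1 : ψ ⟨x'', hx''F⟩ = ψ ⟨x', hg⟩ := by
      rw [show (⟨x'', hx''F⟩ : H) = ⟨k, hkF⟩ * ⟨x', hg⟩ * ⟨k, hkF⟩⁻¹ from rfl, hψconj]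
    have e2 : ψ ⟨x'', hx''F⟩ = ψ ⟨x, hxF⟩ := by
      rw [show (⟨x'', hx''F⟩ : H) = ⟨(c : G) * u, hcu⟩ * ⟨x, hxF⟩ * ⟨(c : G) * u, hcu⟩⁻¹ from
        Subtype.ext hxx''.symm, hψconj]
    exact e1.symm.trans e2
  · have hl3 : l = 3 := by
      have hd : l ∣ 3 ^ 1 := by
        rw [← hper]
        refine Function.IsPeriodicPt.minimalPeriod_dvd ?_
        show (x • ·)^[3 ^ 1] (g : G ⧸ H) = (g : G ⧸ H)
        rw [smul_iterate, hx31]
        exact one_smul G _
      rw [pow_one] at hd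
      exact ((Nat.dvd_prime Nat.prime_three).1 hd).resolve_left hl1
    rw [show (⟨g⁻¹ * x ^ l * g, hl⟩ : H) = 1 from Subtype.ext (by
      show g⁻¹ * x ^ l * g = 1
      rw [hl3, ← hx, pow_orderOf_eq_one, mul_one, inv_mul_cancel]), map_one]

end CfsgLib.FixityFour
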