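import Mathlib
import Cfsg.Agent.Lib.Transfer.PGroup

/-!
A simple group has no non-real element of order three whose centraliser has three-part nine
when the Sylow three-subgroup is larger (transfer to the abelianisation of the Sylow subgroup).
-/

set_option autoImplicit false
set_option maxHeartbeats 800000
set_option linter.style.haveILetI false
set_option linter.unusedSectionVars false

open Subgroup
open scoped Pointwise

namespace CfsgLib.FixityFour.OddLemma

/-- The combinatorics of a subset of an elementary abelian group of order nine without opposites. -/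
theorem model_small : ∀ s ∈ (Finset.univ : Finset (Multiplicative (ZMod 3 × ZMod 3))).powerset,
    (∀ x ∈ s, x⁻¹ ∉ s) →
    s.card ≤ 4 ∧ (s.card = 4 → (∏ x ∈ s, x) ∈ s ∨ (∏ x ∈ s, x)⁻¹ ∈ s) ∧
      (s.card = 1 ∨ s.card = 2 ∨ s.card = 4 → ∏ x ∈ s, x ≠ 1) := by
  decide +kernel

theorem pow_three_val_add {E : Type*} [CommGroup E] (hexp : ∀ x : E, x ^ 3 = 1) (a : E) (i j : ZMod 3) :
    a ^ (i + j).val = a ^ i.val * a ^ j.val := by
  rw [← pow_add, ZMod.val_add]
  exact (pow_eq_pow_mod (i.val + j.val) (hexp a)).symm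

theorem small_set {E : Type*} [CommGroup E] [DecidableEq E] (hc : Nat.card E = 9)
    (hexp : ∀ x : E, x ^ 3 = 1) (s : Finset E) (hs : ∀ x ∈ s, x⁻¹ ∉ s) :
    s.card ≤ 4 ∧ (s.card = 4 → (∏ x ∈ s, x) ∈ s ∨ (∏ x ∈ s, x)⁻¹ ∈ s) ∧
      (s.card = 1 ∨ s.card = 2 ∨ s.card = 4 → ∏ x ∈ s, x ≠ 1) := by
  haveI : Finite E := Nat.finite_of_card_ne_zero (by omega)
  haveI : Nontrivial E := Finite.one_lt_card_iff_nontrivial.1 (by omega)
  obtain ⟨a, ha⟩ := exists_ne (1 : E)
  have hoa : orderOf a = 3 := orderOf_eq_prime (hexp a) ha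
  obtain ⟨b, hb⟩ : ∃ b, b ∉ Subgroup.zpowers a := by
    by_contra! h
    have htop : Subgroup.zpowers a = ⊤ := eq_top_iff.2 fun x _ => h x
    have h1 := Nat.card_zpowers a
    rw [htop, Subgroup.card_top, hc, hoa] at h1
    omega
  let f : Multiplicative (ZMod 3 × ZMod 3) →* E :=
    MonoidHom.mk' (fun m => a ^ m.toAdd.1.val * b ^ m.toAdd.2.val) fun m n => by
      simp only [toAdd_mul, Prod.fst_add, Prod.snd_add, pow_three_val_add hexp]
      exact mul_mul_mul_comm _ _ _ _
  have hf : Function.Injective f := by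
    rw [injective_iff_map_eq_one]
    intro m hm
    have hm' : a ^ m.toAdd.1.val * b ^ m.toAdd.2.val = 1 := hm
    have h2 : m.toAdd.2 = 0 := by
      by_contra hne
      apply hb
      have hbj : b ^ m.toAdd.2.val ∈ Subgroup.zpowers a := by
        rw [eq_inv_of_mul_eq_one_right hm']
        exact inv_mem (pow_mem (Subgroup.mem_zpowers a) _)
      have hval : m.toAdd.2.val = 1 ∨ m.toAdd.2.val = 2 := by
        have h3 := ZMod.val_lt m.toAdd.2
        have h0 : m.toAdd.2.val ≠ 0 := fun h => hne ((ZMod.val_eq_zero _).1 h)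
        omega
      rcases hval with h | h
      · rwa [h, pow_one] at hbj
      · have h4 := pow_mem hbj 2
        rw [h, ← pow_mul] at h4
        have h5 : b ^ (2 * 2) = b := by
          rw [pow_succ b 3, hexp, one_mul]
        rwa [h5] at h4
    rw [h2, ZMod.val_zero, pow_zero, mul_one] at hm'
    have h1 : m.toAdd.1 = 0 := by
      have h3 : orderOf a ∣ m.toAdd.1.val := orderOf_dvd_of_pow_eq_one hm'
      rw [hoa] at h3
      have h4 := ZMod.val_lt m.toAdd.1
      refine (ZMod.val_eq_zero _).1 ?_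
      omega
    exact Multiplicative.toAdd.injective (Prod.ext h1 h2)
  have hcard : Nat.card (Multiplicative (ZMod 3 × ZMod 3)) = Nat.card E := by
    rw [hc, Nat.card_eq_fintype_card, Fintype.card_multiplicative, Fintype.card_prod, ZMod.card]
  have hbij : Function.Bijective f := by
    rw [Nat.bijective_iff_injective_and_card]
    exact ⟨hf, hcard⟩
  let g := MulEquiv.ofBijective f hbij
  have hg : ∀ x, g.symm x ∈ s.image g.symm ↔ x ∈ s := fun x => by
    simp
  have hs' : ∀ x ∈ s.image g.symm, x⁻¹ ∉ s.image g.symm := by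
    intro x hx hx'
    obtain ⟨y, hy, rfl⟩ := Finset.mem_image.1 hx
    rw [← map_inv, hg] at hx'
    exact hs y hy hx'
  obtain ⟨h1, h2, h3⟩ := model_small _ (Finset.mem_powerset.2 (Finset.subset_univ _)) hs'
  have hcs : (s.image g.symm).card = s.card := Finset.card_image_of_injective _ g.symm.injective
  have hprod : ∏ x ∈ s.image g.symm, x = g.symm (∏ x ∈ s, x) := by
    rw [Finset.prod_image fun x _ y _ h => g.symm.injective h, map_prod]
  rw [hcs] at h1 h2 h3
  rw [hprod] at h2 h3
  refine ⟨h1, fun h => ?_, fun h h0 => h3 h ?_⟩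
  · have := h2 h
    rwa [← map_inv, hg, hg] at this
  · rw [h0, map_one]

variable {G : Type*} [Group G] [Finite G]

/-- The data attached to a conjugate `u` of `t` inside a three-subgroup `Y`. -/
structure Good (Y : Subgroup G) (u : G) : Prop where
  isP : IsPGroup 3 Y
  mem : u ∈ Y
  noncyc : ¬ IsCyclic Y
  card_cent : Nat.card ↥(Y ⊓ centralizer ({u} : Set G)) = 9
  cent_le : ∀ S : Subgroup G, IsPGroup 3 S → S ≤ centralizer ({u} : Set G) → Nat.card S ≤ 9
  real : ∀ g : G, g * u * g⁻¹ ≠ u⁻¹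

theorem mem_cent_iff {x y : G} : x ∈ centralizer ({y} : Set G) ↔ y * x = x * y := by
  rw [mem_centralizer_singleton_iff]
  exact eq_comm

theorem cent_map (c u : G) : (centralizer ({u} : Set G)).map (MulAut.conj c).toMonoidHom =
    centralizer ({c * u * c⁻¹} : Set G) := by
  ext x
  constructor
  · rintro ⟨y, hy, rfl⟩
    have hy' := mem_cent_iff.1 hy
    rw [mem_cent_iff]
    show c * u * c⁻¹ * (c * y * c⁻¹) = c * y * c⁻¹ * (c * u * c⁻¹)
    calc c * u * c⁻¹ * (c * y * c⁻¹) = c * (u * y) * c⁻¹ := by group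
      _ = c * (y * u) * c⁻¹ := by rw [hy']
      _ = _ := by group
  · intro hx
    have hx' := mem_cent_iff.1 hx
    refine ⟨c⁻¹ * x * c, mem_cent_iff.2 ?_, ?_⟩
    · calc u * (c⁻¹ * x * c) = c⁻¹ * (c * u * c⁻¹ * x) * c := by group
        _ = c⁻¹ * (x * (c * u * c⁻¹)) * c := by rw [hx']
        _ = _ := by group
    · show c * (c⁻¹ * x * c) * c⁻¹ = x
      group

theorem isCyclic_map_iff {H : Subgroup G} (c : G) :
    IsCyclic ↥(H.map (MulAut.conj c).toMonoidHom) ↔ IsCyclic H :=
  (MulEquiv.isCyclic (H.equivMapOfInjective _ (MulAut.conj c).injective)).symm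

theorem card_map_conj (H : Subgroup G) (c : G) :
    Nat.card ↥(H.map (MulAut.conj c).toMonoidHom) = Nat.card H :=
  Subgroup.card_map_of_injective (MulAut.conj c).injective

theorem Good.conj {Y : Subgroup G} {u : G} (h : Good Y u) {c : G} (hc : c ∈ normalizer (Y : Set G)) :
    Good Y (c * u * c⁻¹) where
  isP := h.isP
  mem := (mem_normalizer_iff.1 hc u).1 h.mem
  noncyc := h.noncyc
  card_cent := by
    have hY : Y.map (MulAut.conj c).toMonoidHom = Y := by
      refine eq_of_le_of_card_ge ?_ (card_map_conj Y c).ge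
      rintro _ ⟨y, hy, rfl⟩
      exact (mem_normalizer_iff.1 hc y).1 hy
    rw [← h.card_cent, ← card_map_conj (Y ⊓ centralizer ({u} : Set G)) c,
      Subgroup.map_inf _ _ _ (MulAut.conj c).injective, hY, cent_map]
  cent_le := by
    intro S hS hle
    rw [← card_map_conj S c⁻¹]
    refine h.cent_le _ (hS.map _) ?_
    rw [← cent_map] at hle
    rintro _ ⟨s, hs, rfl⟩
    obtain ⟨y, hy, rfl⟩ := hle hs
    show c⁻¹ * (c * y * c⁻¹) * c⁻¹⁻¹ ∈ _
    simpa [mul_assoc] using hy
  real := fun g hg => h.real (c⁻¹ * g * c) (by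
    calc c⁻¹ * g * c * u * (c⁻¹ * g * c)⁻¹ = c⁻¹ * (g * (c * u * c⁻¹) * g⁻¹) * c := by group
      _ = c⁻¹ * (c * u * c⁻¹)⁻¹ * c := by rw [hg]
      _ = u⁻¹ := by group)

/-- The image of an element in the abelianisation of `Y`. -/
noncomputable def img (Y : Subgroup G) (x : G) : Abelianization Y := by
  classical exact if h : x ∈ Y then Abelianization.of ⟨x, h⟩ else 1

theorem img_of (Y : Subgroup G) {x : G} (h : x ∈ Y) : img Y x = Abelianization.of (⟨x, h⟩ : Y) :=
  dif_pos h

theorem img_inner (Y : Subgroup G) {x y : G} (hx : x ∈ Y) (hy : y ∈ Y) :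
    img Y (y * x * y⁻¹) = img Y x := by
  rw [img_of Y (Y.mul_mem (Y.mul_mem hy hx) (Y.inv_mem hy)), img_of Y hx,
    show (⟨y * x * y⁻¹, _⟩ : Y) = ⟨y, hy⟩ * ⟨x, hx⟩ * ⟨y, hy⟩⁻¹ from rfl, map_mul, map_mul,
    mul_comm (Abelianization.of (⟨y, hy⟩ : Y)), map_inv, mul_inv_cancel_right]

theorem img_inv (Y : Subgroup G) {x : G} (hx : x ∈ Y) : img Y x⁻¹ = (img Y x)⁻¹ := by
  rw [img_of Y (Y.inv_mem hx), img_of Y hx, ← map_inv]
  rfl

/-- Conjugation by a normalising element, on `Y`. -/
def conjIso (Y : Subgroup G) {c : G} (hc : c ∈ normalizer (Y : Set G)) : Y ≃* Y where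
  toFun y := ⟨c * y * c⁻¹, (mem_normalizer_iff.1 hc y).1 y.2⟩
  invFun y := ⟨c⁻¹ * y * c, by
    have := (mem_normalizer_iff.1 ((normalizer (Y : Set G)).inv_mem hc) y).1 y.2
    simpa using this⟩
  left_inv y := Subtype.ext (by simp [mul_assoc])
  right_inv y := Subtype.ext (by simp [mul_assoc])
  map_mul' x y := Subtype.ext (by simp [mul_assoc])

theorem img_conj (Y : Subgroup G) {c : G} (hc : c ∈ normalizer (Y : Set G)) {x : G} (hx : x ∈ Y) :
    (conjIso Y hc).abelianizationCongr (img Y x) = img Y (c * x * c⁻¹) := by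
  rw [img_of Y hx, abelianizationCongr_of, img_of Y ((mem_normalizer_iff.1 hc x).1 hx)]
  rfl

theorem Good.ab {Y : Subgroup G} {u : G} (h : Good Y u) :
    Nat.card (Abelianization Y) = 9 ∧ (∀ x : Abelianization Y, x ^ 3 = 1) ∧
      ∀ v, v ∈ Y → img Y v = img Y u → ∃ y ∈ Y, y * u * y⁻¹ = v := by
  classical
  haveI : Fact (Nat.Prime 3) := ⟨by norm_num⟩
  haveI := h.isP.isNilpotent
  have hsurj : Function.Surjective (Abelianization.of : Y →* Abelianization Y) :=
    QuotientGroup.mk'_surjective (commutator Y)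
  set C : Subgroup Y := (centralizer ({u} : Set G)).subgroupOf Y with hC
  have hCc : Nat.card C = 9 := by
    rw [hC, ← h.card_cent, ← inf_subgroupOf_right, inf_comm]
    exact Nat.card_congr (subgroupOfEquivOfLe inf_le_left).toEquiv
  let u' : Y := ⟨u, h.mem⟩
  have hCu : ∀ y : Y, y ∈ C ↔ y * u' = u' * y := fun y => by
    rw [hC, mem_subgroupOf, mem_cent_iff]
    exact ⟨fun e => Subtype.ext e.symm, fun e => (congrArg Subtype.val e).symm⟩
  have hmem : ∀ y : Y, y * u' * y⁻¹ * u'⁻¹ ∈ commutator Y := fun y => by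
    rw [← commutatorElement_def]
    exact commutator_mem_commutator (Subgroup.mem_top _) (Subgroup.mem_top _)
  let Φ : Y ⧸ C → commutator Y := fun q => ⟨q.out * u' * q.out⁻¹ * u'⁻¹, hmem q.out⟩
  have hΦ : Function.Injective Φ := by
    intro p q hpq
    have h1 : p.out * u' * p.out⁻¹ = q.out * u' * q.out⁻¹ :=
      mul_right_cancel (congrArg Subtype.val hpq)
    rw [← QuotientGroup.out_eq' p, ← QuotientGroup.out_eq' q, QuotientGroup.eq, hCu]
    calc p.out⁻¹ * q.out * u' = p.out⁻¹ * (q.out * u' * q.out⁻¹) * q.out := by group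
      _ = p.out⁻¹ * (p.out * u' * p.out⁻¹) * q.out := by rw [h1]
      _ = u' * (p.out⁻¹ * q.out) := by group
  have hle : C.index ≤ Nat.card (commutator Y) := Nat.card_le_card_of_injective Φ hΦ
  have hYC : Nat.card Y = C.index * 9 := by rw [← hCc]; exact C.index_mul_card.symm
  have hYA : Nat.card Y = Nat.card (Abelianization Y) * Nat.card (commutator Y) :=
    card_eq_card_quotient_mul_card_subgroup (commutator Y)
  have hpos : 0 < Nat.card (commutator Y) := Nat.card_pos
  have hA9 : Nat.card (Abelianization Y) ≤ 9 := by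
    refine Nat.le_of_mul_le_mul_right ?_ hpos
    calc Nat.card (Abelianization Y) * Nat.card (commutator Y) = C.index * 9 := hYA.symm.trans hYC
      _ ≤ Nat.card (commutator Y) * 9 := Nat.mul_le_mul_right _ hle
      _ = _ := mul_comm _ _
  have hAnc : ¬ IsCyclic (Abelianization Y) := by
    intro hcy
    obtain ⟨q, hq⟩ := hcy.exists_generator
    obtain ⟨g, rfl⟩ := hsurj q
    refine h.noncyc ⟨⟨g, fun y => ?_⟩⟩
    have htop : Subgroup.zpowers g ⊔ commutator Y = ⊤ := by
      refine eq_top_iff.2 fun x _ => ?_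
      obtain ⟨k, hk⟩ := mem_zpowers_iff.1 (hq (Abelianization.of x))
      have hx : (g ^ k)⁻¹ * x ∈ commutator Y := by
        rw [← Abelianization.ker_of, MonoidHom.mem_ker, map_mul, map_inv, map_zpow, hk,
          inv_mul_cancel]
      have := mul_mem_sup (zpow_mem (mem_zpowers g) k) hx
      rwa [mul_inv_cancel_left] at this
    show y ∈ Subgroup.zpowers g
    rw [CfsgLib.Transfer.eq_top_of_sup_commutator htop]
    exact Subgroup.mem_top _
  have hA : Nat.card (Abelianization Y) = 9 := by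
    obtain ⟨k, hk⟩ := IsPGroup.iff_card.1
      (h.isP.of_surjective Abelianization.of hsurj)
    rcases k with _ | _ | _ | k
    · rw [pow_zero] at hk
      haveI := (Nat.card_eq_one_iff_unique.1 hk).1
      exact (hAnc isCyclic_of_subsingleton).elim
    · exact absurd (isCyclic_of_prime_card (p := 3) (by simpa using hk)) hAnc
    · simpa using hk
    · rw [hk] at hA9
      have h27 : 27 ≤ 3 ^ (k + 1 + 1 + 1) := by
        rw [pow_succ, pow_succ, pow_succ]
        have := Nat.one_le_pow k 3 (by norm_num)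
        omega
      omega
  refine ⟨hA, fun x => ?_, fun v hv hvu => ?_⟩
  · have := (not_isCyclic_iff_exponent_eq_prime (by norm_num : Nat.Prime 3) (by rw [hA]; norm_num)).1 hAnc
    rw [← this]
    exact Monoid.pow_exponent_eq_one x
  · have hbij : Function.Bijective Φ := by
      rw [Nat.bijective_iff_injective_and_card]
      refine ⟨hΦ, ?_⟩
      rw [← index_eq_card]
      rw [hA, hYC] at hYA
      omega
    have hcv : (⟨v, hv⟩ : Y) * u'⁻¹ ∈ commutator Y := by
      rw [← Abelianization.ker_of, MonoidHom.mem_ker, map_mul, map_inv,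
        show Abelianization.of (⟨v, hv⟩ : Y) = Abelianization.of u' from
          (img_of Y hv).symm.trans (hvu.trans (img_of Y h.mem)), mul_inv_cancel]
    obtain ⟨q, hq⟩ := hbij.2 ⟨_, hcv⟩
    exact ⟨(q.out : G), q.out.2, congrArg Subtype.val (mul_right_cancel (congrArg Subtype.val hq))⟩

/-- The images of the `S`-conjugates of `u`. -/
noncomputable def orb (S Y : Subgroup G) (u : G) : Finset (Abelianization Y) := by
  classical
  exact (Set.toFinite (Set.range fun c : S => img Y ((c : G) * u * (c : G)⁻¹))).toFinset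

theorem mem_orb {S Y : Subgroup G} {u : G} {a : Abelianization Y} :
    a ∈ orb S Y u ↔ ∃ c ∈ S, img Y (c * u * c⁻¹) = a := by
  simp [orb]

theorem Good.no_opposite {Y : Subgroup G} {u : G} (h : Good Y u) {S : Subgroup G}
    (hS : S ≤ normalizer (Y : Set G)) : ∀ a ∈ orb S Y u, a⁻¹ ∉ orb S Y u := by
  intro a ha ha'
  obtain ⟨c, hc, rfl⟩ := mem_orb.1 ha
  obtain ⟨d, hd, hd'⟩ := mem_orb.1 ha'
  have hm := (mem_normalizer_iff.1 (hS hd) u).1 h.mem
  obtain ⟨y, -, hy⟩ := (h.conj (hS hc)).ab.2.2 _ (Y.inv_mem hm)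
    (by rw [img_inv Y hm, hd', inv_inv])
  refine h.real (d⁻¹ * y * c) ?_
  calc d⁻¹ * y * c * u * (d⁻¹ * y * c)⁻¹ = d⁻¹ * (y * (c * u * c⁻¹) * y⁻¹) * d := by group
    _ = d⁻¹ * (d * u * d⁻¹)⁻¹ * d := by rw [hy]
    _ = u⁻¹ := by group

theorem Good.card_orb_le {Y : Subgroup G} {u : G} (h : Good Y u) {S : Subgroup G}
    (hS : S ≤ normalizer (Y : Set G)) : (orb S Y u).card ≤ 4 := by
  classical
  exact (small_set h.ab.1 h.ab.2.1 _ (h.no_opposite hS)).1

theorem Good.eq_of_pGroup {Y : Subgroup G} {u : G} (h : Good Y u) {S : Subgroup G}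
    (hS : IsPGroup 3 S) (hYS : Y ≤ S) (hSn : S ≤ normalizer (Y : Set G)) :
    Y.relIndex S = (orb S Y u).card := by
  classical
  have hfix : ∀ p ∈ S, ∀ q ∈ S,
      img Y (p * u * p⁻¹) = img Y (q * u * q⁻¹) ↔ p⁻¹ * q ∈ Y := by
    intro p hp q hq
    constructor
    · intro he
      obtain ⟨y, hy, hyq⟩ := (h.conj (hSn hp)).ab.2.2 _
        ((mem_normalizer_iff.1 (hSn hq) u).1 h.mem) he.symm
      have hw : q⁻¹ * y * p ∈ S ⊓ centralizer ({u} : Set G) := by
        refine ⟨S.mul_mem (S.mul_mem (S.inv_mem hq) (hYS hy)) hp, mem_cent_iff.2 ?_⟩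
        calc u * (q⁻¹ * y * p) = q⁻¹ * (q * u * q⁻¹) * (y * p) := by group
          _ = q⁻¹ * (y * (p * u * p⁻¹) * y⁻¹) * (y * p) := by rw [hyq]
          _ = _ := by group
      have hYC : Y ⊓ centralizer ({u} : Set G) = S ⊓ centralizer ({u} : Set G) := by
        refine eq_of_le_of_card_ge (inf_le_inf_right _ hYS) ?_
        rw [h.card_cent]
        exact h.cent_le _ (hS.to_le inf_le_left) inf_le_right
      have hw' : q⁻¹ * y * p ∈ Y := (hYC.ge hw).1
      have hpy : p⁻¹ * y * p ∈ Y := by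
        have := (mem_normalizer_iff.1 ((normalizer (Y : Set G)).inv_mem (hSn hp)) y).1 hy
        simpa using this
      have := Y.mul_mem hpy (Y.inv_mem hw')
      simpa [mul_assoc] using this
    · intro hy
      rw [show q * u * q⁻¹ = (p * (p⁻¹ * q) * p⁻¹) * (p * u * p⁻¹) * (p * (p⁻¹ * q) * p⁻¹)⁻¹ by group]
      exact (img_inner Y ((mem_normalizer_iff.1 (hSn hp) u).1 h.mem)
        ((mem_normalizer_iff.1 (hSn hp) _).1 hy)).symm
  let f : S ⧸ Y.subgroupOf S → orb S Y u := fun q =>
    ⟨img Y ((q.out : G) * u * (q.out : G)⁻¹), mem_orb.2 ⟨_, q.out.2, rfl⟩⟩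
  have hf : Function.Bijective f := by
    refine ⟨fun a b hab => ?_, fun ⟨a, ha⟩ => ?_⟩
    · rw [← QuotientGroup.out_eq' a, ← QuotientGroup.out_eq' b, QuotientGroup.eq, mem_subgroupOf]
      exact (hfix _ a.out.2 _ b.out.2).1 (congrArg Subtype.val hab)
    · obtain ⟨c, hc, rfl⟩ := mem_orb.1 ha
      refine ⟨QuotientGroup.mk ⟨c, hc⟩, Subtype.ext ((hfix _ (QuotientGroup.mk (s := Y.subgroupOf S)
        (⟨c, hc⟩ : S)).out.2 _ hc).2 ?_)⟩
      have := QuotientGroup.eq.1 (QuotientGroup.out_eq' (QuotientGroup.mk (s := Y.subgroupOf S) (⟨c, hc⟩ : S)))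
      exact mem_subgroupOf.1 this
  rw [relIndex, index_eq_card, Nat.card_eq_of_bijective f hf, Nat.card_eq_fintype_card,
    Fintype.card_coe]

theorem Good.relIndex_eq_three {Y : Subgroup G} {u : G} (h : Good Y u) {S : Subgroup G}
    (hS : IsPGroup 3 S) (hYS : Y < S) (hSn : S ≤ normalizer (Y : Set G)) :
    Y.relIndex S = 3 := by
  haveI : Fact (Nat.Prime 3) := ⟨by norm_num⟩
  have h4 := h.card_orb_le hSn
  rw [← h.eq_of_pGroup hS hYS.le hSn] at h4
  obtain ⟨k, hk⟩ := hS.index (Y.subgroupOf S)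
  rw [← relIndex] at hk
  rcases k with _ | _ | k
  · rw [pow_zero] at hk
    exact absurd (relIndex_eq_one.1 hk) (not_le_of_gt hYS)
  · simpa using hk
  · rw [hk] at h4
    have h9 : 9 ≤ 3 ^ (k + 1 + 1) := by
      rw [pow_succ, pow_succ]
      have := Nat.one_le_pow k 3 (by norm_num)
      omega
    omega

theorem Good.card_eq_three_mul {Y : Subgroup G} {u : G} (h : Good Y u) {S : Subgroup G}
    (hS : IsPGroup 3 S) (hYS : Y < S) (hSn : S ≤ normalizer (Y : Set G)) :
    Nat.card S = 3 * Nat.card Y := by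
  rw [← h.relIndex_eq_three hS hYS hSn, relIndex,
    ← Nat.card_congr (subgroupOfEquivOfLe hYS.le).toEquiv, index_mul_card]

/-- Conjugates under the normalizer are conjugates under a larger three-subgroup normalising. -/
theorem Good.control {Y : Subgroup G} {u : G} (h : Good Y u) {S : Subgroup G}
    (hS : IsPGroup 3 S) (hYS : Y < S) (hSn : S ≤ normalizer (Y : Set G))
    {c : G} (hc : c ∈ normalizer (Y : Set G)) : ∃ p ∈ S, p * u * p⁻¹ = c * u * c⁻¹ := by
  classical
  set N := normalizer (Y : Set G)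
  have hsub : orb S Y u ⊆ orb N Y u := fun a ha => by
    obtain ⟨d, hd, rfl⟩ := mem_orb.1 ha
    exact mem_orb.2 ⟨d, hSn hd, rfl⟩
  have h3 : (orb S Y u).card = 3 := by
    rw [← h.eq_of_pGroup hS hYS.le hSn, h.relIndex_eq_three hS hYS hSn]
  obtain ⟨hle, hfour, -⟩ := small_set h.ab.1 h.ab.2.1 _ (h.no_opposite (S := N) le_rfl)
  have hne : (orb N Y u).card ≠ 4 := by
    intro h4
    set σ := ∏ x ∈ orb N Y u, x
    have hfixed : ∀ (d : G) (hd : d ∈ N), (conjIso Y hd).abelianizationCongr σ = σ := by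
      intro d hd
      have himg : (orb N Y u).image (conjIso Y hd).abelianizationCongr = orb N Y u := by
        refine Finset.eq_of_subset_of_card_le (fun a ha => ?_)
          (Finset.card_image_of_injective _ (MulEquiv.injective _)).ge
        obtain ⟨b, hb, rfl⟩ := Finset.mem_image.1 ha
        obtain ⟨e, he, rfl⟩ := mem_orb.1 hb
        rw [img_conj Y hd ((mem_normalizer_iff.1 he u).1 h.mem)]
        exact mem_orb.2 ⟨d * e, N.mul_mem hd he, by group⟩
      rw [map_prod]
      conv_rhs => rw [show σ = ∏ x ∈ orb N Y u, x from rfl, ← himg,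
        Finset.prod_image fun x _ y _ e => (MulEquiv.injective _) e]
    have hsingle : ∀ a ∈ orb N Y u, (∀ (d : G) (hd : d ∈ N), (conjIso Y hd).abelianizationCongr a = a) →
        orb N Y u ⊆ {a} := by
      intro a ha hfix b hb
      obtain ⟨d, hd, rfl⟩ := mem_orb.1 ha
      obtain ⟨e, he, rfl⟩ := mem_orb.1 hb
      rw [Finset.mem_singleton]
      have := hfix (e * d⁻¹) (N.mul_mem he (N.inv_mem hd))
      rw [img_conj Y _ ((mem_normalizer_iff.1 hd u).1 h.mem)] at this
      rw [← this]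
      congr 1
      group
    rcases hfour h4 with hin | hin
    · have := Finset.card_le_card (hsingle σ hin hfixed)
      rw [h4, Finset.card_singleton] at this
      omega
    · have := Finset.card_le_card (hsingle σ⁻¹ hin fun d hd => by rw [map_inv, hfixed d hd])
      rw [h4, Finset.card_singleton] at this
      omega
  have heq : orb S Y u = orb N Y u := by
    refine Finset.eq_of_subset_of_card_le hsub ?_
    omega
  have hmemN : img Y (c * u * c⁻¹) ∈ orb S Y u := heq ▸ mem_orb.2 ⟨c, hc, rfl⟩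
  obtain ⟨p, hp, hpc⟩ := mem_orb.1 hmemN
  obtain ⟨y, hy, hyc⟩ := (h.conj (hSn hp)).ab.2.2 _ ((mem_normalizer_iff.1 hc u).1 h.mem) hpc.symm
  refine ⟨y * p, S.mul_mem (hYS.le hy) hp, ?_⟩
  rw [← hyc]
  group

section Main

variable (P : Sylow 3 G) (t : G)

theorem exists_normalizer_conj [Fact (Nat.Prime 3)]
    (hgood : ∀ X : Subgroup G, X ≤ (P : Subgroup G) → ∀ u g : G, g * t * g⁻¹ = u →
      ((P : Subgroup G) ⊓ centralizer ({u} : Set G)) ≤ X → u ∈ (P : Subgroup G) → Good X u)
    (htP : t ∈ (P : Subgroup G)) : ∀ (k : ℕ) (X Y : Subgroup G) (g u : G),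
      Nat.card (P : Subgroup G) - Nat.card X ≤ k →
      (P : Subgroup G) ⊓ centralizer ({t} : Set G) ≤ X → X ≤ (P : Subgroup G) → Y ≤ (P : Subgroup G) →
      X.map (MulAut.conj g).toMonoidHom = Y → g * t * g⁻¹ = u →
      ∃ n ∈ normalizer ((P : Subgroup G) : Set G), n * t * n⁻¹ = u := by
  intro k
  induction k using Nat.strong_induction_on with
  | _ k ih =>
  intro X Y g u hk hRX hXP hYP hXY hgu
  by_cases hXeq : X = (P : Subgroup G)
  · subst hXeq
    have hY : Y = (P : Subgroup G) := eq_of_le_of_card_ge hYP (by rw [← hXY, card_map_conj])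
    refine ⟨g, ?_, hgu⟩
    rw [mem_normalizer_iff]
    intro x
    constructor
    · intro hx
      rw [← hY, ← hXY]
      exact ⟨x, hx, rfl⟩
    · intro hx
      rw [← hY, ← hXY] at hx
      obtain ⟨y, hy, hyx⟩ := hx
      have : y = x := (MulAut.conj g).injective hyx
      exact this ▸ hy
  have htX : t ∈ X := hRX ⟨htP, mem_cent_iff.2 rfl⟩
  have huY : u ∈ Y := hXY ▸ ⟨t, htX, hgu⟩
  have hXgood : Good X t := hgood X hXP t 1 (by group) hRX htP
  have huP : u ∈ (P : Subgroup G) := hYP huY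
  have hPgood : Good (P : Subgroup G) u := hgood _ le_rfl u g hgu inf_le_left huP
  have hRY : (P : Subgroup G) ⊓ centralizer ({u} : Set G) ≤ Y := by
    have hmap : (((P : Subgroup G) ⊓ centralizer ({t} : Set G)).map (MulAut.conj g).toMonoidHom) ≤
        (P : Subgroup G) ⊓ centralizer ({u} : Set G) := by
      refine le_inf ((map_mono hRX).trans (hXY.le.trans hYP)) ?_
      rw [← hgu, ← cent_map]
      exact map_mono inf_le_right
    have hPt : Good (P : Subgroup G) t := hgood _ le_rfl t 1 (by group) inf_le_left htP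
    rw [← eq_of_le_of_card_ge hmap (by rw [card_map_conj, hPgood.card_cent, hPt.card_cent]),
      ← hXY]
    exact map_mono hRX
  have hYgood : Good Y u := hgood Y hYP u g hgu hRY huP
  have hgrow : ∀ Z : Subgroup G, Z ≤ (P : Subgroup G) → Z ≠ (P : Subgroup G) →
      Z < normalizer (Z : Set G) ⊓ (P : Subgroup G) := by
    intro Z hZP hne
    haveI : Group.IsNilpotent ↥(P : Subgroup G) := P.isPGroup'.isNilpotent
    refine lt_of_le_of_ne (le_inf le_normalizer hZP) fun h => ?_
    have hlt : Z.subgroupOf (P : Subgroup G) < ⊤ := by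
      refine lt_top_iff_ne_top.2 fun e => hne (le_antisymm hZP (subgroupOf_eq_top.1 e))
    have h2 := Group.normalizerCondition_of_isNilpotent (Z.subgroupOf (P : Subgroup G)) hlt
    refine h2.not_ge fun x hx => ?_
    rw [mem_subgroupOf, h]
    refine ⟨mem_normalizer_iff.2 fun z => ?_, x.2⟩
    constructor
    · intro hz
      exact mem_subgroupOf.1 ((mem_normalizer_iff.1 hx ⟨z, hZP hz⟩).1 (mem_subgroupOf.2 hz))
    · intro hz
      have hzP : z ∈ (P : Subgroup G) := by
        have := (P : Subgroup G).mul_mem ((P : Subgroup G).mul_mem ((P : Subgroup G).inv_mem x.2)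
          (hZP hz)) x.2
        simpa [mul_assoc] using this
      exact mem_subgroupOf.1 ((mem_normalizer_iff.1 hx ⟨z, hzP⟩).2 (mem_subgroupOf.2 hz))
  set NX := normalizer (X : Set G) ⊓ (P : Subgroup G) with hNX
  set NY := normalizer (Y : Set G) ⊓ (P : Subgroup G) with hNY
  have hXlt : X < NX := hgrow X hXP hXeq
  have hYne : Y ≠ (P : Subgroup G) := by
    intro h
    exact hXeq (eq_of_le_of_card_ge hXP (by rw [← h, ← hXY, card_map_conj]))
  have hYlt : Y < NY := hgrow Y hYP hYne
  set M := NX.map (MulAut.conj g).toMonoidHom with hM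
  have hMp : IsPGroup 3 M := (P.isPGroup'.to_le inf_le_right).map _
  have hNYp : IsPGroup 3 NY := P.isPGroup'.to_le inf_le_right
  have hYM : Y < M := hXY ▸ (Subgroup.map_lt_map_iff_of_injective (MulAut.conj g).injective).2 hXlt
  have hMn : M ≤ normalizer (Y : Set G) := by
    rw [← hXY]
    exact (map_mono inf_le_left).trans (le_normalizer_map _)
  -- both are Sylow subgroups of the normalizer
  have hsyl : ∀ L : Subgroup G, IsPGroup 3 L → Y < L → (hL : L ≤ normalizer (Y : Set G)) →
      ∃ T : Sylow 3 ↥(normalizer (Y : Set G)),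
        (T : Subgroup ↥(normalizer (Y : Set G))).map (normalizer (Y : Set G)).subtype = L := by
    intro L hL hYL hLn
    obtain ⟨T, hT⟩ := (hL.comap_subtype (K := normalizer (Y : Set G))).exists_le_sylow
    refine ⟨T, ?_⟩
    have hle : L ≤ (T : Subgroup ↥(normalizer (Y : Set G))).map (normalizer (Y : Set G)).subtype := by
      intro x hx
      exact ⟨⟨x, hLn hx⟩, hT hx, rfl⟩
    refine (eq_of_le_of_card_ge hle ?_).symm
    rw [hYgood.card_eq_three_mul hL hYL hLn, hYgood.card_eq_three_mul (T.isPGroup'.map _)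
      (hYL.trans_le hle) (map_subtype_le _)]
  obtain ⟨T₁, hT₁⟩ := hsyl M hMp hYM hMn
  obtain ⟨T₂, hT₂⟩ := hsyl NY hNYp hYlt inf_le_left
  obtain ⟨c, hc⟩ := MulAction.exists_smul_eq ↥(normalizer (Y : Set G)) T₁ T₂
  have hMc : M.map (MulAut.conj (c : G)).toMonoidHom = NY := by
    rw [← hT₂, ← hc, ← hT₁, Sylow.coe_subgroup_smul, Subgroup.map_map]
    ext x
    simp only [Subgroup.mem_map, Subgroup.mem_smul_pointwise_iff_exists]
    constructor
    · rintro ⟨y, hy, rfl⟩
      exact ⟨MulAut.conj c • y, ⟨y, hy, rfl⟩, rfl⟩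
    · rintro ⟨_, ⟨y, hy, rfl⟩, rfl⟩
      exact ⟨y, hy, rfl⟩
  obtain ⟨p, hp, hpu⟩ := hYgood.control hNYp hYlt inf_le_left c.2
  have hlt : Nat.card X < Nat.card NX := by
    by_contra! hle
    exact hXlt.ne (eq_of_le_of_card_ge hXlt.le hle)
  have hNXle : Nat.card NX ≤ Nat.card (P : Subgroup G) := Subgroup.card_le_of_le inf_le_right
  refine ih (Nat.card (P : Subgroup G) - Nat.card NX) (by omega) NX NY (p⁻¹ * c * g) u le_rfl
    (hRX.trans hXlt.le) inf_le_right inf_le_right ?_ ?_
  · have hpN : NY.map (MulAut.conj p⁻¹).toMonoidHom = NY := by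
      refine eq_of_le_of_card_ge ?_ (card_map_conj _ _).ge
      rintro _ ⟨y, hy, rfl⟩
      exact NY.mul_mem (NY.mul_mem (NY.inv_mem hp) hy) (NY.inv_mem (NY.inv_mem hp))
    calc NX.map (MulAut.conj (p⁻¹ * (c : G) * g)).toMonoidHom
        = (M.map (MulAut.conj (c : G)).toMonoidHom).map (MulAut.conj p⁻¹).toMonoidHom := by
          rw [hM, Subgroup.map_map, Subgroup.map_map]
          congr 1
          ext x
          simp [MulAut.conj_apply, mul_assoc]
      _ = NY := by rw [hMc, hpN]
  · calc p⁻¹ * c * g * t * (p⁻¹ * c * g)⁻¹ = p⁻¹ * (c * (g * t * g⁻¹) * (c : G)⁻¹) * p := by group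
      _ = p⁻¹ * (p * u * p⁻¹) * p := by rw [hgu, hpu]
      _ = u := by group

end Main

end OddLemma

open OddLemma MulAction in
/-- A non-real element of order three whose centraliser has three-part nine does not exist in a
simple group with a larger Sylow three-subgroup. -/
theorem false_of_small_centralizer {G : Type*} [Group G] [Finite G] [IsSimpleGroup G]
    (hna : ¬ IsMulCommutative G) (P : Sylow 3 G) (t : G) (htP : t ∈ (P : Subgroup G))
    (ht : orderOf t = 3)
    (hCP : Nat.card ↥((P : Subgroup G) ⊓ Subgroup.centralizer ({t} : Set G)) = 9)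
    (hCG : ¬ 27 ∣ Nat.card (Subgroup.centralizer ({t} : Set G))) (h27 : 27 ≤ Nat.card P)
    (hreal : ∀ g : G, g * t * g⁻¹ ≠ t⁻¹) : False := by
  classical
  haveI : Fact (Nat.Prime 3) := ⟨by norm_num⟩
  have hcle : ∀ u g : G, g * t * g⁻¹ = u → ∀ S : Subgroup G, IsPGroup 3 S →
      S ≤ centralizer ({u} : Set G) → Nat.card S ≤ 9 := by
    intro u g hgu S hS hle
    rw [← hgu, ← cent_map] at hle
    have hd : Nat.card S ∣ Nat.card (centralizer ({t} : Set G)) := by
      rw [← card_map_conj (centralizer ({t} : Set G)) g]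
      exact card_dvd_of_le hle
    obtain ⟨k, hk⟩ := IsPGroup.iff_card.1 hS
    rw [hk] at hd ⊢
    have hk2 : k ≤ 2 := by
      by_contra! h3
      exact hCG ((pow_dvd_pow 3 h3).trans hd)
    exact (Nat.pow_le_pow_right (by norm_num) hk2).trans (by norm_num)
  have hcent : ∀ u g : G, g * t * g⁻¹ = u → u ∈ (P : Subgroup G) →
      Nat.card ↥((P : Subgroup G) ⊓ centralizer ({u} : Set G)) = 9 ∧
        ¬ IsCyclic ↥((P : Subgroup G) ⊓ centralizer ({u} : Set G)) := by
    intro u g hgu hu
    set R := (P : Subgroup G) ⊓ centralizer ({u} : Set G) with hR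
    have hRp : IsPGroup 3 R := P.isPGroup'.to_le inf_le_left
    have hle : Nat.card R ≤ 9 := hcle u g hgu R hRp inf_le_right
    have hou : orderOf u = 3 := by
      rw [← hgu]
      exact (orderOf_injective (MulAut.conj g).toMonoidHom (MulAut.conj g).injective t).trans ht
    haveI : Nontrivial ↥(P : Subgroup G) := Finite.one_lt_card_iff_nontrivial.1 (by omega)
    haveI := P.isPGroup'.center_nontrivial
    obtain ⟨z, hz⟩ := exists_prime_orderOf_dvd_card' 3
      (show 3 ∣ Nat.card (center ↥(P : Subgroup G)) by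
        obtain ⟨k, hk, hk'⟩ := (P.isPGroup'.to_subgroup (center ↥(P : Subgroup G))).nontrivial_iff_card.1 inferInstance
        rw [hk']
        exact dvd_pow_self 3 hk.ne')
    let z' : G := ((z : ↥(P : Subgroup G)) : G)
    have hoz : orderOf z' = 3 := by
      show orderOf ((z : ↥(P : Subgroup G)) : G) = 3
      rw [Subgroup.orderOf_coe, Subgroup.orderOf_coe, hz]
    have hzc : ∀ x ∈ (P : Subgroup G), x * z' = z' * x := fun x hx =>
      congrArg Subtype.val (mem_center_iff.1 z.2 ⟨x, hx⟩)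
    have hzR : z' ∈ R := ⟨(z : ↥(P : Subgroup G)).2, mem_cent_iff.2 (hzc u hu)⟩
    have huR : u ∈ R := ⟨hu, mem_cent_iff.2 rfl⟩
    have hne : zpowers u ≠ zpowers z' := by
      intro he
      have huc : ∀ x ∈ (P : Subgroup G), u * x = x * u := by
        intro x hx
        obtain ⟨i, hi⟩ := mem_zpowers_iff.1 (he ▸ mem_zpowers u : u ∈ zpowers z')
        rw [← hi]
        exact ((show Commute x z' from hzc x hx).zpow_right i).eq.symm
      have := hcle u g hgu (P : Subgroup G) P.isPGroup' fun x hx => mem_cent_iff.2 (huc x hx)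
      omega
    have hnc : ¬ IsCyclic R := by
      intro hcy
      haveI : Fintype R := Fintype.ofFinite R
      refine hne ?_
      haveI := hcy
      have h3 := IsCyclic.card_pow_eq_one_le (α := R) (n := 3) (by norm_num)
      have hsub : ∀ w : R, orderOf (w : G) = 3 →
          (Finset.univ.filter fun a : R => a ^ 3 = 1) = (Finset.univ.filter fun a : R => (a : G) ∈ zpowers (w : G)) := by
        intro w hw
        refine (Finset.eq_of_subset_of_card_le (fun a ha => ?_) ?_).symm
        · rw [Finset.mem_filter] at ha ⊢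
          refine ⟨Finset.mem_univ _, Subtype.ext ?_⟩
          rw [SubmonoidClass.coe_pow, OneMemClass.coe_one]
          obtain ⟨i, hi⟩ := mem_zpowers_iff.1 ha.2
          rw [← hi, ← zpow_natCast, ← zpow_mul, mul_comm, zpow_mul, zpow_natCast, ← hw, pow_orderOf_eq_one, one_zpow]
        · refine h3.trans ?_
          have hc : Nat.card {a : R // (a : G) ∈ zpowers (w : G)} = 3 := by
            rw [← hw, ← Nat.card_zpowers]
            exact Nat.card_congr ⟨fun a => ⟨a.1, a.2⟩,
              fun a => ⟨⟨a.1, (zpowers_le.2 w.2) a.2⟩, a.2⟩, fun a => rfl, fun a => rfl⟩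
          rw [Nat.card_eq_fintype_card, Fintype.card_subtype] at hc
          exact hc.ge
      have he := (hsub ⟨u, huR⟩ hou).symm.trans (hsub ⟨z', hzR⟩ hoz)
      refine le_antisymm (zpowers_le.2 ?_) (zpowers_le.2 ?_)
      · have : (⟨u, huR⟩ : R) ∈ Finset.univ.filter fun a : R => (a : G) ∈ zpowers z' := by
          rw [← he, Finset.mem_filter]
          exact ⟨Finset.mem_univ _, mem_zpowers u⟩
        exact (Finset.mem_filter.1 this).2
      · have : (⟨z', hzR⟩ : R) ∈ Finset.univ.filter fun a : R => (a : G) ∈ zpowers u := by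
          rw [he, Finset.mem_filter]
          exact ⟨Finset.mem_univ _, mem_zpowers z'⟩
        exact (Finset.mem_filter.1 this).2
    refine ⟨?_, hnc⟩
    obtain ⟨k, hk⟩ := IsPGroup.iff_card.1 hRp
    rcases k with _ | _ | _ | k
    · rw [pow_zero] at hk
      haveI := (Nat.card_eq_one_iff_unique.1 hk).1
      exact (hnc isCyclic_of_subsingleton).elim
    · exact absurd (isCyclic_of_prime_card (p := 3) (by simpa using hk)) hnc
    · simpa using hk
    · rw [hk] at hle
      have h9 : 27 ≤ 3 ^ (k + 1 + 1 + 1) := by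
        rw [pow_succ, pow_succ, pow_succ]
        have := Nat.one_le_pow k 3 (by norm_num)
        omega
      omega
  have hgood : ∀ X : Subgroup G, X ≤ (P : Subgroup G) → ∀ u g : G, g * t * g⁻¹ = u →
      ((P : Subgroup G) ⊓ centralizer ({u} : Set G)) ≤ X → u ∈ (P : Subgroup G) → Good X u := by
    intro X hXP u g hgu hRX huP
    obtain ⟨hc9, hnc⟩ := hcent u g hgu huP
    refine ⟨P.isPGroup'.to_le hXP, hRX ⟨huP, mem_cent_iff.2 rfl⟩, fun hcy => ?_, ?_, hcle u g hgu, fun h hh => ?_⟩
    · haveI := hcy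
      exact hnc (isCyclic_of_le hRX)
    · rw [← hc9]
      congr 2
      exact le_antisymm (inf_le_inf_right _ hXP) (le_inf hRX inf_le_right)
    · refine hreal (g⁻¹ * h * g) ?_
      calc g⁻¹ * h * g * t * (g⁻¹ * h * g)⁻¹ = g⁻¹ * (h * (g * t * g⁻¹) * h⁻¹) * g := by group
        _ = g⁻¹ * (g * t * g⁻¹)⁻¹ * g := by rw [hgu, hh]
        _ = t⁻¹ := by group
  have hfus : ∀ v g : G, v ∈ (P : Subgroup G) → g * t * g⁻¹ = v →
      ∃ n ∈ normalizer ((P : Subgroup G) : Set G), n * t * n⁻¹ = v := by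
    intro v g hv hgv
    set Cv := centralizer ({v} : Set G) with hCv
    set A := ((P : Subgroup G) ⊓ centralizer ({t} : Set G)).map (MulAut.conj g).toMonoidHom with hA
    set B := (P : Subgroup G) ⊓ Cv with hB
    have hACv : A ≤ Cv := by
      rw [hA, hCv, ← hgv, ← cent_map]
      exact map_mono inf_le_right
    have hsyl : ∀ L : Subgroup G, IsPGroup 3 L → L ≤ Cv → Nat.card L = 9 →
        ∃ T : Sylow 3 ↥Cv, (T : Subgroup ↥Cv).map Cv.subtype = L := by
      intro L hL hLn hc
      obtain ⟨T, hT⟩ := (hL.comap_subtype (K := Cv)).exists_le_sylow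
      refine ⟨T, ?_⟩
      have hle : L ≤ (T : Subgroup ↥Cv).map Cv.subtype := fun x hx => ⟨⟨x, hLn hx⟩, hT hx, rfl⟩
      refine (eq_of_le_of_card_ge hle ?_).symm
      rw [hc]
      exact hcle v g hgv _ (T.isPGroup'.map _) (map_subtype_le _)
    obtain ⟨T₁, hT₁⟩ := hsyl A ((P.isPGroup'.to_le inf_le_left).map _) hACv (by rw [hA, card_map_conj, hCP])
    obtain ⟨T₂, hT₂⟩ := hsyl B (P.isPGroup'.to_le inf_le_left) inf_le_right (hcent v g hgv hv).1
    obtain ⟨c, hc⟩ := MulAction.exists_smul_eq ↥Cv T₁ T₂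
    have hAB : A.map (MulAut.conj (c : G)).toMonoidHom = B := by
      rw [← hT₂, ← hc, ← hT₁, Sylow.coe_subgroup_smul, Subgroup.map_map]
      ext x
      simp only [Subgroup.mem_map, Subgroup.mem_smul_pointwise_iff_exists]
      constructor
      · rintro ⟨y, hy, rfl⟩
        exact ⟨MulAut.conj c • y, ⟨y, hy, rfl⟩, rfl⟩
      · rintro ⟨_, ⟨y, hy, rfl⟩, rfl⟩
        exact ⟨y, hy, rfl⟩
    refine exists_normalizer_conj P t hgood htP _ ((P : Subgroup G) ⊓ centralizer ({t} : Set G)) B
      ((c : G) * g) v le_rfl le_rfl inf_le_left inf_le_left ?_ ?_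
    · rw [← hAB, hA, Subgroup.map_map]
      congr 1
      ext x
      simp [MulAut.conj_apply, mul_assoc]
    · have hcv : v * (c : G) = (c : G) * v := mem_cent_iff.1 c.2
      calc (c : G) * g * t * ((c : G) * g)⁻¹ = (c : G) * (g * t * g⁻¹) * (c : G)⁻¹ := by group
        _ = v := by rw [hgv, ← hcv, mul_inv_cancel_right]
  set N := normalizer ((P : Subgroup G) : Set G) with hN
  have hPgood : Good (P : Subgroup G) t := hgood _ le_rfl t 1 (by group) inf_le_left htP
  set Ω := orb N (P : Subgroup G) t with hΩ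
  -- the size of the orbit is prime to three
  let St : Subgroup N :=
    { carrier := {c | img (P : Subgroup G) ((c : G) * t * (c : G)⁻¹) = img (P : Subgroup G) t}
      one_mem' := by simp
      mul_mem' := fun {a b} ha hb => by
        show img (P : Subgroup G) (((a * b : N) : G) * t * ((a * b : N) : G)⁻¹) = _
        rw [Subgroup.coe_mul, show (a : G) * b * t * ((a : G) * b)⁻¹ = a * ((b : G) * t * (b : G)⁻¹) * (a : G)⁻¹ by group,
          ← img_conj _ a.2 ((mem_normalizer_iff.1 b.2 t).1 htP), show img (P : Subgroup G) ((b : G) * t * (b : G)⁻¹) = _ from hb,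
          img_conj _ a.2 htP]
        exact ha
      inv_mem' := fun {a} ha => by
        show img (P : Subgroup G) (((a⁻¹ : N) : G) * t * ((a⁻¹ : N) : G)⁻¹) = _
        apply (conjIso (P : Subgroup G) a.2).abelianizationCongr.injective
        rw [img_conj _ a.2 ((mem_normalizer_iff.1 (a⁻¹).2 t).1 htP), img_conj _ a.2 htP, Subgroup.coe_inv,
          show (a : G) * ((a : G)⁻¹ * t * (a : G)⁻¹⁻¹) * (a : G)⁻¹ = t by group]
        exact (show img (P : Subgroup G) ((a : G) * t * (a : G)⁻¹) = _ from ha).symm }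
  have hΩcard : Ω.card = St.index := by
    rw [index_eq_card]
    let f : N ⧸ St → Ω := fun q =>
      ⟨img (P : Subgroup G) ((q.out : G) * t * (q.out : G)⁻¹), mem_orb.2 ⟨_, q.out.2, rfl⟩⟩
    have key : ∀ a b : N, img (P : Subgroup G) ((a : G) * t * (a : G)⁻¹) =
        img (P : Subgroup G) ((b : G) * t * (b : G)⁻¹) ↔ a⁻¹ * b ∈ St := by
      intro a b
      show _ ↔ img (P : Subgroup G) (((a⁻¹ * b : N) : G) * t * ((a⁻¹ * b : N) : G)⁻¹) = _
      rw [← (conjIso (P : Subgroup G) a.2).abelianizationCongr.injective.eq_iff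
        (a := img (P : Subgroup G) (((a⁻¹ * b : N) : G) * t * ((a⁻¹ * b : N) : G)⁻¹)),
        img_conj _ a.2 ((mem_normalizer_iff.1 (a⁻¹ * b).2 t).1 htP), img_conj _ a.2 htP,
        Subgroup.coe_mul, Subgroup.coe_inv,
        show (a : G) * ((a : G)⁻¹ * b * t * ((a : G)⁻¹ * b)⁻¹) * (a : G)⁻¹ = (b : G) * t * (b : G)⁻¹ by group]
      exact eq_comm
    have hf : Function.Bijective f := by
      refine ⟨fun a b hab => ?_, fun ⟨a, ha⟩ => ?_⟩
      · rw [← QuotientGroup.out_eq' a, ← QuotientGroup.out_eq' b, QuotientGroup.eq]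
        exact (key _ _).1 (congrArg Subtype.val hab)
      · obtain ⟨c, hc, rfl⟩ := mem_orb.1 ha
        refine ⟨QuotientGroup.mk ⟨c, hc⟩, Subtype.ext ((key (QuotientGroup.mk (s := St) (⟨c, hc⟩ : N)).out ⟨c, hc⟩).2 ?_)⟩
        exact QuotientGroup.eq.1 (QuotientGroup.out_eq' (QuotientGroup.mk (s := St) (⟨c, hc⟩ : N)))
    rw [Nat.card_eq_of_bijective f hf, Nat.card_eq_fintype_card, Fintype.card_coe]
  have hnd : ¬ 3 ∣ Ω.card := by
    rw [hΩcard]
    intro hd
    have hle : (P : Subgroup G).subgroupOf N ≤ St := by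
      intro c hc
      exact img_inner _ htP (mem_subgroupOf.1 hc)
    refine P.not_dvd_index ?_
    rw [← relIndex_mul_index (le_normalizer : (P : Subgroup G) ≤ N)]
    exact (hd.trans (index_dvd_of_le hle)).mul_right _
  obtain ⟨hΩ4, -, hprod⟩ := small_set hPgood.ab.1 hPgood.ab.2.1 Ω (hPgood.no_opposite (S := N) le_rfl)
  have hΩ0 : Ω.card ≠ 0 := Finset.card_ne_zero.2 ⟨_, mem_orb.2 ⟨1, N.one_mem, rfl⟩⟩
  have hΩ124 : Ω.card = 1 ∨ Ω.card = 2 ∨ Ω.card = 4 := by omega
  -- the transfer
  have ht3 : t ^ 3 = 1 := orderOf_dvd_iff_pow_eq_one.1 ht.dvd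
  haveI : Fintype (G ⧸ (P : Subgroup G)) := Fintype.ofFinite _
  haveI : Fintype (Quotient (orbitRel (zpowers t) (G ⧸ (P : Subgroup G)))) := Fintype.ofFinite _
  let F : G ⧸ (P : Subgroup G) → Abelianization ↥(P : Subgroup G) := fun x =>
    img (P : Subgroup G) (x.out⁻¹ * t * x.out)
  set V := MonoidHom.transfer (Abelianization.of : ↥(P : Subgroup G) →* Abelianization ↥(P : Subgroup G)) with hV
  have hV1 : V t = 1 := by
    rcases V.normal_ker.eq_bot_or_eq_top with h | h
    · exact absurd ⟨⟨fun a b => (MonoidHom.ker_eq_bot_iff V).1 h (by rw [map_mul, map_mul, mul_comm])⟩⟩ hna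
    · exact MonoidHom.mem_ker.1 (h ▸ Subgroup.mem_top t)
  have hFix : ∀ x : G ⧸ (P : Subgroup G), t • x = x ↔ x.out⁻¹ * t * x.out ∈ (P : Subgroup G) := by
    intro x
    conv_lhs => rw [← QuotientGroup.out_eq' x]
    show ((t * x.out : G) : G ⧸ (P : Subgroup G)) = (x.out : G ⧸ (P : Subgroup G)) ↔ _
    rw [QuotientGroup.eq]
    constructor
    · intro h
      have := (P : Subgroup G).inv_mem h
      simpa [mul_assoc] using this
    · intro h
      have := (P : Subgroup G).inv_mem h
      simpa [mul_assoc] using this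
  set fix := Finset.univ.filter fun x : G ⧸ (P : Subgroup G) => t • x = x with hfix
  have hVF : V t = ∏ x ∈ fix, F x := by
    rw [hV, MonoidHom.transfer_eq_prod_quotient_orbitRel_zpowers_quot]
    rw [← Finset.prod_subset (Finset.subset_univ (Finset.univ.filter
      fun q : Quotient (orbitRel (zpowers t) (G ⧸ (P : Subgroup G))) => t • q.out = q.out))]
    · refine Finset.prod_bij' (fun q _ => q.out) (fun x _ => Quotient.mk'' x) ?_ ?_ ?_ ?_ ?_
      · intro q hq
        exact Finset.mem_filter.2 ⟨Finset.mem_univ _, (Finset.mem_filter.1 hq).2⟩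
      · intro x hx
        have hxf := (Finset.mem_filter.1 hx).2
        have hout : (Quotient.mk'' x : Quotient (orbitRel (zpowers t) (G ⧸ (P : Subgroup G)))).out = x := by
          have h1 := Quotient.mk_out (s := orbitRel (zpowers t) (G ⧸ (P : Subgroup G))) x
          obtain ⟨⟨s, hs⟩, hse⟩ := (orbitRel_apply.1 h1 : _ ∈ orbit (zpowers t) x)
          show Quotient.out _ = x
          refine hse.symm.trans ?_
          obtain ⟨i, rfl⟩ := mem_zpowers_iff.1 hs
          exact (fixedBy_subset_fixedBy_zpow (G ⧸ (P : Subgroup G)) t i (show x ∈ fixedBy _ t from hxf) :)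
        exact Finset.mem_filter.2 ⟨Finset.mem_univ _, by rw [hout]; exact hxf⟩
      · intro q _
        exact Quotient.out_eq' q
      · intro x hx
        have hxf := (Finset.mem_filter.1 hx).2
        have h1 := Quotient.mk_out (s := orbitRel (zpowers t) (G ⧸ (P : Subgroup G))) x
        obtain ⟨⟨s, hs⟩, hse⟩ := (orbitRel_apply.1 h1 : _ ∈ orbit (zpowers t) x)
        refine hse.symm.trans ?_
        obtain ⟨i, rfl⟩ := mem_zpowers_iff.1 hs
        exact (fixedBy_subset_fixedBy_zpow (G ⧸ (P : Subgroup G)) t i (show x ∈ fixedBy _ t from hxf) :)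
      · intro q hq
        have hq' := (Finset.mem_filter.1 hq).2
        have hper : Function.minimalPeriod (t • ·) q.out = 1 :=
          Function.minimalPeriod_eq_one_iff_isFixedPt.2 hq'
        show Abelianization.of _ = img (P : Subgroup G) (q.out.out⁻¹ * t * q.out.out)
        rw [img_of _ ((hFix _).1 hq')]
        congr 1
        exact Subtype.ext (by simp only [hper, pow_one])
    · intro q _ hq
      have hq' : t • q.out ≠ q.out := fun h => hq (Finset.mem_filter.2 ⟨Finset.mem_univ _, h⟩)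
      have hdvd : Function.minimalPeriod (t • ·) q.out ∣ 3 := by
        rw [← Function.isPeriodicPt_iff_minimalPeriod_dvd]
        show (t • ·)^[3] q.out = q.out
        rw [smul_iterate]
        show t ^ 3 • q.out = q.out
        rw [ht3, one_smul]
      rcases (Nat.dvd_prime (by norm_num : Nat.Prime 3)).1 hdvd with h | h
      · exact absurd (Function.minimalPeriod_eq_one_iff_isFixedPt.1 h) hq'
      · rw [← map_one (Abelianization.of : ↥(P : Subgroup G) →* Abelianization ↥(P : Subgroup G))]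
        congr 1
        refine Subtype.ext ?_
        simp only [h, OneMemClass.coe_one]
        rw [ht3]
        group
  have hFg : ∀ g : G, g⁻¹ * t * g ∈ (P : Subgroup G) →
      F (g : G ⧸ (P : Subgroup G)) = img (P : Subgroup G) (g⁻¹ * t * g) := by
    intro g hg
    obtain ⟨p, hp⟩ := QuotientGroup.mk_out_eq_mul (P : Subgroup G) g
    show img (P : Subgroup G) ((g : G ⧸ (P : Subgroup G)).out⁻¹ * t * (g : G ⧸ (P : Subgroup G)).out) = _
    rw [hp, show (g * (p : G))⁻¹ * t * (g * p) = (p : G)⁻¹ * (g⁻¹ * t * g) * (p : G)⁻¹⁻¹ by group]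
    exact img_inner _ hg ((P : Subgroup G).inv_mem p.2)
  have hmaps : ∀ x ∈ fix, F x ∈ Ω := by
    intro x hx
    have hm := (hFix x).1 (Finset.mem_filter.1 hx).2
    obtain ⟨n, hn, hnv⟩ := hfus _ x.out⁻¹ hm (by group)
    exact mem_orb.2 ⟨n, hn, congrArg (img (P : Subgroup G)) hnv⟩
  have hfib : ∀ a ∈ Ω, ∀ b ∈ Ω,
      (fix.filter fun x => F x = a).card ≤ (fix.filter fun x => F x = b).card := by
    intro a ha b hb
    obtain ⟨c, hc, rfl⟩ := mem_orb.1 ha
    obtain ⟨d, hd, rfl⟩ := mem_orb.1 hb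
    set n := c * d⁻¹ with hn
    have hnN : n ∈ N := N.mul_mem hc (N.inv_mem hd)
    refine Finset.card_le_card_of_injOn (fun x => ((x.out * n : G) : G ⧸ (P : Subgroup G))) ?_ ?_
    · intro x hx
      obtain ⟨hxfix, hxF⟩ := Finset.mem_filter.1 (Finset.mem_coe.1 hx)
      have hm := (hFix x).1 (Finset.mem_filter.1 hxfix).2
      have hm' : (x.out * n)⁻¹ * t * (x.out * n) ∈ (P : Subgroup G) := by
        have h1 := (mem_normalizer_iff.1 (N.inv_mem hnN) _).1 hm
        simpa [mul_assoc] using h1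
      have hF' : F ((x.out * n : G) : G ⧸ (P : Subgroup G)) = img (P : Subgroup G) (d * t * d⁻¹) := by
        rw [hFg _ hm', show (x.out * n)⁻¹ * t * (x.out * n) = n⁻¹ * (x.out⁻¹ * t * x.out) * n⁻¹⁻¹ by group,
          ← img_conj _ (N.inv_mem hnN) hm, show img (P : Subgroup G) (x.out⁻¹ * t * x.out) = _ from hxF,
          img_conj _ (N.inv_mem hnN) ((mem_normalizer_iff.1 hc t).1 htP)]
        congr 1
        rw [hn]
        group
      refine Finset.mem_coe.2 (Finset.mem_filter.2 ⟨Finset.mem_filter.2 ⟨Finset.mem_univ _, ?_⟩, hF'⟩)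
      show ((t * (x.out * n) : G) : G ⧸ (P : Subgroup G)) = ((x.out * n : G) : G ⧸ (P : Subgroup G))
      rw [QuotientGroup.eq]
      have := (P : Subgroup G).inv_mem hm'
      simpa [mul_assoc] using this
    · intro x _ y _ hxy
      rw [← QuotientGroup.out_eq' x, ← QuotientGroup.out_eq' y, QuotientGroup.eq]
      have h1 := QuotientGroup.eq.1 hxy
      have h2 := (mem_normalizer_iff.1 hnN _).1 h1
      simpa [mul_assoc] using h2
  obtain ⟨a₀, ha₀⟩ := Finset.card_ne_zero.1 hΩ0
  set w := (fix.filter fun x => F x = a₀).card with hw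
  have hfw : ∀ a ∈ Ω, (fix.filter fun x => F x = a).card = w := fun a ha =>
    le_antisymm (hfib a ha a₀ ha₀) (hfib a₀ ha₀ a ha)
  have hwc : fix.card = Ω.card * w := by
    rw [Finset.card_eq_sum_card_fiberwise hmaps, Finset.sum_congr rfl hfw, Finset.sum_const, smul_eq_mul]
  have hprodw : ∏ x ∈ fix, F x = (∏ a ∈ Ω, a) ^ w := by
    rw [← Finset.prod_fiberwise_of_maps_to hmaps, ← Finset.prod_pow]
    refine Finset.prod_congr rfl fun a ha => ?_
    rw [Finset.prod_congr rfl fun x hx => (Finset.mem_filter.1 hx).2, Finset.prod_const, hfw a ha]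
  have hfix3 : ¬ 3 ∣ fix.card := by
    intro hd
    have hzp : IsPGroup 3 (zpowers t) :=
      IsPGroup.of_card (n := 1) (by rw [Nat.card_zpowers, ht, pow_one])
    have hmod := hzp.card_modEq_card_fixedPoints (G ⧸ (P : Subgroup G))
    have hcard : Nat.card (fixedPoints (zpowers t) (G ⧸ (P : Subgroup G))) = fix.card := by
      rw [hfix, Nat.card_eq_fintype_card, ← Set.toFinset_card]
      congr 1
      ext x
      rw [Set.mem_toFinset, mem_fixedPoints, Finset.mem_filter]
      refine ⟨fun h => ⟨Finset.mem_univ _, h ⟨t, mem_zpowers t⟩⟩, fun h ⟨s, hs⟩ => ?_⟩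
      obtain ⟨i, rfl⟩ := mem_zpowers_iff.1 hs
      exact (fixedBy_subset_fixedBy_zpow (G ⧸ (P : Subgroup G)) t i (show x ∈ fixedBy _ t from h.2) :)
    rw [hcard, ← index_eq_card] at hmod
    exact P.not_dvd_index ((Nat.ModEq.dvd_iff hmod dvd_rfl).2 hd)
  have hw3 : ¬ 3 ∣ w := fun h => hfix3 (hwc ▸ dvd_mul_of_dvd_right h _)
  refine hprod hΩ124 ?_
  set σ := ∏ a ∈ Ω, a
  have hσw : σ ^ w = 1 := by rw [← hprodw, ← hVF, hV1]
  have hd1 : orderOf σ ∣ w := orderOf_dvd_of_pow_eq_one hσw
  have hd2 : orderOf σ ∣ 3 := orderOf_dvd_of_pow_eq_one (hPgood.ab.2.1 σ)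
  rcases (Nat.dvd_prime (by norm_num : Nat.Prime 3)).1 hd2 with h | h
  · exact orderOf_eq_one_iff.1 h
  · exact absurd (h ▸ hd1) hw3

end CfsgLib.FixityFour
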