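import Cfsg.Agent.Lib.FixityFour.FourBasic
import Cfsg.Agent.Lib.FixityFour.OddCaseA
import Cfsg.Agent.Lib.FixityFour.OddLemma

/-!
Fixity four with point stabilisers of odd order divisible by three.
-/

set_option autoImplicit false
set_option maxHeartbeats 400000
set_option linter.style.haveILetI false
set_option linter.unusedSectionVars false

open MulAction
open scoped Pointwise

namespace CfsgLib.FixityFour

open OddSmall

variable {G Ω : Type*} [Group G] [Finite G] [MulAction G Ω] [Finite Ω]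

/-- If all elements of order three keeping `F` fix exactly `F`, the stabiliser of `F` is strongly
3-embedded. -/
theorem exists_strongly_three (htrans : MulAction.IsPretransitive G Ω) (F : Set Ω) (hne : F.Nonempty)
    (hproper : F ≠ Set.univ) (x₀ : G) (hx₀ : orderOf x₀ = 3) (hx₀F : x₀ • F = F)
    (hall : ∀ y : G, orderOf y = 3 → y • F = F → fixedBy Ω y = F) :
    ∃ H : Subgroup G, H ≠ ⊤ ∧ 3 ∣ Nat.card H ∧
      ∀ g : G, g ∉ H → ¬ 3 ∣ Nat.card ↥(H ⊓ H.map (MulAut.conj g).toMonoidHom) := by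
  haveI := htrans
  haveI := Fact.mk Nat.prime_three
  refine ⟨MulAction.stabilizer G F, ?_, ?_, ?_⟩
  · intro htop
    obtain ⟨b, hb⟩ := hne
    refine hproper (Set.eq_univ_of_forall fun c => ?_)
    obtain ⟨g, rfl⟩ := MulAction.exists_smul_eq G b c
    rw [← (MulAction.mem_stabilizer_iff.1 (htop ▸ Subgroup.mem_top g) : g • F = F)]
    exact Set.smul_mem_smul_set hb
  · exact hx₀ ▸ Subgroup.orderOf_dvd_natCard _ (MulAction.mem_stabilizer_iff.2 hx₀F)
  · intro g hg hd
    obtain ⟨x, hx⟩ := exists_prime_orderOf_dvd_card' 3 hd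
    have hxo : orderOf (x : G) = 3 := by rw [Subgroup.orderOf_coe, hx]
    obtain ⟨hxH, v, hv, hvx⟩ := Subgroup.mem_inf.1 x.2
    simp only [MulEquiv.coe_toMonoidHom, MulAut.conj_apply] at hvx
    have hvo : orderOf v = 3 := by rw [← Invol.orderOf_conj g v, hvx, hxo]
    refine hg (MulAction.mem_stabilizer_iff.2 (mem_stabilizer_of_fix (hall v hvo hv) ?_))
    rw [hvx]
    exact hall _ hxo hxH

/-- A Sylow 3-subgroup of order three has small 2-part in its normaliser. -/
theorem card_le_four_of_card_three (hodd : ∀ b : Ω, Odd (Nat.card (MulAction.stabilizer G b)))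
    (hfix : ∀ g : G, g ≠ 1 → Nat.card (fixedBy Ω g) ≤ 4) (P : Sylow 3 G) (hP : Nat.card P = 3)
    (a : Ω) (h3 : 3 ∣ Nat.card (MulAction.stabilizer G a))
    (T : Sylow 2 (Subgroup.normalizer ((P : Subgroup G) : Set G))) : Nat.card T ≤ 4 := by
  haveI := Fact.mk Nat.prime_three
  obtain ⟨x₁, hx₁⟩ := exists_prime_orderOf_dvd_card' (G := MulAction.stabilizer G a) 3 h3
  have hx₁o : orderOf (x₁ : G) = 3 := by rw [Subgroup.orderOf_coe, hx₁]
  obtain ⟨Q, hQ⟩ := (isPGroup_zpowers hx₁o).exists_le_sylow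
  obtain ⟨g, hg⟩ := MulAction.exists_smul_eq G Q P
  set x := g * (x₁ : G) * g⁻¹ with hxdef
  have hxo : orderOf x = 3 := by rw [hxdef, Invol.orderOf_conj, hx₁o]
  have hxP : Subgroup.zpowers x = (P : Subgroup G) := by
    refine Subgroup.eq_of_le_of_card_ge (Subgroup.zpowers_le.2 ?_) ?_
    · rw [← hg]
      exact ⟨x₁, hQ (Subgroup.mem_zpowers _), rfl⟩
    · rw [Nat.card_zpowers, hxo]
      exact le_of_eq hP
  have hxa : g • a ∈ fixedBy Ω x := mem_fixedBy_conj.2 x₁.2
  set T' := (T : Subgroup (Subgroup.normalizer ((P : Subgroup G) : Set G))).map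
    (Subgroup.normalizer ((P : Subgroup G) : Set G)).subtype with hT'def
  have hcard : Nat.card T = Nat.card T' := Nat.card_congr
    ((T : Subgroup _).equivMapOfInjective (Subgroup.normalizer ((P : Subgroup G) : Set G)).subtype
      (Subgroup.normalizer ((P : Subgroup G) : Set G)).subtype_injective).toEquiv
  rw [hcard]
  refine (card_le_of_injOn T' (g • a) (fixedBy Ω x) ?_ ?_).trans ?_
  · rintro _ ⟨n, -, rfl⟩
    have hnx : (n : G) * x * (n : G)⁻¹ ∈ Subgroup.zpowers x := by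
      rw [hxP]
      exact (Subgroup.mem_normalizer_iff.1 n.2 x).1 (hxP ▸ Subgroup.mem_zpowers x)
    obtain ⟨k, hk⟩ := Subgroup.mem_zpowers_iff.1 hnx
    have hsub : fixedBy Ω x ⊆ (n : G) • fixedBy Ω x := by
      rw [smul_fixedBy, ← hk]
      exact fixedBy_subset_fixedBy_zpow Ω x k
    have heq : fixedBy Ω x = (n : G) • fixedBy Ω x :=
      Set.eq_of_subset_of_ncard_le hsub (le_of_eq (Set.ncard_smul_set _ _)) (Set.toFinite _)
    rw [heq]
    exact Set.smul_mem_smul_set hxa
  · intro n hn hna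
    by_contra hn1
    haveI := Fact.mk Nat.prime_two
    obtain ⟨i, hi⟩ := (T.isPGroup'.map (Subgroup.normalizer ((P : Subgroup G) : Set G)).subtype) ⟨n, hn⟩
    exact two_element_free hodd (congrArg Subtype.val hi) hn1 _ hna
  · rw [← Nat.card_coe_set_eq]
    exact hfix x (fun h1 => by rw [h1, orderOf_one] at hxo; omega)

variable [IsSimpleGroup G] [FaithfulSMul G Ω]

/-- The stabiliser of `F` containing no Sylow 3-subgroup is impossible. -/
theorem OddSetting.false_of_not_le {F : Set Ω} (h : OddSetting (G := G) F) (R : Subgroup G)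
    (hRH : R ≤ MulAction.stabilizer G F) (P : Sylow 3 G) (hRP : R ≤ (P : Subgroup G))
    (hmax : ∀ k : ℕ, 3 ^ k ∣ Nat.card (MulAction.stabilizer G F) → 3 ^ k ∣ Nat.card R)
    (hconj : ∀ Q : Subgroup G, Q ≤ MulAction.stabilizer G F → IsPGroup 3 Q →
      ∃ g ∈ MulAction.stabilizer G F, ∀ x ∈ Q, g * x * g⁻¹ ∈ R)
    {y : G} (hyR : y ∈ R) (hy : orderOf y = 3) (hyK : y ∉ fixingSubgroup G F)
    (hnle : ¬ (P : Subgroup G) ≤ MulAction.stabilizer G F) : False := by
  haveI := Fact.mk Nat.prime_three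
  set H := MulAction.stabilizer G F with hHdef
  set K := fixingSubgroup G F with hKdef
  have hP := P.isPGroup'
  have hRp : IsPGroup 3 R := hP.to_le hRP
  have hPR : ∀ p ∈ (P : Subgroup G), p • F = F → p ∈ R := by
    intro p hp hpF
    obtain ⟨k, hk⟩ := (hP.to_le (inf_le_left : (P : Subgroup G) ⊓ H ≤ P)).exists_card_eq
    have hle : R ≤ (P : Subgroup G) ⊓ H := le_inf hRP hRH
    have hd : Nat.card ↥((P : Subgroup G) ⊓ H) ∣ Nat.card R := by
      rw [hk]
      exact hmax k (hk ▸ Subgroup.card_dvd_of_le inf_le_right)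
    rw [Subgroup.eq_of_le_of_card_ge hle (Nat.le_of_dvd Nat.card_pos hd)]
    exact ⟨hp, hpF⟩
  obtain ⟨x₀, hx₀, hx₀F⟩ := h.exists_fix
  have hx₀st : x₀ ∈ H := by
    show x₀ • F = F
    conv_lhs => rw [← hx₀F]
    rw [smul_eq_self_of_commute rfl, hx₀F]
  obtain ⟨g, hgH, hg⟩ := hconj _ (Subgroup.zpowers_le.2 hx₀st) (isPGroup_zpowers hx₀)
  set t := g * x₀ * g⁻¹ with htdef
  have htR : t ∈ R := hg x₀ (Subgroup.mem_zpowers _)
  have ht : orderOf t = 3 := by rw [htdef, Invol.orderOf_conj, hx₀]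
  have htfix : fixedBy Ω t = F := by
    rw [htdef, ← smul_fixedBy, hx₀F]
    exact hgH
  have htK : t ∈ K := (mem_fixingSubgroup_iff G).2 fun b hb => (htfix ▸ hb : b ∈ fixedBy Ω t)
  have ht1 : t ≠ 1 := fun h1 => by rw [h1, orderOf_one] at ht; omega
  -- the normaliser of `R` in `P` moves `F`
  obtain ⟨n, hnP, hnR, hnN⟩ : ∃ n ∈ (P : Subgroup G), n ∉ R ∧ ∀ r ∈ R, n * r * n⁻¹ ∈ R := by
    have hlt : R.subgroupOf (P : Subgroup G) < ⊤ := lt_top_iff_ne_top.2 fun htop => hnle fun p hp =>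
      hRH (show (⟨p, hp⟩ : (P : Subgroup G)) ∈ R.subgroupOf (P : Subgroup G) from
        htop ▸ Subgroup.mem_top _)
    haveI := hP.isNilpotent
    obtain ⟨n, hn, hnR⟩ := SetLike.exists_of_lt (Group.normalizerCondition_of_isNilpotent _ hlt)
    exact ⟨n, n.2, hnR, fun r hr =>
      (Subgroup.mem_normalizer_iff.1 hn ⟨r, hRP hr⟩).1 hr⟩
  have hnF : n • F ≠ F := fun h1 => hnR (hPR n hnP h1)
  obtain ⟨ρ, e, -, hker, -⟩ := h.exists_perm
  set T := R ⊓ K with hTdef
  have hTp : IsPGroup 3 T := hRp.to_le inf_le_left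
  let φ : T →* Equiv.Perm (Fin 4) :=
    { toFun := fun s => ρ ⟨n * (s : G) * n⁻¹, hRH (hnN _ s.2.1)⟩
      map_one' := by
        rw [show (⟨n * ((1 : T) : G) * n⁻¹, hRH (hnN _ (1 : T).2.1)⟩ : H) = 1 from
          Subtype.ext (by simp), map_one]
      map_mul' := fun a b => by
        rw [← map_mul]
        congr 1
        exact Subtype.ext (by simp [mul_assoc]) }
  have hφ : Function.Injective φ := by
    rw [injective_iff_map_eq_one]
    intro s hs
    by_contra hs1
    have hsK : n * (s : G) * n⁻¹ ∈ K := (hker _).1 hs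
    obtain ⟨i, hi⟩ := hTp s
    have hi' : (s : G) ^ (3 ^ i) = 1 := congrArg Subtype.val hi
    have hfs : fixedBy Ω (s : G) = F := h.exact hi' (fun h1 => hs1 (Subtype.ext h1)) s.2.2
    have hfn : fixedBy Ω (n * (s : G) * n⁻¹) = F := by
      refine h.exact (i := i) ?_ ?_ hsK
      · rw [conj_pow, hi', mul_one, mul_inv_cancel]
      · rw [ne_eq, mul_inv_eq_one, mul_eq_left]
        exact fun h1 => hs1 (Subtype.ext h1)
    exact hnF (mem_stabilizer_of_fix hfs hfn)
  have hsmall : ∀ {X : Type _} [Group X] [Finite X], IsPGroup 3 X →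
      ∀ f : X →* Equiv.Perm (Fin 4), Nat.card f.range ≤ 3 := by
    intro X _ _ hX f
    obtain ⟨k, hk⟩ := (hX.of_surjective f.rangeRestrict f.rangeRestrict_surjective).exists_card_eq
    have hd := f.range.card_subgroup_dvd_card
    rw [Nat.card_perm, Nat.card_fin, hk] at hd
    rw [hk]
    rcases Nat.lt_or_ge k 2 with h2 | h2
    · exact (Nat.pow_le_pow_right (by norm_num) (show k ≤ 1 by omega)).trans (le_of_eq (pow_one 3))
    · exact absurd ((pow_dvd_pow 3 h2).trans hd) (by decide)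
  have hT3 : Nat.card T = 3 := by
    refine le_antisymm ?_ ?_
    · rw [Nat.card_congr (MonoidHom.ofInjective hφ).toEquiv]
      exact hsmall hTp φ
    · calc 3 = Nat.card (Subgroup.zpowers t) := by rw [Nat.card_zpowers, ht]
        _ ≤ Nat.card T := Subgroup.card_le_of_le (Subgroup.zpowers_le.2 ⟨htR, htK⟩)
  have hR9 : Nat.card R = 9 := by
    obtain ⟨k, hk⟩ := hRp.exists_card_eq
    let f : R →* Equiv.Perm (Fin 4) := ρ.comp (Subgroup.inclusion hRH)
    have h1 := f.ker.card_mul_index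
    have h2 : Nat.card f.ker ≤ 3 := by
      rw [← hT3]
      refine Nat.card_le_card_of_injective (fun r => (⟨((r : R) : G), (r : R).2, (hker _).1 r.2⟩ : T)) ?_
      intro a b hab
      have hh := congrArg Subtype.val hab
      exact Subtype.ext (Subtype.ext hh)
    have h3 : f.ker.index ≤ 3 := by rw [Subgroup.index_ker]; exact hsmall hRp f
    have hle : Nat.card R ≤ 9 := by
      rw [← h1]
      exact (Nat.mul_le_mul h2 h3).trans (by norm_num)
    have hgt : 3 < Nat.card R := by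
      rw [← hT3]
      refine lt_of_le_of_ne (Subgroup.card_le_of_le inf_le_left) fun heq => hyK ?_
      have hyT : y ∈ T := by rw [(Subgroup.eq_of_le_of_card_ge (inf_le_left : T ≤ R) heq.ge : T = R)]; exact hyR
      exact hyT.2
    rw [hk] at hle hgt ⊢
    have hk2 : k = 2 := by
      rcases Nat.lt_or_ge k 2 with h2 | h2
      · exfalso
        have := Nat.pow_le_pow_right (show 3 > 0 by norm_num) (show k ≤ 1 by omega)
        omega
      · rcases Nat.lt_or_ge k 3 with h4 | h4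
        · omega
        · exfalso
          have := Nat.pow_le_pow_right (show 3 > 0 by norm_num) h4
          norm_num at this
          omega
    rw [hk2]; norm_num
  have hcomm : ∀ r ∈ R, r * t = t * r := fun r hr =>
    congrArg Subtype.val ((IsPGroup.isMulCommutative_of_card_eq_prime_sq (p := 3)
      (show Nat.card R = 3 ^ 2 by rw [hR9]; norm_num)).is_comm.comm ⟨r, hr⟩ ⟨t, htR⟩)
  have hCH : ∀ c : G, c * t = t * c → c • F = F := fun c hc => by
    rw [← htfix]
    exact smul_eq_self_of_commute hc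
  refine false_of_small_centralizer h.hyp.hna P t (hRP htR) ht ?_ ?_ ?_
    (fun u => h.no_inversion ht htK hy (hRH hyR) hyK (hcomm y hyR))
  · rw [show (P : Subgroup G) ⊓ Subgroup.centralizer ({t} : Set G) = R from le_antisymm
      (fun p hp => hPR p hp.1 (hCH p (SelfCentEight.mem_cent.1 hp.2)))
      (fun r hr => ⟨hRP hr, SelfCentEight.mem_cent.2 (hcomm r hr)⟩), hR9]
  · intro hd
    have h27 := hmax 3 ((show 3 ^ 3 ∣ _ from hd).trans
      (Subgroup.card_dvd_of_le fun c hc => hCH c (SelfCentEight.mem_cent.1 hc)))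
    rw [hR9] at h27
    norm_num at h27
  · obtain ⟨k, hk⟩ := hP.exists_card_eq
    have hlt : 9 < Nat.card (P : Subgroup G) := by
      rw [← hR9]
      refine lt_of_le_of_ne (Subgroup.card_le_of_le hRP) fun heq => hnR ?_
      rw [Subgroup.eq_of_le_of_card_ge hRP heq.ge]
      exact hnP
    rw [show Nat.card P = Nat.card ↥(P : Subgroup G) from rfl, hk]
    rw [hk] at hlt
    have hk3 : 3 ≤ k := by
      by_contra hk3
      have := Nat.pow_le_pow_right (show 3 > 0 by norm_num) (show k ≤ 2 by omega)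
      omega
    calc 27 = 3 ^ 3 := rfl
      _ ≤ 3 ^ k := Nat.pow_le_pow_right (by norm_num) hk3

/-- The branch with odd point stabilisers of order divisible by three. -/
theorem odd_branch (hna : ¬ IsMulCommutative G) (htrans : MulAction.IsPretransitive G Ω)
    (hfix : ∀ g : G, g ≠ 1 → Nat.card (MulAction.fixedBy Ω g) ≤ 4) (P : Sylow 3 G) (a : Ω)
    (hodd : Odd (Nat.card (MulAction.stabilizer G a)))
    (h3 : 3 ∣ Nat.card (MulAction.stabilizer G a)) :
    (∃ H : Subgroup G, H ≠ ⊤ ∧ 3 ∣ Nat.card H ∧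
      ∀ g : G, g ∉ H → ¬ 3 ∣ Nat.card ↥(H ⊓ H.map (MulAut.conj g).toMonoidHom)) ∨
    (Nat.card P = 3 ∧ ∀ T : Sylow 2 (Subgroup.normalizer ((P : Subgroup G) : Set G)), Nat.card T ≤ 4) ∨
    (Nat.card P = 9 ∧ ∀ x ∈ (P : Subgroup G), x ^ 3 = 1) := by
  classical
  haveI := htrans
  haveI := Fact.mk Nat.prime_three
  cases nonempty_fintype G
  have hodd' : ∀ b : Ω, Odd (Nat.card (MulAction.stabilizer G b)) := by
    intro b
    obtain ⟨g, rfl⟩ := MulAction.exists_smul_eq G a b
    rwa [Nat.card_congr (MulAction.stabilizerEquivStabilizer (rfl : g • a = g • a)).symm.toEquiv]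
  by_cases hP3 : Nat.card P = 3
  · exact Or.inr (Or.inl ⟨hP3, card_le_four_of_card_three hodd' hfix P hP3 a h3⟩)
  obtain ⟨x₁, hx₁⟩ := exists_prime_orderOf_dvd_card' (G := MulAction.stabilizer G a) 3 h3
  have hx₁o : orderOf (x₁ : G) = 3 := by rw [Subgroup.orderOf_coe, hx₁]
  obtain ⟨x₀, hx₀mem, hmax⟩ := Finset.exists_max_image
    (Finset.univ.filter fun g : G => orderOf g = 3) (fun g => (fixedBy Ω g).ncard)
    ⟨x₁, Finset.mem_filter.2 ⟨Finset.mem_univ _, hx₁o⟩⟩
  have hx₀ : orderOf x₀ = 3 := (Finset.mem_filter.1 hx₀mem).2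
  have hmax' : ∀ y : G, orderOf y = 3 → (fixedBy Ω y).ncard ≤ (fixedBy Ω x₀).ncard :=
    fun y hy => hmax y (Finset.mem_filter.2 ⟨Finset.mem_univ _, hy⟩)
  set F := fixedBy Ω x₀ with hFdef
  have hx₀1 : x₀ ≠ 1 := fun h1 => by rw [h1, orderOf_one] at hx₀; omega
  have hne : F.Nonempty := by
    refine Set.nonempty_of_ncard_ne_zero ?_
    have h1 : 0 < (fixedBy Ω (x₁ : G)).ncard := (Set.ncard_pos (Set.toFinite _)).2 ⟨a, x₁.2⟩
    have := hmax' _ hx₁o
    omega
  have hproper : F ≠ Set.univ := fun h1 => hx₀1 (fixedBy_eq_univ_iff_eq_one.1 h1)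
  have hx₀F : x₀ • F = F := smul_eq_self_of_commute rfl
  have hexact : ∀ y : G, orderOf y = 3 → y ∈ fixingSubgroup G F → fixedBy Ω y = F := fun y hy hyF =>
    (Set.eq_of_subset_of_ncard_le ((mem_fixingSubgroup_iff G).1 hyF) (hmax' y hy) (Set.toFinite _)).symm
  by_cases hall : ∀ y : G, orderOf y = 3 → y • F = F → y ∈ fixingSubgroup G F
  · exact Or.inl (exists_strongly_three htrans F hne hproper x₀ hx₀ hx₀F
      fun y hy hyF => hexact y hy (hall y hy hyF))
  push Not at hall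
  obtain ⟨y, hy, hyF, hyK⟩ := hall
  have hcard : F.ncard = 3 ∨ F.ncard = 4 := by
    have h4 : F.ncard ≤ 4 := by
      rw [← Nat.card_coe_set_eq]
      exact hfix x₀ hx₀1
    by_contra hc
    apply hyK
    refine (mem_fixingSubgroup_iff G).2 fun b hb => ?_
    by_contra hyb
    have hy3 : y • y • y • b = b := by
      rw [← mul_smul, ← mul_smul, ← pow_three', ← hy, pow_orderOf_eq_one, one_smul]
    have hmem : ∀ c ∈ F, y • c ∈ F := fun c hc => hyF ▸ Set.smul_mem_smul_set hc
    have h2 : y • y • b ≠ b := fun h1 => hyb (by rwa [h1] at hy3)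
    have h3' : y • y • b ≠ y • b := fun h1 => hyb (smul_left_cancel y h1)
    have hsub : ({b, y • b, y • y • b} : Set Ω) ⊆ F := by
      rintro c (rfl | rfl | rfl)
      · exact hb
      · exact hmem _ hb
      · exact hmem _ (hmem _ hb)
    have hc3 := Set.ncard_le_ncard hsub (Set.toFinite _)
    rw [Set.ncard_eq_three.2 ⟨b, y • b, y • y • b, Ne.symm hyb, h2.symm, h3'.symm, rfl⟩] at hc3
    omega
  have h : OddSetting (G := G) F :=
    ⟨⟨hna, htrans, hfix⟩, hodd', hcard, ⟨x₀, hx₀, rfl⟩, ⟨y, hy, hyF, hyK⟩⟩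
  obtain ⟨R, hyR, hRH, hRp, hRmax, hRconj⟩ := exists_sylow_in (MulAction.stabilizer G F)
    (Subgroup.zpowers y) (Subgroup.zpowers_le.2 hyF) (isPGroup_zpowers hy)
  obtain ⟨P₀, hP₀⟩ := hRp.exists_le_sylow
  by_cases hle : (P₀ : Subgroup G) ≤ MulAction.stabilizer G F
  · obtain ⟨h9, hexp⟩ := h.case_A P₀ fun g hg => hle hg
    obtain ⟨g, hg⟩ := MulAction.exists_smul_eq G P₀ P
    refine Or.inr (Or.inr ⟨?_, fun x hx => ?_⟩)
    · rw [← h9, P.card_eq_multiplicity, P₀.card_eq_multiplicity]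
    · rw [← hg] at hx
      obtain ⟨p, hp, rfl⟩ := hx
      show (MulAut.conj g p) ^ 3 = 1
      rw [← map_pow, hexp p hp, map_one]
  · exact (h.false_of_not_le R hRH P₀ hP₀ hRmax hRconj (hyR (Subgroup.mem_zpowers y)) hy hyK hle).elim

end CfsgLib.FixityFour
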