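import Cfsg.Agent.Lib.FixityFour.Setup
import Cfsg.Agent.Lib.SelfCentEight.Basic

/-!
Fixity four with point stabilisers of odd order: the set of points fixed by an element of order three,
its stabiliser, the homomorphism onto a group of order three, and evaluation of the transfer.
-/

set_option autoImplicit false
set_option maxHeartbeats 400000
set_option linter.style.haveILetI false
set_option linter.unusedSectionVars false

open MulAction
open scoped Pointwise

namespace CfsgLib.FixityFour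

set_option synthInstance.maxSize 1024 in
theorem perm_four_odd_three : ∀ v x : Equiv.Perm (Fin 4), Equiv.Perm.sign v = -1 → x * x * x = 1 →
    x ≠ 1 → ∃ w ∈ [v, v * x, v * (x * x), v * (v * v) * x, v * (v * v) * (x * x)],
      Equiv.Perm.sign w = -1 ∧ ∃ i, w i = i := by
  decide +kernel

set_option synthInstance.maxSize 1024 in
theorem perm_four_commutator : ∀ a b : Equiv.Perm (Fin 4), Equiv.Perm.sign a = 1 → Equiv.Perm.sign b = 1 →
    a * b * a⁻¹ * b⁻¹ * (a * b * a⁻¹ * b⁻¹) = 1 := by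
  decide +kernel

set_option synthInstance.maxSize 1024 in
theorem perm_four_even_sq : ∀ a b : Equiv.Perm (Fin 4), Equiv.Perm.sign a = 1 → Equiv.Perm.sign b = 1 →
    a * a = 1 → b * b = 1 → a * b * (a * b) = 1 := by
  decide +kernel

set_option synthInstance.maxSize 1024 in
theorem perm_four_spread : ∀ v x : Equiv.Perm (Fin 4), Equiv.Perm.sign v = 1 → Equiv.Perm.sign x = 1 →
    v * v = 1 → v ≠ 1 → x * x * x = 1 → x ≠ 1 →
      v = v * x * v⁻¹ * x⁻¹ ∨ v = x * (v * x * v⁻¹ * x⁻¹) * x⁻¹ ∨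
        v = x * x * (v * x * v⁻¹ * x⁻¹) * (x * x)⁻¹ := by
  decide +kernel

theorem perm_four_three_power : ∀ a : Equiv.Perm (Fin 4), a * a * a * (a * a * a) * (a * a * a) = 1 →
    a * a * a = 1 := by
  decide +kernel

variable {G Ω : Type*} [Group G] [MulAction G Ω] [Finite G] [Finite Ω]

/-- Nontrivial 2-elements fix nothing when point stabilisers have odd order. -/
theorem two_element_free (hodd : ∀ b : Ω, Odd (Nat.card (MulAction.stabilizer G b))) {g : G} {i : ℕ}
    (hg : g ^ (2 ^ i) = 1) (hg1 : g ≠ 1) (b : Ω) : g • b ≠ b := by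
  intro hb
  have h1 : orderOf g ∣ Nat.card (MulAction.stabilizer G b) :=
    Subgroup.orderOf_dvd_natCard _ (MulAction.mem_stabilizer_iff.2 hb)
  obtain ⟨j, hj, hoj⟩ := (Nat.dvd_prime_pow Nat.prime_two).1 (orderOf_dvd_of_pow_eq_one hg)
  rcases j with - | j
  · exact hg1 (orderOf_eq_one_iff.1 hoj)
  · have h2 : 2 ∣ Nat.card (MulAction.stabilizer G b) :=
      (dvd_pow_self 2 j.succ_ne_zero).trans (hoj ▸ h1)
    exact Nat.not_even_iff_odd.2 (hodd b) (even_iff_two_dvd.2 h2)

/-- The number of fixed points of a 3-element is the number of points modulo three. -/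
theorem three_element_fix_mod {g : G} {i : ℕ} (hg : g ^ (3 ^ i) = 1) :
    (fixedBy Ω g).ncard % 3 = Nat.card Ω % 3 := by
  haveI := Fact.mk Nat.prime_three
  obtain ⟨j, hj, hoj⟩ := (Nat.dvd_prime_pow Nat.prime_three).1 (orderOf_dvd_of_pow_eq_one hg)
  have hp : IsPGroup 3 (Subgroup.zpowers g) := IsPGroup.of_card (n := j) (by rw [Nat.card_zpowers, hoj])
  have h1 := hp.card_modEq_card_fixedPoints Ω
  have h2 : fixedPoints (Subgroup.zpowers g) Ω = fixedBy Ω g := by
    ext x
    refine ⟨fun hx => hx ⟨g, Subgroup.mem_zpowers g⟩, fun hx y => ?_⟩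
    obtain ⟨k, hk⟩ := Subgroup.mem_zpowers_iff.1 y.2
    show (y : G) • x = x
    rw [← hk]
    exact mem_fixedBy_zpow hx k
  rw [h2, Nat.card_coe_set_eq] at h1
  exact h1.symm

/-- The fixed set of an element of order three with at least three fixed points. -/
structure OddSetting (F : Set Ω) : Prop where
  hyp : Hyp G Ω
  odd : ∀ b : Ω, Odd (Nat.card (MulAction.stabilizer G b))
  card : F.ncard = 3 ∨ F.ncard = 4
  exists_fix : ∃ x : G, orderOf x = 3 ∧ fixedBy Ω x = F
  /-- there is an element of order three moving points of `F` inside it -/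
  exists_move : ∃ y : G, orderOf y = 3 ∧ y • F = F ∧ y ∉ fixingSubgroup G F

variable {F : Set Ω}

/-- A nontrivial 3-element fixing `F` pointwise fixes exactly `F`. -/
theorem OddSetting.exact (h : OddSetting (G := G) F) {y : G} {i : ℕ} (hy : y ^ (3 ^ i) = 1) (hy1 : y ≠ 1)
    (hF : y ∈ fixingSubgroup G F) : fixedBy Ω y = F := by
  obtain ⟨x, hx, hxF⟩ := h.exists_fix
  have hsub : F ⊆ fixedBy Ω y := (mem_fixingSubgroup_iff G).1 hF
  refine (Set.eq_of_subset_of_ncard_le hsub ?_ (Set.toFinite _)).symm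
  have h1 := three_element_fix_mod (Ω := Ω) hy
  have h2 := three_element_fix_mod (Ω := Ω) (g := x) (i := 1) (by rw [pow_one, ← hx, pow_orderOf_eq_one])
  have h3 := h.hyp.ncard_le hy1
  have h4 := Set.ncard_le_ncard hsub (Set.toFinite _)
  rw [hxF] at h2
  rcases h.card with hc | hc <;> omega

/-- The action on `F`, extended to four letters. -/
theorem OddSetting.exists_perm (h : OddSetting (G := G) F) :
    ∃ (ρ : MulAction.stabilizer G F →* Equiv.Perm (Fin 4)) (e : F ↪ Fin 4),
      (∀ (g : MulAction.stabilizer G F) (x y : F), ρ g (e x) = e y ↔ (g : G) • (x : Ω) = y) ∧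
      (∀ g : MulAction.stabilizer G F, ρ g = 1 ↔ (g : G) ∈ fixingSubgroup G F) ∧
      ∀ (g : MulAction.stabilizer G F) (i : Fin 4), i ∉ Set.range e → ρ g i = i := by
  classical
  cases nonempty_fintype Ω
  have hmem : ∀ (g : MulAction.stabilizer G F) (x : Ω), (g : G) • x ∈ F ↔ x ∈ F := fun g x => by
    have h1 := Set.smul_mem_smul_set_iff (a := (g : G)) (s := F) (x := x)
    rwa [MulAction.mem_stabilizer_iff.1 g.2] at h1
  have hle : Fintype.card F ≤ Fintype.card (Fin 4) := by
    rw [← Nat.card_eq_fintype_card, Nat.card_coe_set_eq, Fintype.card_fin]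
    rcases h.card with hc | hc <;> omega
  obtain ⟨e⟩ := Function.Embedding.nonempty_of_card_le hle
  let ρ₀ : MulAction.stabilizer G F →* Equiv.Perm F :=
    { toFun := fun g => (MulAction.toPerm (g : G)).subtypePerm (p := (· ∈ F)) (hmem g)
      map_one' := by ext x; exact one_smul G (x : Ω)
      map_mul' := fun a b => by ext x; exact mul_smul (a : G) (b : G) (x : Ω) }
  refine ⟨(Equiv.Perm.viaEmbeddingHom e).comp ρ₀, e, fun g x y => ?_, fun g => ?_, fun g i hi => ?_⟩
  · show Equiv.Perm.viaEmbedding (ρ₀ g) e (e x) = e y ↔ _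
    rw [Equiv.Perm.viaEmbedding_apply, e.apply_eq_iff_eq]
    exact Subtype.ext_iff
  · rw [MonoidHom.comp_apply, map_eq_one_iff _ (Equiv.Perm.viaEmbeddingHom_injective e),
      mem_fixingSubgroup_iff]
    refine ⟨fun h x hx => ?_, fun h => ?_⟩
    · exact congrArg Subtype.val (congrArg (fun σ : Equiv.Perm F => σ ⟨x, hx⟩) h)
    · ext x; exact h x x.2
  · exact Equiv.Perm.viaEmbedding_apply_of_notMem _ _ _ hi

/-- An element with an odd image of a 2-element fixing a letter cannot exist. -/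
theorem OddSetting.image_even (h : OddSetting (G := G) F) (ρ : MulAction.stabilizer G F →* Equiv.Perm (Fin 4))
    (e : F ↪ Fin 4) (hρ : ∀ (g : MulAction.stabilizer G F) (x y : F), ρ g (e x) = e y ↔ (g : G) • (x : Ω) = y)
    (hker : ∀ g : MulAction.stabilizer G F, ρ g = 1 ↔ (g : G) ∈ fixingSubgroup G F)
    (g : MulAction.stabilizer G F) : Equiv.Perm.sign (ρ g) = 1 := by
  obtain ⟨y, hy, hyF, hyK⟩ := h.exists_move
  by_contra hg
  have hg' : Equiv.Perm.sign (ρ g) = -1 := (Int.units_eq_one_or _).resolve_left hg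
  set Y : MulAction.stabilizer G F := ⟨y, hyF⟩
  have hY3 : Y * Y * Y = 1 := Subtype.ext (by
    show y * y * y = 1
    rw [← pow_three', ← hy, pow_orderOf_eq_one])
  obtain ⟨w, hw, hws, i, hwi⟩ := perm_four_odd_three (ρ g) (ρ Y) hg'
    (by rw [← map_mul, ← map_mul, hY3, map_one]) (fun h1 => hyK ((hker Y).1 h1))
  obtain ⟨u, rfl⟩ : ∃ u, ρ u = w := by
    simp only [List.mem_cons, List.not_mem_nil, or_false] at hw
    rcases hw with rfl | rfl | rfl | rfl | rfl
    · exact ⟨g, rfl⟩
    · exact ⟨g * Y, map_mul _ _ _⟩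
    · exact ⟨g * (Y * Y), by simp only [map_mul]⟩
    · exact ⟨g * (g * g) * Y, by simp only [map_mul]⟩
    · exact ⟨g * (g * g) * (Y * Y), by simp only [map_mul]⟩
  obtain ⟨k, m, hm, hu⟩ := Nat.exists_eq_two_pow_mul_odd (n := orderOf u) (orderOf_pos u).ne'
  set v := u ^ m
  have hv2 : (v : G) ^ (2 ^ k) = 1 := by
    rw [← Subgroup.coe_pow, ← pow_mul, mul_comm, ← hu, pow_orderOf_eq_one, Subgroup.coe_one]
  have hvs : Equiv.Perm.sign (ρ v) = -1 := by rw [map_pow, map_pow, hws, hm.neg_one_pow]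
  have hv1 : (v : G) ≠ 1 := by
    intro h1
    rw [show v = 1 from Subtype.ext h1, map_one, map_one] at hvs
    exact absurd hvs (by decide)
  have hvfix : ∀ j, ρ u j = j → ρ v j = j := fun j hj => by
    rw [map_pow]
    exact Equiv.Perm.pow_apply_eq_self_of_apply_eq_self hj m
  by_cases hr : i ∈ Set.range e
  · obtain ⟨b, rfl⟩ := hr
    exact two_element_free h.odd hv2 hv1 b ((hρ v b b).1 (hvfix _ hwi))
  · obtain ⟨x, -, hxF⟩ := h.exists_fix
    have hF3 : F.ncard = 3 := by
      refine h.card.resolve_right fun h4 => hr ?_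
      classical
      cases nonempty_fintype Ω
      have hb : Function.Bijective e :=
        (Fintype.bijective_iff_injective_and_card e).2 ⟨e.injective, by
          rw [← Nat.card_eq_fintype_card, Nat.card_coe_set_eq, h4, Fintype.card_fin]⟩
      exact hb.2 i
    -- a 2-element permuting three points fixes one of them
    have hodd : ∃ b ∈ F, (v : G) • b = b := by
      have hp : IsPGroup 2 (Subgroup.zpowers v) := by
        haveI := Fact.mk Nat.prime_two
        obtain ⟨j, hj, hoj⟩ := (Nat.dvd_prime_pow Nat.prime_two).1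
          (orderOf_dvd_of_pow_eq_one (show v ^ (2 ^ k) = 1 from Subtype.ext hv2))
        exact IsPGroup.of_card (n := j) (by rw [Nat.card_zpowers, hoj])
      have hmem : ∀ (s : MulAction.stabilizer G F) (x : F), (s : G) • (x : Ω) ∈ F := fun s x => by
        have h1 := Set.smul_mem_smul_set (a := (s : G)) x.2
        rwa [MulAction.mem_stabilizer_iff.1 s.2] at h1
      letI : MulAction (Subgroup.zpowers v) F :=
        { smul := fun s x => ⟨((s : MulAction.stabilizer G F) : G) • (x : Ω), hmem _ x⟩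
          one_smul := fun x => Subtype.ext (one_smul G (x : Ω))
          mul_smul := fun a b x => Subtype.ext
            (mul_smul (((a : MulAction.stabilizer G F)) : G) ((b : MulAction.stabilizer G F) : G) (x : Ω)) }
      haveI := Fact.mk Nat.prime_two
      obtain ⟨b, hb⟩ := hp.nonempty_fixed_point_of_prime_not_dvd_card F (by
        rw [Nat.card_coe_set_eq, hF3]; decide)
      exact ⟨b, b.2, congrArg Subtype.val (hb ⟨v, Subgroup.mem_zpowers v⟩)⟩
    obtain ⟨b, -, hb⟩ := hodd
    exact two_element_free h.odd hv2 hv1 b hb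

/-- A homomorphism onto an abelian group killing exactly the 3-elements fixing `F` pointwise. -/
theorem OddSetting.exists_psi (h : OddSetting (G := G) F) :
    ∃ ψ : MulAction.stabilizer G F →* Abelianization ↥(alternatingGroup (Fin 4)),
      ∀ (x : MulAction.stabilizer G F) (i : ℕ), x ^ (3 ^ i) = 1 →
        (ψ x = 1 ↔ (x : G) ∈ fixingSubgroup G F) := by
  obtain ⟨ρ, e, hρ, hker, -⟩ := h.exists_perm
  let ρ' : MulAction.stabilizer G F →* ↥(alternatingGroup (Fin 4)) :=
    ρ.codRestrict _ fun g => Equiv.Perm.mem_alternatingGroup.2 (h.image_even ρ e hρ hker g)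
  refine ⟨Abelianization.of.comp ρ', fun x i hx => ?_⟩
  let V : Subgroup ↥(alternatingGroup (Fin 4)) :=
    { carrier := {a | a * a = 1}
      one_mem' := one_mul 1
      mul_mem' := fun {a b} ha hb => Subtype.ext (perm_four_even_sq _ _
        (Equiv.Perm.mem_alternatingGroup.1 a.2) (Equiv.Perm.mem_alternatingGroup.1 b.2)
        (congrArg Subtype.val ha) (congrArg Subtype.val hb))
      inv_mem' := fun {a} ha => by
        show a⁻¹ * a⁻¹ = 1
        rw [← mul_inv_rev, ha, inv_one] }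
  have hcomm : commutator ↥(alternatingGroup (Fin 4)) ≤ V := by
    rw [commutator_def, Subgroup.commutator_le]
    intro a _ b _
    exact Subtype.ext (perm_four_commutator _ _ (Equiv.Perm.mem_alternatingGroup.1 a.2)
      (Equiv.Perm.mem_alternatingGroup.1 b.2))
  rw [← hker]
  constructor
  · intro hψ
    have hmem : ρ' x ∈ commutator ↥(alternatingGroup (Fin 4)) := by
      rw [← Abelianization.ker_of]
      exact hψ
    have hsq : ρ x * ρ x = 1 := congrArg Subtype.val (hcomm hmem)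
    have h3 : ρ x ^ (3 ^ i) = 1 := by rw [← map_pow, hx, map_one]
    have hodd : Odd (3 ^ i) := Odd.pow (by decide)
    obtain ⟨k, hk⟩ := hodd
    rw [hk, pow_succ, pow_mul, pow_two, hsq, one_pow, one_mul] at h3
    exact h3
  · intro hρx
    have : ρ' x = 1 := Subtype.ext hρx
    rw [MonoidHom.comp_apply, this, map_one]

/-- No element inverts a nontrivial element fixing `F` that commutes with one moving points of `F`. -/
theorem OddSetting.no_inversion (h : OddSetting (G := G) F) {w x g : G} (hw : orderOf w = 3)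
    (hwF : w ∈ fixingSubgroup G F) (hx : orderOf x = 3) (hxF : x • F = F)
    (hxK : x ∉ fixingSubgroup G F) (hxw : x * w = w * x) : g * w * g⁻¹ ≠ w⁻¹ := by
  intro hg
  obtain ⟨ρ, e, hρ, hker, -⟩ := h.exists_perm
  have hw3 : w ^ (3 ^ 1) = 1 := by rw [pow_one, ← hw, pow_orderOf_eq_one]
  have hw1 : w ≠ 1 := fun h1 => by rw [h1, orderOf_one] at hw; omega
  have hwfix : fixedBy Ω w = F := h.exact hw3 hw1 hwF
  -- replace `g` by its 2-part
  obtain ⟨k, m, hm, hgo⟩ := Nat.exists_eq_two_pow_mul_odd (n := orderOf g) (orderOf_pos g).ne'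
  have hconj : ∀ j : ℕ, g ^ j * w * (g ^ j)⁻¹ = if Even j then w else w⁻¹ := by
    intro j
    induction j with
    | zero => simp
    | succ j ih =>
      rw [show g ^ (j + 1) * w * (g ^ (j + 1))⁻¹ = g * (g ^ j * w * (g ^ j)⁻¹) * g⁻¹ by
        rw [pow_succ']; group, ih]
      by_cases hj : Even j
      · rw [if_pos hj, if_neg (by rw [Nat.even_add_one]; exact fun hh => hh hj), hg]
      · rw [if_neg hj, if_pos (Nat.even_add_one.2 hj),
          show g * w⁻¹ * g⁻¹ = (g * w * g⁻¹)⁻¹ by group, hg, inv_inv]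
  set v := g ^ m with hvdef
  have hv : v * w * v⁻¹ = w⁻¹ := by rw [hvdef, hconj, if_neg (Nat.not_even_iff_odd.2 hm)]
  have hv2 : v ^ (2 ^ k) = 1 := by rw [hvdef, ← pow_mul, mul_comm, ← hgo, pow_orderOf_eq_one]
  have hv1 : v ≠ 1 := by
    intro h1
    rw [h1, one_mul, inv_one, mul_one] at hv
    exact (orderOf_eq_iff (by norm_num : 0 < 3)).1 hw |>.2 2 (by norm_num) (by norm_num) (by
      rw [pow_two]
      conv_lhs => arg 1; rw [hv]
      exact inv_mul_cancel w)
  have hvF : v • F = F := by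
    rw [← hwfix, smul_fixedBy, hv, fixedBy_inv]
  set V : MulAction.stabilizer G F := ⟨v, hvF⟩
  set X : MulAction.stabilizer G F := ⟨x, hxF⟩
  have hV1 : ρ V ≠ 1 := by
    intro h1
    obtain ⟨b, hb⟩ : F.Nonempty := Set.nonempty_of_ncard_ne_zero (by rcases h.card with hc | hc <;> omega)
    exact two_element_free h.odd hv2 hv1 b ((mem_fixingSubgroup_iff G).1 ((hker V).1 h1) b hb)
  have hsV := h.image_even ρ e hρ hker V
  have hsX := h.image_even ρ e hρ hker X
  have hX3 : ρ X * ρ X * ρ X = 1 := by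
    rw [← map_mul, ← map_mul, show X * X * X = 1 from Subtype.ext (by
      show x * x * x = 1; rw [← pow_three', ← hx, pow_orderOf_eq_one]), map_one]
  have hV2 : ρ V * ρ V = 1 := by
    have hh : ∀ a : Equiv.Perm (Fin 4), Equiv.Perm.sign a = 1 →
        a * a * a * a * (a * a * a * a) = 1 → a * a = 1 := by decide +kernel
    refine hh _ hsV ?_
    have h1 : orderOf (ρ V) ∣ 2 ^ k :=
      (orderOf_map_dvd ρ V).trans (orderOf_dvd_of_pow_eq_one (Subtype.ext hv2))
    have h2 : orderOf (ρ V) ∣ 24 := by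
      have := orderOf_dvd_natCard (ρ V)
      rwa [Nat.card_perm, Nat.card_fin] at this
    obtain ⟨i, hi, he⟩ := (Nat.dvd_prime_pow Nat.prime_two).1 h1
    have h3 : orderOf (ρ V) ∣ 8 := by
      rw [he] at h2 ⊢
      rcases Nat.lt_or_ge i 4 with h4 | h4
      · exact pow_dvd_pow 2 (show i ≤ 3 by omega)
      · exact absurd ((pow_dvd_pow 2 h4).trans h2) (by decide)
    rw [show ρ V * ρ V * ρ V * ρ V * (ρ V * ρ V * ρ V * ρ V) = ρ V ^ 8 from by
      simp only [pow_succ, pow_zero, one_mul, mul_assoc]]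
    exact orderOf_dvd_iff_pow_eq_one.1 h3
  -- a centralising element with the image of `v`
  have hcx : (x : G) * w * x⁻¹ = w := by rw [hxw, mul_inv_cancel_right]
  obtain ⟨C, hC, hρC⟩ : ∃ C : MulAction.stabilizer G F, (C : G) * w * (C : G)⁻¹ = w ∧ ρ C = ρ V := by
    have hc : (v * x * v⁻¹ * x⁻¹) * w * (v * x * v⁻¹ * x⁻¹)⁻¹ = w := by
      have h1 : x⁻¹ * w * x = w := by
        rw [mul_assoc, ← hxw, ← mul_assoc, inv_mul_cancel, one_mul]
      have h2 : v⁻¹ * w * v = w⁻¹ := by
        calc v⁻¹ * w * v = v⁻¹ * (w⁻¹)⁻¹ * v := by rw [inv_inv]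
          _ = v⁻¹ * (v * w * v⁻¹)⁻¹ * v := by rw [hv]
          _ = w⁻¹ := by group
      calc (v * x * v⁻¹ * x⁻¹) * w * (v * x * v⁻¹ * x⁻¹)⁻¹
          = v * (x * (v⁻¹ * (x⁻¹ * w * x) * v) * x⁻¹) * v⁻¹ := by group
        _ = v * (x * w⁻¹ * x⁻¹) * v⁻¹ := by rw [h1, h2]
        _ = v * (x * w * x⁻¹)⁻¹ * v⁻¹ := by group
        _ = (v * w * v⁻¹)⁻¹ := by rw [hcx]; group
        _ = w := by rw [hv, inv_inv]
    have hconj2 : ∀ a b : G, a * w * a⁻¹ = w → b * w * b⁻¹ = w → a * b * a⁻¹ * w * (a * b * a⁻¹)⁻¹ = w := by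
      intro a b ha hb
      calc a * b * a⁻¹ * w * (a * b * a⁻¹)⁻¹
          = a * (b * (a⁻¹ * (a * w * a⁻¹) * a) * b⁻¹) * a⁻¹ := by rw [ha]; group
        _ = a * (b * w * b⁻¹) * a⁻¹ := by group
        _ = w := by rw [hb, ha]
    rcases perm_four_spread (ρ V) (ρ X) hsV hsX hV2 hV1 hX3 (fun h1 => hxK ((hker X).1 h1)) with
      h1 | h1 | h1
    · exact ⟨V * X * V⁻¹ * X⁻¹, hc, by simp only [map_mul, map_inv]; exact h1.symm⟩
    · exact ⟨X * (V * X * V⁻¹ * X⁻¹) * X⁻¹, hconj2 x _ hcx hc,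
        by simp only [map_mul, map_inv]; exact h1.symm⟩
    · refine ⟨X * X * (V * X * V⁻¹ * X⁻¹) * (X * X)⁻¹, hconj2 (x * x) _ ?_ hc,
        by simp only [map_mul, map_inv]; exact h1.symm⟩
      calc x * x * w * (x * x)⁻¹ = x * (x * w * x⁻¹) * x⁻¹ := by group
        _ = w := by rw [hcx, hcx]
  -- then `C⁻¹ v` fixes `F`, inverts `w`, and its 2-part is trivial
  set u : G := (C : G)⁻¹ * v
  have huF : u ∈ fixingSubgroup G F := (hker (C⁻¹ * V)).1 (by rw [map_mul, map_inv, hρC, inv_mul_cancel])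
  have hu : u * w * u⁻¹ = w⁻¹ := by
    calc u * w * u⁻¹ = (C : G)⁻¹ * (v * w * v⁻¹) * C := by simp only [u]; group
      _ = (C : G)⁻¹ * ((C : G) * w * (C : G)⁻¹)⁻¹ * C := by rw [hv, hC]
      _ = w⁻¹ := by group
  obtain ⟨k', m', hm', huo⟩ := Nat.exists_eq_two_pow_mul_odd (n := orderOf u) (orderOf_pos u).ne'
  have hconju : ∀ j : ℕ, u ^ (2 * j) * w * (u ^ (2 * j))⁻¹ = w := by
    intro j
    induction j with
    | zero => simp
    | succ j ih =>
      rw [show u ^ (2 * (j + 1)) * w * (u ^ (2 * (j + 1)))⁻¹ =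
        u * (u * (u ^ (2 * j) * w * (u ^ (2 * j))⁻¹) * u⁻¹) * u⁻¹ by
          rw [show 2 * (j + 1) = 2 * j + 2 by ring, pow_add, (Commute.pow_pow_self u (2 * j) 2).eq]; group,
        ih, hu, show u * w⁻¹ * u⁻¹ = (u * w * u⁻¹)⁻¹ by group, hu, inv_inv]
  obtain ⟨b, hb⟩ : F.Nonempty := Set.nonempty_of_ncard_ne_zero (by rcases h.card with hc | hc <;> omega)
  obtain ⟨j, hj⟩ := hm'
  have hu2 : u ^ m' = 1 := by
    by_contra h1
    refine two_element_free h.odd (i := k') (by rw [← pow_mul, mul_comm, ← huo, pow_orderOf_eq_one]) h1 b ?_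
    exact (mem_fixingSubgroup_iff G).1 (pow_mem huF m') b hb
  rw [hj, pow_succ, mul_eq_one_iff_eq_inv] at hu2
  have h1 := hconju j
  rw [hu2] at h1
  have h3 : w = w⁻¹ := by
    calc w = u⁻¹ * w * u⁻¹⁻¹ := h1.symm
      _ = u⁻¹ * (w⁻¹)⁻¹ * u := by rw [inv_inv, inv_inv]
      _ = u⁻¹ * (u * w * u⁻¹)⁻¹ * u := by rw [hu]
      _ = w⁻¹ := by group
  exact (orderOf_eq_iff (by norm_num : 0 < 3)).1 hw |>.2 2 (by norm_num) (by norm_num) (by
    rw [pow_two]
    conv_lhs => arg 1; rw [h3]
    exact inv_mul_cancel w)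

/-- Evaluation of a transfer to an abelian group at an element all whose fixed cosets contribute
the same value and whose other orbits contribute nothing. -/
theorem transfer_pow_fixed [IsSimpleGroup G] (hna : ¬ IsMulCommutative G) {H : Subgroup G} {A : Type*}
    [CommGroup A] (ψ : H →* A) (x : G) (c : A)
    (hfix : ∀ (g : G) (hg : g⁻¹ * x * g ∈ H), ψ ⟨g⁻¹ * x * g, hg⟩ = c)
    (hmove : ∀ (g : G) (l : ℕ) (hl : g⁻¹ * x ^ l * g ∈ H), l ≠ 1 →
      Function.minimalPeriod (x • ·) (g : G ⧸ H) = l → ψ ⟨g⁻¹ * x ^ l * g, hl⟩ = 1) :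
    c ^ (fixedBy (G ⧸ H) x).ncard = 1 := by
  classical
  cases nonempty_fintype G
  have htriv : MonoidHom.transfer ψ x = 1 := by
    rcases SmallOrder.injective_or_eq_one (MonoidHom.transfer ψ) with hi | hi
    · exact absurd ⟨⟨fun a b => hi (by rw [map_mul, map_mul, mul_comm])⟩⟩ hna
    · exact DFunLike.congr_fun hi x
  rw [MonoidHom.transfer_eq_prod_quotient_orbitRel_zpowers_quot] at htriv
  set per := fun q : Quotient (orbitRel (Subgroup.zpowers x) (G ⧸ H)) =>
    Function.minimalPeriod (x • ·) q.out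
  have hterm : ∀ q : Quotient (orbitRel (Subgroup.zpowers x) (G ⧸ H)),
      ψ ⟨q.out.out⁻¹ * x ^ Function.minimalPeriod (x • ·) q.out * q.out.out,
        QuotientGroup.out_conj_pow_minimalPeriod_mem H x q.out⟩ = if per q = 1 then c else 1 := by
    intro q
    split_ifs with hq
    · have hmem := QuotientGroup.out_conj_pow_minimalPeriod_mem H x q.out
      have hq' : Function.minimalPeriod (x • ·) q.out = 1 := hq
      simp only [hq', pow_one] at hmem ⊢
      exact hfix _ hmem
    · exact hmove _ _ _ hq (by rw [QuotientGroup.out_eq'])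
  rw [Finset.prod_congr rfl (fun q _ => hterm q), ← Finset.prod_filter, Finset.prod_const] at htriv
  rw [← htriv]
  congr 1
  rw [← Fintype.card_subtype, ← Nat.card_eq_fintype_card, ← Nat.card_coe_set_eq]
  have hfixq : ∀ q : {q // per q = 1}, x • (q.1.out : G ⧸ H) = q.1.out := fun q =>
    Function.minimalPeriod_eq_one_iff_isFixedPt.1 q.2
  refine (Nat.card_eq_of_bijective (fun q : {q // per q = 1} =>
    (⟨q.1.out, hfixq q⟩ : fixedBy (G ⧸ H) x)) ⟨?_, ?_⟩).symm
  · intro a b hab
    exact Subtype.ext (Quotient.out_injective (congrArg Subtype.val hab))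
  · rintro ⟨y, hy⟩
    have hout : (Quotient.mk (orbitRel (Subgroup.zpowers x) (G ⧸ H)) y).out = y := by
      obtain ⟨⟨s, hs⟩, hsy⟩ := Quotient.mk_out (s := orbitRel (Subgroup.zpowers x) (G ⧸ H)) y
      obtain ⟨j, rfl⟩ := Subgroup.mem_zpowers_iff.1 hs
      rw [← hsy]
      exact mem_fixedBy_zpow hy j
    exact ⟨⟨_, Function.minimalPeriod_eq_one_iff_isFixedPt.2 ((congrArg (x • ·) hout).trans ((show x • y = y from hy).trans hout.symm))⟩,
      Subtype.ext hout⟩

end CfsgLib.FixityFour
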