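import Cfsg.Agent.Lib.FixityFour.OddBasic
import Cfsg.Agent.Lib.PGroup.Basic
import Cfsg.Agent.Lib.SylowOver.Basic

/-!
Fixity four, odd point stabilizers: an element of order three moving points of `F` inside it has
a centralizer whose Sylow 3-subgroups are elementary of order nine.
-/

set_option autoImplicit false
set_option linter.style.haveILetI false
set_option linter.unusedSectionVars false

open MulAction
open scoped Pointwise

namespace CfsgLib.FixityFour

namespace OddSmall

variable {G : Type*} [Group G] [Finite G]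

/-- A Sylow 3-subgroup of a subgroup, as a subgroup of the whole group, above a given 3-subgroup. -/
theorem exists_sylow_in (H E : Subgroup G) (hEH : E ≤ H) (hE : IsPGroup 3 E) :
    ∃ R : Subgroup G, E ≤ R ∧ R ≤ H ∧ IsPGroup 3 R ∧
      (∀ k : ℕ, 3 ^ k ∣ Nat.card H → 3 ^ k ∣ Nat.card R) ∧
      ∀ Q : Subgroup G, Q ≤ H → IsPGroup 3 Q → ∃ g ∈ H, ∀ x ∈ Q, g * x * g⁻¹ ∈ R := by
  haveI := Fact.mk Nat.prime_three
  obtain ⟨S, hS⟩ := (hE.comap_subtype (K := H)).exists_le_sylow
  refine ⟨(S : Subgroup H).map H.subtype, fun x hx => ⟨⟨x, hEH hx⟩, hS hx, rfl⟩,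
    Subgroup.map_subtype_le _, S.isPGroup'.map _, fun k hk => ?_, fun Q hQH hQ => ?_⟩
  · rw [Subgroup.card_map_of_injective H.subtype_injective, S.card_eq_multiplicity]
    exact pow_dvd_pow 3 ((Nat.prime_three.pow_dvd_iff_le_factorization Nat.card_pos.ne').1 hk)
  · obtain ⟨g, hg⟩ := SylowOver.exists_conj_le (p := 3) (S : Subgroup H) S.not_dvd_index
      (hQ.comap_subtype (K := H))
    exact ⟨g, g.2, fun x hx => ⟨g * ⟨x, hQH hx⟩ * g⁻¹, hg ⟨x, hQH hx⟩ hx, rfl⟩⟩

theorem isPGroup_zpowers {y : G} (hy : orderOf y = 3) : IsPGroup 3 (Subgroup.zpowers y) :=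
  IsPGroup.of_card (n := 1) (by rw [Nat.card_zpowers, hy, pow_one])

theorem cube {y : G} (hy : orderOf y = 3) : y * y * y = 1 := by
  rw [← pow_three', ← hy, pow_orderOf_eq_one]

/-- An element of odd order commutes with whatever its square commutes with. -/
theorem commute_of_sq {a w : G} (ha : Odd (orderOf a)) (h : Commute (a * a) w) : Commute a w := by
  obtain ⟨k, hk⟩ := ha
  have h1 : (a * a) ^ (k + 1) = a := by
    rw [← pow_two, ← pow_mul, show 2 * (k + 1) = orderOf a + 1 by omega, pow_succ,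
      pow_orderOf_eq_one, one_mul]
  rw [← h1]
  exact h.pow_left _

/-- A group of 3-power order with at most four elements has at most three. -/
theorem card_le_three {H : Subgroup G} (hH : IsPGroup 3 H) (h : Nat.card H ≤ 4) :
    Nat.card H ≤ 3 := by
  haveI := Fact.mk Nat.prime_three
  obtain ⟨i, hi⟩ := hH.exists_card_eq
  rw [hi] at h ⊢
  rcases i with - | - | i
  · norm_num
  · norm_num
  · have := Nat.pow_le_pow_right (show 3 > 0 by norm_num) (show 2 ≤ i + 2 by omega)
    omega

/-- Two automorphisms of this shape compose to one inverting `w`. -/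
theorem exists_inverter {a b y w : G} (hy : y * y * y = 1) (hw : w * w * w = 1)
    (hyw : y * w = w * y) (hay : a * y * a⁻¹ = y) (haw : a * w * a⁻¹ = y * y * w)
    (hbw : b * w * b⁻¹ = w) (hby : b * y * b⁻¹ = y * w) : ∃ g : G, g * w * g⁻¹ = w⁻¹ := by
  have hc : ∀ c u v : G, c * (u * v) * c⁻¹ = (c * u * c⁻¹) * (c * v * c⁻¹) := fun c u v => by group
  refine ⟨a * b * a * (a * b * a), ?_⟩
  have h1 : (a * b * a) * y * (a * b * a)⁻¹ = w := by
    calc (a * b * a) * y * (a * b * a)⁻¹ = a * (b * (a * y * a⁻¹) * b⁻¹) * a⁻¹ := by group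
      _ = a * (y * w) * a⁻¹ := by rw [hay, hby]
      _ = y * (y * y * w) := by rw [hc, hay, haw]
      _ = (y * y * y) * w := by group
      _ = w := by rw [hy, one_mul]
  have h2 : (a * b * a) * w * (a * b * a)⁻¹ = y * y := by
    calc (a * b * a) * w * (a * b * a)⁻¹ = a * (b * (a * w * a⁻¹) * b⁻¹) * a⁻¹ := by group
      _ = a * ((y * w) * (y * w) * w) * a⁻¹ := by rw [haw, hc b, hc b, hby, hbw]
      _ = a * (y * (w * y) * w * w) * a⁻¹ := by group
      _ = a * (y * (y * w) * w * w) * a⁻¹ := by rw [hyw]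
      _ = a * (y * y * (w * w * w)) * a⁻¹ := by group
      _ = a * (y * y) * a⁻¹ := by rw [hw, mul_one]
      _ = y * y := by rw [hc, hay]
  calc (a * b * a * (a * b * a)) * w * (a * b * a * (a * b * a))⁻¹
      = (a * b * a) * ((a * b * a) * w * (a * b * a)⁻¹) * (a * b * a)⁻¹ := by group
    _ = w * w := by rw [h2, hc, h1]
    _ = w⁻¹ := eq_inv_of_mul_eq_one_left (by rw [hw])

end OddSmall

open OddSmall

variable {G Ω : Type*} [Group G] [MulAction G Ω] [Finite G] [Finite Ω] {F : Set Ω}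

theorem conj_mem_fixing {s k : G} (hs : s • F = F) (hk : k ∈ fixingSubgroup G F) :
    s * k * s⁻¹ ∈ fixingSubgroup G F := by
  rw [mem_fixingSubgroup_iff] at hk ⊢
  intro x hx
  have hx' : s⁻¹ • x ∈ F := by
    rw [← Set.mem_smul_set_iff_inv_smul_mem, hs]
    exact hx
  rw [mul_smul, mul_smul, hk _ hx', smul_inv_smul]

theorem smul_eq_of_fixing {k : G} (hk : k ∈ fixingSubgroup G F) : k • F = F := by
  rw [mem_fixingSubgroup_iff] at hk
  ext x
  refine ⟨?_, fun hx => ⟨x, hx, hk x hx⟩⟩
  rintro ⟨z, hz, rfl⟩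
  show k • z ∈ F
  rw [hk z hz]
  exact hz

namespace OddSetting

/-- A central element of order three of `P` fixing `F` pointwise. -/
theorem exists_central (h : OddSetting (G := G) F) (P : Sylow 3 G)
    (hPF : ∀ g ∈ (P : Subgroup G), g • F = F) :
    ∃ w ∈ (P : Subgroup G), w ∈ fixingSubgroup G F ∧ orderOf w = 3 ∧
      ∀ g ∈ (P : Subgroup G), g * w = w * g := by
  haveI := Fact.mk Nat.prime_three
  obtain ⟨x, hx, hxF⟩ := h.exists_fix
  set H := MulAction.stabilizer G F
  have hxK : x ∈ fixingSubgroup G F := (mem_fixingSubgroup_iff G).2 fun a ha => by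
    rw [← hxF] at ha; exact ha
  have hPH : (P : Subgroup G) ≤ H := fun g hg => hPF g hg
  obtain ⟨g, hg⟩ := SylowOver.exists_conj_le (p := 3) ((P : Subgroup G).subgroupOf H)
    (P.subtype hPH).not_dvd_index ((isPGroup_zpowers hx).comap_subtype (K := H))
  have hxP : (g : G) * x * (g : G)⁻¹ ∈ (P : Subgroup G) :=
    hg ⟨x, smul_eq_of_fixing hxK⟩ (Subgroup.mem_zpowers x)
  have hnorm : ((fixingSubgroup G F).subgroupOf (P : Subgroup G)).Normal :=
    ⟨fun n hn q => conj_mem_fixing (hPF q q.2) hn⟩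
  have hne : (fixingSubgroup G F).subgroupOf (P : Subgroup G) ≠ ⊥ := by
    intro hb
    have h1 := (Subgroup.eq_bot_iff_forall _).1 hb ⟨_, hxP⟩ (conj_mem_fixing g.2 hxK)
    have h2 : x = 1 := conj_eq_one_iff.1 (congrArg Subtype.val h1)
    rw [h2, orderOf_one] at hx
    omega
  obtain ⟨z, hz, hzc, hzo⟩ := PGroup.exists_central_orderOf_eq P.isPGroup' _ hne
  exact ⟨z, z.2, hz, by rw [Subgroup.orderOf_coe]; exact hzo,
    fun g hg => congrArg Subtype.val (Subgroup.mem_center_iff.1 hzc ⟨g, hg⟩)⟩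

/-- An element of order three moving points of `F` inside it fixes a point off `F`. -/
theorem exists_outside (h : OddSetting (G := G) F) {y : G} (hy : orderOf y = 3) (hyF : y • F = F)
    (hyK : y ∉ fixingSubgroup G F) (hfix : 2 ≤ (fixedBy Ω y).ncard) :
    ∃ b ∈ fixedBy Ω y, b ∉ F := by
  have hy3 := cube hy
  obtain ⟨a, ha, hay⟩ : ∃ a ∈ F, y • a ≠ a := by
    by_contra hc
    push Not at hc
    exact hyK ((mem_fixingSubgroup_iff G).2 hc)
  have h3 : ({a, y • a, y • y • a} : Set Ω).ncard = 3 := by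
    refine Set.ncard_eq_three.2 ⟨a, y • a, y • y • a, hay.symm, fun e => hay ?_, fun e => hay ?_, rfl⟩
    · calc y • a = y • y • y • a := by rw [← e]
        _ = a := by rw [← mul_smul, ← mul_smul, hy3, one_smul]
    · exact (smul_left_cancel y e).symm
  have hmem : ∀ {z}, z ∈ F → y • z ∈ F := fun hz => by
    have := Set.smul_mem_smul_set (a := y) hz
    rwa [hyF] at this
  have hsub : ({a, y • a, y • y • a} : Set Ω) ⊆ F \ fixedBy Ω y := by
    rintro z (rfl | rfl | rfl)
    · exact ⟨ha, hay⟩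
    · exact ⟨hmem ha, fun e => hay (smul_left_cancel y e)⟩
    · exact ⟨hmem (hmem ha), fun e => hay (smul_left_cancel y (smul_left_cancel y e))⟩
  have h4 := Set.ncard_le_ncard hsub (Set.toFinite _)
  have h5 := Set.ncard_inter_add_ncard_sdiff_eq_ncard F (fixedBy Ω y) (Set.toFinite _)
  by_contra hc
  push Not at hc
  have h6 : fixedBy Ω y ⊆ F ∩ fixedBy Ω y := fun z hz => ⟨hc z hz, hz⟩
  have h7 := Set.ncard_le_ncard h6 (Set.toFinite _)
  rcases h.card with hF | hF <;> omega

/-- The centralizer in `P` of an element of order three moving points of `F` has order nine. -/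
theorem fixer_card (h : OddSetting (G := G) F) (P : Sylow 3 G)
    (hPF : ∀ g ∈ (P : Subgroup G), g • F = F) {y : G} (hyP : y ∈ (P : Subgroup G))
    (hy : orderOf y = 3) (hyK : y ∉ fixingSubgroup G F) (hfix : 2 ≤ (fixedBy Ω y).ncard) :
    Nat.card ↥((P : Subgroup G) ⊓ Subgroup.centralizer ({y} : Set G)) = 9 := by
  haveI := Fact.mk Nat.prime_three
  obtain ⟨w, hwP, hwK, hw, hwc⟩ := h.exists_central P hPF
  obtain ⟨b, hby, hbF⟩ := h.exists_outside hy (hPF y hyP) hyK hfix
  set C := (P : Subgroup G) ⊓ Subgroup.centralizer ({y} : Set G) with hC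
  have hCp : IsPGroup 3 C := P.isPGroup'.to_le inf_le_left
  obtain ⟨ρ, e, -, hker, -⟩ := h.exists_perm
  let φ : C →* Equiv.Perm (Fin 4) :=
    ρ.comp (Subgroup.inclusion (fun g hg => hPF g hg.1 : C ≤ MulAction.stabilizer G F))
  have hφ : ∀ c : C, φ c = 1 ↔ (c : G) ∈ fixingSubgroup G F := fun c => hker _
  -- the image
  obtain ⟨i, hi⟩ := (hCp.of_surjective φ.rangeRestrict φ.rangeRestrict_surjective).exists_card_eq
  have hdvd := Subgroup.card_subgroup_dvd_card φ.range
  rw [Nat.card_perm, Nat.card_fin, show Nat.factorial 4 = 24 from rfl, hi] at hdvd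
  have hi1 : i ≤ 1 := by
    by_contra hc
    exact absurd ((pow_dvd_pow 3 (show 2 ≤ i by omega)).trans hdvd) (by norm_num)
  have hi0 : i ≠ 0 := by
    rintro rfl
    have hyC : y ∈ C := ⟨hyP, SelfCentEight.mem_cent.2 rfl⟩
    rw [pow_zero, Subgroup.card_eq_one, MonoidHom.range_eq_bot_iff] at hi
    exact hyK ((hφ ⟨y, hyC⟩).1 (by rw [hi]; rfl))
  -- the kernel acts semiregularly on the points fixed by `y` off `F`
  have hkey : Nat.card φ.ker ≤ (fixedBy Ω y).ncard := by
    rw [← Nat.card_coe_set_eq]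
    refine Nat.card_le_card_of_injective
      (fun c : φ.ker => (⟨((c : C) : G) • b, ?_⟩ : fixedBy Ω y)) ?_
    · show y • ((c : C) : G) • b = ((c : C) : G) • b
      rw [← mul_smul, ← SelfCentEight.mem_cent.1 c.1.2.2, mul_smul, show y • b = b from hby]
    · intro c d hcd
      have he : ((c : C) : G) • b = ((d : C) : G) • b := congrArg Subtype.val hcd
      have hk : (((c⁻¹ * d : φ.ker) : C) : G) ∈ fixingSubgroup G F := (hφ _).1 (c⁻¹ * d).2
      obtain ⟨j, hj⟩ := hCp ((c⁻¹ * d : φ.ker) : C)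
      by_contra hne
      have hne' : (((c⁻¹ * d : φ.ker) : C) : G) ≠ 1 := fun h1 =>
        hne (inv_mul_eq_one.1 (Subtype.ext (Subtype.ext h1)))
      refine hbF ?_
      rw [← h.exact (congrArg Subtype.val hj) hne' hk]
      show (((c : C) : G)⁻¹ * ((d : C) : G)) • b = b
      rw [mul_smul, ← he, inv_smul_smul]
  obtain ⟨j, hj⟩ := (hCp.to_subgroup φ.ker).exists_card_eq
  have hy1 : y ≠ 1 := fun h1 => hyK (h1 ▸ one_mem _)
  have h4 := h.hyp.ncard_le hy1
  have hj1 : j ≤ 1 := by
    by_contra hc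
    have := Nat.pow_le_pow_right (show 3 > 0 by norm_num) (show 2 ≤ j by omega)
    omega
  have hj0 : j ≠ 0 := by
    rintro rfl
    rw [pow_zero, Subgroup.card_eq_one] at hj
    have hwC : w ∈ C := ⟨hwP, SelfCentEight.mem_cent.2 (hwc y hyP).symm⟩
    have hmem : (⟨w, hwC⟩ : C) ∈ φ.ker := (hφ _).2 hwK
    rw [hj, Subgroup.mem_bot] at hmem
    have hw1 : w = 1 := congrArg Subtype.val hmem
    rw [hw1, orderOf_one] at hw
    omega
  rw [Subgroup.card_eq_card_quotient_mul_card_subgroup φ.ker,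
    Nat.card_congr (QuotientGroup.quotientKerEquivRange φ).toEquiv, hi, hj,
    show i = 1 by omega, show j = 1 by omega]
  norm_num

/-- The full centralizer has elementary Sylow 3-subgroups of order nine. -/
theorem small_centralizer (h : OddSetting (G := G) F) (P : Sylow 3 G)
    (hPF : ∀ g ∈ (P : Subgroup G), g • F = F) (h27 : 27 ≤ Nat.card (P : Subgroup G)) {y : G}
    (hyP : y ∈ (P : Subgroup G)) (hy : orderOf y = 3) (hyK : y ∉ fixingSubgroup G F)
    (h9 : Nat.card ↥((P : Subgroup G) ⊓ Subgroup.centralizer ({y} : Set G)) = 9)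
    (hmax : ¬ 27 ∣ Nat.card ↥(MulAction.stabilizer G F ⊓ Subgroup.centralizer ({y} : Set G))) :
    ¬ 27 ∣ Nat.card (Subgroup.centralizer ({y} : Set G)) ∧
      ∀ c : G, c * y = y * c → orderOf c ≠ 9 := by
  haveI := Fact.mk Nat.prime_three
  obtain ⟨w, hwP, hwK, hw, hwc⟩ := h.exists_central P hPF
  have hy3 := cube hy
  have hw3 := cube hw
  have hw1 : w ≠ 1 := fun h1 => by rw [h1, orderOf_one] at hw; omega
  have hyw : y * w = w * y := hwc y hyP
  set E := (P : Subgroup G) ⊓ Subgroup.centralizer ({y} : Set G) with hE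
  have hyE : y ∈ E := ⟨hyP, SelfCentEight.mem_cent.2 rfl⟩
  have hwE : w ∈ E := ⟨hwP, SelfCentEight.mem_cent.2 hyw.symm⟩
  have hy2K : y * y ∉ fixingSubgroup G F := fun h1 => hyK (by
    have h2 : y = (y * y) * (y * y) := by
      calc y = (y * y * y) * y := by rw [hy3, one_mul]
        _ = _ := by group
    rw [h2]
    exact mul_mem h1 h1)
  have hpowK : ∀ i < 3, y ^ i ∈ fixingSubgroup G F → i = 0 := by
    intro i hi hmem
    interval_cases i
    · rfl
    · exact absurd (by rwa [pow_one] at hmem) hyK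
    · exact absurd (by rwa [pow_two] at hmem) hy2K
  -- coordinates in `E`
  have hcoord : ∀ u ∈ E, ∃ i < 3, ∃ j < 3, u = y ^ i * w ^ j := by
    intro u hu
    let f : Fin 3 × Fin 3 → E := fun p =>
      ⟨y ^ (p.1 : ℕ) * w ^ (p.2 : ℕ), mul_mem (pow_mem hyE _) (pow_mem hwE _)⟩
    have hf : Function.Injective f := by
      rintro ⟨i, j⟩ ⟨k, l⟩ hp
      have he : y ^ (i : ℕ) * w ^ (j : ℕ) = y ^ (k : ℕ) * w ^ (l : ℕ) := congrArg Subtype.val hp
      have hsym : ∀ {i j k l : ℕ}, i ≤ k → k < 3 →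
          y ^ i * w ^ j = y ^ k * w ^ l → k = i := by
        intro i j k l hik hk3 he
        have hk' : y ^ (k - i) = w ^ j * (w ^ l)⁻¹ := by
          rw [eq_mul_inv_iff_mul_eq]
          refine mul_left_cancel (a := y ^ i) ?_
          rw [← mul_assoc, ← pow_add, Nat.add_sub_cancel' hik, he]
        have := hpowK (k - i) (by omega)
          (hk' ▸ mul_mem (pow_mem hwK _) (inv_mem (pow_mem hwK _)))
        omega
      have hik : (i : ℕ) = k := by
        rcases le_total (i : ℕ) k with hle | hle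
        · exact (hsym hle k.2 he).symm
        · exact hsym hle i.2 he.symm
      rw [hik] at he
      exact Prod.ext (Fin.ext hik) (Fin.ext (pow_injOn_Iio_orderOf
        (Set.mem_Iio.2 (by rw [hw]; exact j.2)) (Set.mem_Iio.2 (by rw [hw]; exact l.2)) (mul_left_cancel he)))
    have hbij : Function.Bijective f :=
      hf.bijective_of_nat_card_le (by rw [h9]; simp)
    obtain ⟨⟨i, j⟩, hp⟩ := hbij.2 ⟨u, hu⟩
    exact ⟨i, i.2, j, j.2, (congrArg Subtype.val hp).symm⟩
  have hexp : ∀ u ∈ E, u * u * u = 1 := by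
    intro u hu
    obtain ⟨i, -, j, -, rfl⟩ := hcoord u hu
    have hc : Commute (y ^ i) (w ^ j) := (show Commute y w from hyw).pow_pow i j
    rw [← pow_three', hc.mul_pow, ← pow_mul, ← pow_mul, mul_comm i, mul_comm j, pow_mul, pow_mul,
      pow_three', pow_three', hy3, hw3, one_pow, one_pow, one_mul]
  have hEc : E ≤ Subgroup.centralizer ({y} : Set G) := inf_le_right
  have hES : E ≤ MulAction.stabilizer G F := fun u hu => hPF u hu.1
  have hEp : IsPGroup 3 E := P.isPGroup'.to_le inf_le_left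
  obtain ⟨R, hER, hRC, hRp, hRdvd, hRconj⟩ := exists_sylow_in _ E hEc hEp
  have hRE : R = E := by
    by_contra hne
    have hlt : E < R := lt_of_le_of_ne hER (Ne.symm hne)
    -- an element normalising `E`
    haveI := hRp.isNilpotent
    have hlt' : E.subgroupOf R < ⊤ := lt_top_iff_ne_top.2 fun ht => hlt.not_ge
      (Subgroup.subgroupOf_eq_top.1 ht)
    obtain ⟨⟨a, haR⟩, hanorm, haE⟩ := SetLike.exists_of_lt
      (Group.normalizerCondition_of_isNilpotent _ hlt')
    have hanorm' : ∀ u ∈ E, a * u * a⁻¹ ∈ E := fun u hu =>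
      (Subgroup.mem_normalizer_iff.1 hanorm ⟨u, hER hu⟩).1 hu
    have hay : a * y = y * a := SelfCentEight.mem_cent.1 (hRC haR)
    have hay' : a * y * a⁻¹ = y := by rw [hay, mul_inv_cancel_right]
    have haF : a ∉ MulAction.stabilizer G F := by
      intro haS
      set E' := E ⊔ Subgroup.zpowers a with hE'
      have hlt9 : E < E' := lt_of_le_not_ge le_sup_left fun hle =>
        haE (hle ((le_sup_right : _ ≤ E') (Subgroup.mem_zpowers a)))
      have hE'p : IsPGroup 3 E' := hRp.to_le (sup_le hER (Subgroup.zpowers_le.2 haR))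
      obtain ⟨n, hn⟩ := hE'p.exists_card_eq
      have h10 : 9 < Nat.card E' := by
        rcases (Subgroup.card_le_of_le hlt9.le).lt_or_eq with h' | h'
        · omega
        · exact absurd (Subgroup.eq_of_le_of_card_ge hlt9.le h'.ge) hlt9.ne
      have hn3 : 3 ≤ n := by
        by_contra hc
        have := Nat.pow_le_pow_right (show 3 > 0 by norm_num) (show n ≤ 2 by omega)
        omega
      refine hmax (Dvd.dvd.trans ?_ (Subgroup.card_dvd_of_le (H := E') (le_inf
        (sup_le hES (Subgroup.zpowers_le.2 haS))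
        (sup_le hEc (Subgroup.zpowers_le.2 (hRC haR))))))
      rw [hn]
      exact pow_dvd_pow 3 hn3
    obtain ⟨i, hi, j, hj, haw⟩ := hcoord _ (hanorm' w hwE)
    have hi0 : i ≠ 0 := by
      rintro rfl
      rw [pow_zero, one_mul] at haw
      refine haF (MulAction.mem_stabilizer_iff.2 ?_)
      have hwfix : fixedBy Ω w = F :=
        h.exact (i := 1) (by rw [pow_one, pow_three', hw3]) hw1 hwK
      have hne' : a * w * a⁻¹ ≠ 1 := fun h1 => hw1 (conj_eq_one_iff.1 h1)
      have hfix' : fixedBy Ω (a * w * a⁻¹) = F := by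
        refine h.exact (i := 1) ?_ hne' (haw ▸ pow_mem hwK _)
        rw [pow_one, pow_three', show a * w * a⁻¹ * (a * w * a⁻¹) * (a * w * a⁻¹) =
          a * (w * w * w) * a⁻¹ by group, hw3, mul_one, mul_inv_cancel]
      rw [← smul_fixedBy, hwfix] at hfix'
      exact hfix'
    have haodd : Odd (orderOf a) := by
      obtain ⟨m, hm⟩ := IsPGroup.iff_orderOf.1 hRp ⟨a, haR⟩
      rw [← Subgroup.orderOf_coe] at hm
      show Odd (orderOf a)
      rw [show orderOf a = 3 ^ m from hm]
      exact Odd.pow (by decide)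
    have hj1 : j = 1 := by
      interval_cases j
      · exfalso
        rw [pow_zero, mul_one] at haw
        have hw' : w = y ^ i := by
          calc w = a⁻¹ * (a * w * a⁻¹) * a := by group
            _ = a⁻¹ * y ^ i * a := by rw [haw]
            _ = y ^ i := by
              rw [mul_assoc, ← ((show Commute a y from hay).pow_right i).eq, inv_mul_cancel_left]
        exact hi0 (hpowK i hi (hw' ▸ hwK))
      · rfl
      · exfalso
        have h2 : Commute (a * a) w := by
          have hcp : a * (y ^ i) * a⁻¹ = y ^ i := by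
            rw [((show Commute a y from hay).pow_right i).eq, mul_inv_cancel_right]
          have : (a * a) * w * (a * a)⁻¹ = w := by
            calc (a * a) * w * (a * a)⁻¹ = a * (a * w * a⁻¹) * a⁻¹ := by group
              _ = (a * y ^ i * a⁻¹) * ((a * w * a⁻¹) * (a * w * a⁻¹)) := by (conv_lhs => rw [haw]); simp only [pow_two]; group
              _ = y ^ i * (y ^ i * w ^ 2 * (y ^ i * w ^ 2)) := by rw [hcp, haw]
              _ = y ^ i * (y ^ i * ((w ^ 2 * y ^ i) * w ^ 2)) := by group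
              _ = y ^ i * (y ^ i * ((y ^ i * w ^ 2) * w ^ 2)) := by
                rw [((show Commute y w from hyw).pow_pow i 2).eq]
              _ = (y ^ i * y ^ i * y ^ i) * (w * w * w * w) := by simp only [pow_two]; group
              _ = w := by
                rw [← pow_three', ← pow_mul, mul_comm, pow_mul, pow_three', hy3, one_pow, one_mul,
                  hw3, one_mul]
          exact mul_inv_eq_iff_eq_mul.1 this
        have h3 := (commute_of_sq haodd h2).eq
        have h4 : a * w * a⁻¹ = w := by rw [h3, mul_inv_cancel_right]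
        rw [h4] at haw
        refine hi0 (hpowK i hi ?_)
        have h5 : y ^ i = w * (w ^ 2)⁻¹ := eq_mul_inv_of_mul_eq haw.symm
        rw [h5]
        exact mul_mem hwK (inv_mem (pow_mem hwK _))
    subst hj1
    rw [pow_one] at haw
    obtain ⟨a', ha'y, ha'w⟩ : ∃ a' : G, a' * y * a'⁻¹ = y ∧ a' * w * a'⁻¹ = y * y * w := by
      interval_cases i
      · exact absurd rfl hi0
      · rw [pow_one] at haw
        refine ⟨a * a, ?_, ?_⟩
        · calc a * a * y * (a * a)⁻¹ = a * (a * y * a⁻¹) * a⁻¹ := by group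
            _ = y := by rw [hay', hay']
        · calc a * a * w * (a * a)⁻¹ = a * (a * w * a⁻¹) * a⁻¹ := by group
            _ = (a * y * a⁻¹) * (a * w * a⁻¹) := by (conv_lhs => rw [haw]); group
            _ = y * y * w := by rw [hay', haw]; group
      · exact ⟨a, hay', by rw [haw, pow_two]⟩
    -- an element of `P` moving `y`
    haveI := P.isPGroup'.isNilpotent
    have hltP : E.subgroupOf (P : Subgroup G) < ⊤ := lt_top_iff_ne_top.2 fun ht => by
      have := Subgroup.card_le_of_le (Subgroup.subgroupOf_eq_top.1 ht)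
      omega
    obtain ⟨⟨b, hbP⟩, hbnorm, hbE⟩ := SetLike.exists_of_lt
      (Group.normalizerCondition_of_isNilpotent _ hltP)
    have hbyE : b * y * b⁻¹ ∈ E :=
      (Subgroup.mem_normalizer_iff.1 hbnorm ⟨y, hyP⟩).1 hyE
    obtain ⟨k, hk, l, hl, hby⟩ := hcoord _ hbyE
    obtain ⟨ψ, hψ⟩ := h.exists_psi
    have hk1 : k = 1 := by
      let B : MulAction.stabilizer G F := ⟨b, hPF b hbP⟩
      let Y : MulAction.stabilizer G F := ⟨y, hPF y hyP⟩
      obtain ⟨m, hm⟩ := P.isPGroup' ⟨b * y * b⁻¹ * y⁻¹,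
        mul_mem (mul_mem (mul_mem hbP hyP) (inv_mem hbP)) (inv_mem hyP)⟩
      have hmem : b * y * b⁻¹ * y⁻¹ ∈ fixingSubgroup G F :=
        (hψ (B * Y * B⁻¹ * Y⁻¹) m (Subtype.ext (congrArg Subtype.val hm :))).1 (by
          simp only [map_mul, map_inv]
          rw [mul_comm (ψ B), mul_assoc (ψ Y), mul_inv_cancel, mul_one, mul_inv_cancel])
      rw [hby, mul_assoc, ((show Commute y w from hyw).symm.pow_left l).inv_right.eq,
        ← mul_assoc] at hmem
      have hmem' : y ^ k * y⁻¹ ∈ fixingSubgroup G F :=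
        (Subgroup.mul_mem_cancel_right _ (pow_mem hwK l)).1 hmem
      interval_cases k
      · rw [pow_zero, one_mul, inv_mem_iff] at hmem'
        exact absurd hmem' hyK
      · rfl
      · rw [pow_two, mul_inv_cancel_right] at hmem'
        exact absurd hmem' hyK
    subst hk1
    rw [pow_one] at hby
    have hbw : b * w * b⁻¹ = w := by rw [hwc b hbP, mul_inv_cancel_right]
    obtain ⟨b', hb'w, hb'y⟩ : ∃ b' : G, b' * w * b'⁻¹ = w ∧ b' * y * b'⁻¹ = y * w := by
      interval_cases l
      · rw [pow_zero, mul_one] at hby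
        exact absurd ⟨hbP, SelfCentEight.mem_cent.2 (mul_inv_eq_iff_eq_mul.1 hby)⟩ hbE
      · exact ⟨b, hbw, by rw [hby, pow_one]⟩
      · refine ⟨b * b, ?_, ?_⟩
        · calc b * b * w * (b * b)⁻¹ = b * (b * w * b⁻¹) * b⁻¹ := by group
            _ = w := by rw [hbw, hbw]
        · calc b * b * y * (b * b)⁻¹ = b * (b * y * b⁻¹) * b⁻¹ := by group
            _ = (b * y * b⁻¹) * ((b * w * b⁻¹) * (b * w * b⁻¹)) := by (conv_lhs => rw [hby]); simp only [pow_two]; group
            _ = y * (w * w * w) * w := by rw [hby, hbw]; simp only [pow_two]; group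
            _ = y * w := by rw [hw3, mul_one]
    obtain ⟨g, hg⟩ := exists_inverter hy3 hw3 hyw ha'y ha'w hb'w hb'y
    exact h.no_inversion hw hwK hy (hPF y hyP) hyK hyw hg
  refine ⟨fun h27' => ?_, fun c hc ho => ?_⟩
  · have := hRdvd 3 h27'
    rw [hRE, h9] at this
    norm_num at this
  · obtain ⟨g, -, hg⟩ := hRconj (Subgroup.zpowers c)
      (Subgroup.zpowers_le.2 (SelfCentEight.mem_cent.2 hc))
      (IsPGroup.of_card (n := 2) (by rw [Nat.card_zpowers, ho]; norm_num))
    have h3 := hexp _ (hRE ▸ hg c (Subgroup.mem_zpowers c))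
    have h3' : c ^ 3 = 1 := by
      rw [pow_three']
      apply conj_eq_one_iff (a := g).1
      rw [← h3]
      group
    have := orderOf_dvd_of_pow_eq_one h3'
    rw [ho] at this
    norm_num at this

/-- The same without assuming that the element lies in `P`. -/
theorem fixer_centralizer (h : OddSetting (G := G) F) (P : Sylow 3 G)
    (hPF : ∀ g ∈ (P : Subgroup G), g • F = F) (h27 : 27 ≤ Nat.card (P : Subgroup G)) {y : G}
    (hyF : y • F = F) (hy : orderOf y = 3) (hyK : y ∉ fixingSubgroup G F)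
    (hfix : 2 ≤ (fixedBy Ω y).ncard) :
    ¬ 27 ∣ Nat.card (Subgroup.centralizer ({y} : Set G)) ∧
      ∀ c : G, c * y = y * c → orderOf c ≠ 9 := by
  haveI := Fact.mk Nat.prime_three
  set H := MulAction.stabilizer G F with hH
  have hyH : y ∈ H ⊓ Subgroup.centralizer ({y} : Set G) := ⟨hyF, SelfCentEight.mem_cent.2 rfl⟩
  obtain ⟨Q, hyQ, hQC, hQp, hQdvd, -⟩ :=
    exists_sylow_in _ _ (Subgroup.zpowers_le.2 hyH) (isPGroup_zpowers hy)
  have hPH : (P : Subgroup G) ≤ H := fun g hg => hPF g hg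
  obtain ⟨s, hs⟩ := SylowOver.exists_conj_le (p := 3) ((P : Subgroup G).subgroupOf H)
    (P.subtype hPH).not_dvd_index (hQp.comap_subtype (K := H))
  have hsP : ∀ x ∈ Q, (s : G) * x * (s : G)⁻¹ ∈ (P : Subgroup G) := fun x hx =>
    hs ⟨x, (hQC hx).1⟩ hx
  set y' := (s : G) * y * (s : G)⁻¹ with hy'
  have hyP' : y' ∈ (P : Subgroup G) := hsP y (hyQ (Subgroup.mem_zpowers y))
  have hyo' : orderOf y' = 3 := hy ▸ (MulAut.conj (s : G)).orderOf_eq y
  have hyK' : y' ∉ fixingSubgroup G F := fun h1 => hyK (by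
    have := conj_mem_fixing (MulAction.mem_stabilizer_iff.1 (inv_mem s.2)) h1
    rwa [show (s : G)⁻¹ * y' * (s : G)⁻¹⁻¹ = y by rw [hy']; group] at this)
  have hfix' : 2 ≤ (fixedBy Ω y').ncard := by
    rwa [hy', ← smul_fixedBy, Set.ncard_smul_set]
  have h9 := h.fixer_card P hPF hyP' hyo' hyK' hfix'
  have hconjC : ∀ (u : G) (x z : G), x * z = z * x →
      (u * x * u⁻¹) * (u * z * u⁻¹) = (u * z * u⁻¹) * (u * x * u⁻¹) := fun u x z e => by
    calc (u * x * u⁻¹) * (u * z * u⁻¹) = u * (x * z) * u⁻¹ := by group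
      _ = u * (z * x) * u⁻¹ := by rw [e]
      _ = _ := by group
  have hQ9 : Nat.card Q ≤ 9 := by
    rw [← h9]
    refine Nat.card_le_card_of_injective (fun x : Q =>
      (⟨(s : G) * x * (s : G)⁻¹, hsP x x.2, SelfCentEight.mem_cent.2
        (hconjC s x y (SelfCentEight.mem_cent.1 (hQC x.2).2))⟩ :
        ↥((P : Subgroup G) ⊓ Subgroup.centralizer ({y'} : Set G)))) fun x z e => ?_
    exact Subtype.ext (mul_left_cancel (mul_right_cancel (congrArg Subtype.val e :)))
  have hmax0 : ¬ 27 ∣ Nat.card ↥(H ⊓ Subgroup.centralizer ({y} : Set G)) := fun hd => by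
    have := Nat.le_of_dvd Nat.card_pos (hQdvd 3 hd)
    omega
  have hmax' : ¬ 27 ∣ Nat.card ↥(H ⊓ Subgroup.centralizer ({y'} : Set G)) := by
    intro hd
    refine hmax0 (hd.trans ?_)
    rw [← Subgroup.card_map_of_injective (f := (MulAut.conj (s : G)⁻¹).toMonoidHom)
      (MulAut.conj (s : G)⁻¹).injective]
    refine Subgroup.card_dvd_of_le ?_
    rintro _ ⟨x, hx, rfl⟩
    show (s : G)⁻¹ * x * (s : G)⁻¹⁻¹ ∈ H ⊓ Subgroup.centralizer ({y} : Set G)
    refine Subgroup.mem_inf.2 ⟨mul_mem (mul_mem (inv_mem s.2) hx.1) (inv_mem (inv_mem s.2)),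
      SelfCentEight.mem_cent.2 ?_⟩
    have hh := hconjC (s : G)⁻¹ x y' (SelfCentEight.mem_cent.1 hx.2)
    rwa [show (s : G)⁻¹ * y' * (s : G)⁻¹⁻¹ = y by rw [hy']; group] at hh
  obtain ⟨h1, h2⟩ := h.small_centralizer P hPF h27 hyP' hyo' hyK' h9 hmax'
  refine ⟨fun hd => h1 (hd.trans ?_), fun c hc ho => h2 ((s : G) * c * (s : G)⁻¹)
    (hconjC s c y hc) (ho ▸ (MulAut.conj (s : G)).orderOf_eq c)⟩
  rw [← Subgroup.card_map_of_injective (f := (MulAut.conj (s : G)).toMonoidHom)
    (MulAut.conj (s : G)).injective]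
  refine Subgroup.card_dvd_of_le ?_
  rintro _ ⟨x, hx, rfl⟩
  exact SelfCentEight.mem_cent.2 (hconjC s x y (SelfCentEight.mem_cent.1 hx))

end OddSetting

end CfsgLib.FixityFour
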