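import Mathlib
import Cfsg.Agent.Lib.SmallOrder.Basic
import Cfsg.Agent.Lib.Invol.Dihedral

/-!
Groups in which non-identity elements fix at most four points: fixed-point and parity basics.
-/

set_option autoImplicit false
set_option maxHeartbeats 400000
set_option linter.style.haveILetI false
set_option linter.unusedSectionVars false

open Equiv MulAction
open scoped Pointwise

namespace CfsgLib.FixityFour

/-- A permutation all of whose moved points have period `m`, with `m` even. -/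
theorem sign_periodic {α : Type*} [Fintype α] [DecidableEq α] (σ : Perm α) (m : ℕ) (hm : Even m)
    (hm0 : 0 < m) (h : ∀ x, σ x ≠ x → ∀ j : ℕ, (σ ^ j) x = x ↔ m ∣ j) :
    m ∣ Fintype.card α - Fintype.card (Function.fixedPoints σ) ∧
      Perm.sign σ = (-1) ^ ((Fintype.card α - Fintype.card (Function.fixedPoints σ)) / m) := by
  have hall : ∀ k ∈ σ.cycleType, k = m := by
    intro k hk
    rw [Perm.cycleType_def, Multiset.mem_map] at hk
    obtain ⟨c, hc, rfl⟩ := hk
    have hc' : c ∈ σ.cycleFactorsFinset := hc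
    obtain ⟨hcy, hap⟩ := Perm.mem_cycleFactorsFinset_iff.1 hc'
    obtain ⟨x, hx⟩ := hcy.nonempty_support
    have hσx : σ x ≠ x := by
      rw [← hap x hx]
      exact Perm.mem_support.1 hx
    have hcof : c = σ.cycleOf x := Perm.cycle_is_cycleOf hx hc'
    have hord : orderOf c = c.support.card := hcy.orderOf
    show c.support.card = m
    rw [← hord]
    apply Nat.dvd_antisymm
    · rw [orderOf_dvd_iff_pow_eq_one, hcy.pow_eq_one_iff' (Perm.mem_support.1 hx), hcof,
        Perm.cycleOf_pow_apply_self]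
      exact (h x hσx m).2 dvd_rfl
    · refine (h x hσx _).1 ?_
      rw [← Perm.cycleOf_pow_apply_self, ← hcof, pow_orderOf_eq_one, Perm.one_apply]
  have hrep : σ.cycleType = Multiset.replicate σ.cycleType.card m :=
    Multiset.eq_replicate.2 ⟨rfl, hall⟩
  refine ⟨?_, ?_⟩
  · rw [σ.card_fixedPoints, Nat.sub_sub_self σ.sum_cycleType_le, hrep, Multiset.sum_replicate,
      smul_eq_mul]
    exact dvd_mul_left _ _
  · rw [Perm.sign_of_cycleType_eq_replicate hm0 hrep, if_neg (Nat.not_odd_iff_even.mpr hm)]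

section Action

variable {G Ω : Type*} [Group G] [MulAction G Ω]

/-- The hypotheses shared by the fixity four arguments. -/
structure Hyp (G Ω : Type*) [Group G] [MulAction G Ω] : Prop where
  hna : ¬ IsMulCommutative G
  htrans : MulAction.IsPretransitive G Ω
  hfix : ∀ g : G, g ≠ 1 → Nat.card (MulAction.fixedBy Ω g) ≤ 4

/-- Fixed points go along with conjugation. -/
theorem mem_fixedBy_conj {g x : G} {a : Ω} :
    g • a ∈ fixedBy Ω (g * x * g⁻¹) ↔ a ∈ fixedBy Ω x := by
  rw [← smul_fixedBy, Set.smul_mem_smul_set_iff]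

theorem smul_eq_self_of_commute {g x : G} (hc : g * x = x * g) :
    g • fixedBy Ω x = fixedBy Ω x := by
  rw [smul_fixedBy, hc, mul_inv_cancel_right]

theorem fixedBy_pow_subset {g : G} (j : ℕ) : fixedBy Ω g ⊆ fixedBy Ω (g ^ j) := by
  have := fixedBy_subset_fixedBy_zpow (α := Ω) g (j : ℤ)
  rwa [zpow_natCast] at this

variable [Finite Ω]

theorem Hyp.ncard_le (h : Hyp G Ω) {g : G} (hg : g ≠ 1) : (fixedBy Ω g).ncard ≤ 4 := by
  rw [← Nat.card_coe_set_eq]
  exact h.hfix g hg

/-- An element fixing five points is trivial. -/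
theorem Hyp.eq_one (h : Hyp G Ω) {g : G} {s : Set Ω} (hs : ∀ x ∈ s, g • x = x)
    (h5 : 4 < s.ncard) : g = 1 := by
  by_contra hg
  have := h.ncard_le hg
  have h' : s.ncard ≤ (fixedBy Ω g).ncard := Set.ncard_le_ncard hs (Set.toFinite _)
  omega

/-- Two fixed sets of four points of nontrivial elements: one is inside, so they are equal. -/
theorem Hyp.eq_of_subset (h : Hyp G Ω) {g : G} (hg : g ≠ 1) {s : Set Ω} (hs : ∀ x ∈ s, g • x = x)
    (h4 : s.ncard = 4) : fixedBy Ω g = s :=
  (Set.eq_of_subset_of_ncard_le hs (by rw [h4]; exact h.ncard_le hg) (Set.toFinite _)).symm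

/-- Parity: `g` acts on `Q`, with period `m` outside. -/
theorem sign_split [Finite G] [IsSimpleGroup G] (hna : ¬ IsMulCommutative G) (g : G) (Q : Set Ω)
    (hQ : g • Q = Q) (m k : ℕ) (hm : Even m) (hm0 : 0 < m) (hk : Even k) (hk0 : 0 < k)
    (hout : ∀ x ∉ Q, ∀ j : ℕ, g ^ j • x = x ↔ m ∣ j)
    (hin : ∀ x ∈ Q, g • x ≠ x → ∀ j : ℕ, g ^ j • x = x ↔ k ∣ j) :
    m ∣ Nat.card Ω - Q.ncard ∧
      Even ((Nat.card Ω - Q.ncard) / m + (Q.ncard - (Q ∩ fixedBy Ω g).ncard) / k) := by
  classical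
  cases nonempty_fintype Ω
  set σ : Perm Ω := MulAction.toPermHom G Ω g
  have hmem : ∀ x, σ x ∈ Q ↔ x ∈ Q := fun x => by
    show g • x ∈ Q ↔ x ∈ Q
    conv_lhs => rw [← hQ]
    exact Set.smul_mem_smul_set_iff
  have hpow : ∀ (j : ℕ) x, (σ ^ j) x = g ^ j • x := fun j x => by
    simp only [σ, ← map_pow]; rfl
  set σ₁ := σ.subtypePerm hmem
  set σ₂ := σ.subtypePerm (p := fun x => x ∉ Q) fun x => not_congr (hmem x)
  have hσ : σ = σ₁.subtypeCongr σ₂ := by
    ext x
    rw [Perm.subtypeCongr.apply]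
    split_ifs <;> rfl
  have hj1 : ∀ (j : ℕ) (x : {x // x ∈ Q}), (σ₁ ^ j) x = x ↔ g ^ j • (x : Ω) = x := fun j x => by
    rw [Perm.subtypePerm_pow, Subtype.ext_iff]
    show (σ ^ j) (x : Ω) = x ↔ _
    rw [hpow]
  have hj2 : ∀ (j : ℕ) (x : {x // x ∉ Q}), (σ₂ ^ j) x = x ↔ g ^ j • (x : Ω) = x := fun j x => by
    rw [Perm.subtypePerm_pow, Subtype.ext_iff]
    show (σ ^ j) (x : Ω) = x ↔ _
    rw [hpow]
  have h1 := sign_periodic σ₁ k hk hk0 fun x hx j => by
    rw [hj1]
    refine hin x x.2 (fun h => hx ?_) j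
    exact (pow_one σ₁) ▸ (hj1 1 x).2 (by rwa [pow_one])
  have h2 := sign_periodic σ₂ m hm hm0 fun x _ j => by
    rw [hj2]
    exact hout x x.2 j
  have hs : Perm.sign σ = 1 := SmallOrder.sign_eq_one hna (MulAction.toPermHom G Ω) g
  rw [hσ, Perm.sign_subtypeCongr, h1.2, h2.2, ← pow_add,
    neg_one_pow_eq_one_iff_even (by decide), add_comm] at hs
  have hc1 : Fintype.card {x // x ∈ Q} = Q.ncard := by
    rw [← Nat.card_eq_fintype_card]; exact Nat.card_coe_set_eq Q
  have hc2 : Fintype.card {x // x ∉ Q} = Nat.card Ω - Q.ncard := by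
    rw [Fintype.card_subtype_compl, hc1, Nat.card_eq_fintype_card]
  have hf2 : Fintype.card (Function.fixedPoints σ₂) = 0 := by
    rw [Fintype.card_eq_zero_iff]
    refine ⟨fun ⟨x, hx⟩ => ?_⟩
    have h1' : g ^ 1 • (x : Ω) = x := (hj2 1 x).1 (by rw [pow_one]; exact hx)
    have := Nat.le_of_dvd one_pos ((hout x x.2 1).1 h1')
    obtain ⟨i, rfl⟩ := hm
    omega
  have hf1 : Fintype.card (Function.fixedPoints σ₁) = (Q ∩ fixedBy Ω g).ncard := by
    rw [← Nat.card_eq_fintype_card, ← Nat.card_coe_set_eq]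
    exact Nat.card_congr
      { toFun := fun x => ⟨x.1.1, x.1.2, congrArg Subtype.val x.2⟩
        invFun := fun x => ⟨⟨x.1, x.2.1⟩, Subtype.ext x.2.2⟩
        left_inv := fun _ => rfl
        right_inv := fun _ => rfl }
  rw [hc1, hc2, hf1, hf2, Nat.sub_zero] at hs
  rw [hc2, hf2, Nat.sub_zero] at h2
  exact ⟨h2.1, hs⟩

/-- Period of the points off `Q` for an element of 2-power order whose involution power fixes
nothing off `Q`. -/
theorem period_of_involution_free {g : G} {Q : Set Ω} {e : ℕ} (hg : orderOf g = 2 ^ (e + 1))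
    (hfree : ∀ x ∉ Q, g ^ (2 ^ e) • x ≠ x) : ∀ x ∉ Q, ∀ j : ℕ, g ^ j • x = x ↔ 2 ^ (e + 1) ∣ j := by
  intro x hx j
  refine ⟨fun hj => ?_, fun hj => ?_⟩
  · have hd : Nat.gcd j (2 ^ (e + 1)) ∣ 2 ^ (e + 1) := Nat.gcd_dvd_right _ _
    obtain ⟨i, hi, he⟩ := (Nat.dvd_prime_pow Nat.prime_two).1 hd
    rcases Nat.lt_or_ge i (e + 1) with h | h
    · exfalso
      apply hfree x hx
      have hgx : g ^ (2 ^ i) • x = x := by
        have h1 : g ^ ((j : ℤ) * Nat.gcdA j (2 ^ (e + 1))
            + ((2 ^ (e + 1) : ℕ) : ℤ) * Nat.gcdB j (2 ^ (e + 1))) • x = x := by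
          rw [zpow_add, zpow_mul, zpow_natCast, zpow_mul, zpow_natCast, ← hg, pow_orderOf_eq_one,
            one_zpow, mul_one]
          exact fixedBy_subset_fixedBy_zpow Ω (g ^ j) _ hj
        rw [← Nat.gcd_eq_gcd_ab, he, zpow_natCast] at h1
        exact h1
      obtain ⟨c, hc⟩ := pow_dvd_pow 2 (show i ≤ e by omega)
      rw [hc, pow_mul]
      exact fixedBy_pow_subset c hgx
    · have : i = e + 1 := le_antisymm hi h
      rw [this] at he
      rw [← he]
      exact Nat.gcd_dvd_left _ _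
  · rw [← hg] at hj
    rw [orderOf_dvd_iff_pow_eq_one.1 hj, one_smul]

/-- An involution of a simple group fixes `n` modulo four many points. -/
theorem involution_parity [Finite G] [IsSimpleGroup G] (hna : ¬ IsMulCommutative G) {t : G}
    (ht : orderOf t = 2) : Nat.card Ω % 4 = (fixedBy Ω t).ncard % 4 := by
  have hp := sign_split hna t (fixedBy Ω t) (smul_eq_self_of_commute rfl) 2 2 even_two two_pos
    even_two two_pos (period_of_involution_free (e := 0) (by rw [ht]; rfl)
      (fun x hx => by rw [pow_zero, pow_one]; exact hx)) (fun x hx h => absurd hx h)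
  rw [Set.inter_self, Nat.sub_self, Nat.zero_div, add_zero] at hp
  obtain ⟨⟨c, hc⟩, d, hd⟩ := hp
  have hle : (fixedBy Ω t).ncard ≤ Nat.card Ω := Set.ncard_le_card _
  rw [hc, Nat.mul_div_cancel_left _ two_pos] at hd
  omega

/-- A group acting semiregularly off a fixed set `Q` has order dividing the size of the rest. -/
theorem card_dvd_of_semiregular (K : Subgroup G) (Q : Set Ω)
    (hQ : ∀ k ∈ K, ∀ x, k • x ∈ Q ↔ x ∈ Q)
    (hfree : ∀ k ∈ K, k ≠ 1 → ∀ x ∉ Q, k • x ≠ x) : Nat.card K ∣ Nat.card Ω - Q.ncard := by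
  classical
  cases nonempty_fintype Ω
  letI : MulAction K {x // x ∉ Q} :=
    { smul := fun k x => ⟨(k : G) • (x : Ω), fun h => x.2 ((hQ _ k.2 _).1 h)⟩
      one_smul := fun x => Subtype.ext (one_smul G (x : Ω))
      mul_smul := fun a b x => Subtype.ext (mul_smul (a : G) (b : G) (x : Ω)) }
  have h1 : Nat.card {x // x ∉ Q} = Nat.card Ω - Q.ncard := by
    rw [Nat.card_eq_fintype_card, Fintype.card_subtype_compl, ← Nat.card_eq_fintype_card,
      ← Nat.card_eq_fintype_card]
    rfl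
  rw [← h1]
  rw [Nat.card_congr (MulAction.selfEquivSigmaOrbits K {x // x ∉ Q}), Nat.card_sigma]
  refine Finset.dvd_sum fun w _ => ?_
  have hst : MulAction.stabilizer K (Quotient.out w) = ⊥ := by
    rw [Subgroup.eq_bot_iff_forall]
    intro k hk
    by_contra hne
    refine hfree k k.2 (fun h => hne (Subtype.ext h)) _ (Quotient.out w).2 ?_
    exact congrArg Subtype.val hk
  rw [show Nat.card ↑(MulAction.orbit K (Quotient.out w)) = Nat.card K from by
    rw [← Subgroup.index_bot (G := K), ← hst, MulAction.index_stabilizer, Nat.card_coe_set_eq]]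

end Action

end CfsgLib.FixityFour
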